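import Mathlib.GroupTheory.Transfer
import Mathlib.GroupTheory.PGroup
import Mathlib.Data.ZMod.Basic

/-!
The transfer of a central involution of a two-group into the centraliser of another involution, when the
two-group fixes one coset.
-/

set_option autoImplicit false
set_option linter.unusedSectionVars false

namespace Cfsg.Agent.Spor.FiTwo.CaseU

universe w u

open scoped _root_.Classical in
theorem transfer_involution {G : Type w} [Group G] [Finite G] {A : Type u} [CommGroup A] (H : Subgroup G)
    [H.FiniteIndex] (φ : ↥H →* A) (T : Subgroup G) (hT : IsPGroup 2 T) (hTH : T ≤ H) {v : G} (hv : v * v = 1)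
    (hvH : v ∈ H) (hcomm : ∀ q ∈ T, Commute q v)
    (honly : ∀ r : G, (∀ q ∈ T, r⁻¹ * q * r ∈ H) → r ∈ H) :
    MonoidHom.transfer φ v = φ ⟨v, hvH⟩ := by
  haveI : Fact (Nat.Prime 2) := ⟨Nat.prime_two⟩
  letI := H.fintypeQuotientOfFiniteIndex
  let φ' : G → A := fun g => if hg : g ∈ H then φ ⟨g, hg⟩ else 1
  let F : G ⧸ H → A := fun x => φ' (x.out⁻¹ * v * x.out)
  have hφ' : ∀ {g} (hg : g ∈ H), φ' g = φ ⟨g, hg⟩ := fun hg => dif_pos hg
  -- conjugation inside does nothing
  have hinv : ∀ (g k : G), k ∈ H → φ' (k⁻¹ * g * k) = φ' g := by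
    intro g k hk
    by_cases hg : g ∈ H
    · rw [hφ' hg, hφ' (H.mul_mem (H.mul_mem (H.inv_mem hk) hg) hk),
        show (⟨k⁻¹ * g * k, H.mul_mem (H.mul_mem (H.inv_mem hk) hg) hk⟩ : ↥H) = ⟨k, hk⟩⁻¹ * ⟨g, hg⟩ * ⟨k, hk⟩ from
          Subtype.ext rfl, map_mul, map_mul, map_inv]
      rw [mul_comm (φ ⟨k, hk⟩)⁻¹, inv_mul_cancel_right]
    · have hg' : k⁻¹ * g * k ∉ H := fun h => hg (by
        have := H.mul_mem (H.mul_mem hk h) (H.inv_mem hk)
        rwa [show k * (k⁻¹ * g * k) * k⁻¹ = g by group] at this)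
      show dite _ _ _ = dite _ _ _
      rw [dif_neg hg, dif_neg hg']
  have hrep : ∀ r : G, ∃ k ∈ H, (QuotientGroup.mk r : G ⧸ H).out = r * k := fun r =>
    ⟨r⁻¹ * (QuotientGroup.mk r : G ⧸ H).out,
      QuotientGroup.eq.mp (QuotientGroup.out_eq' (QuotientGroup.mk r : G ⧸ H)).symm, by group⟩
  have hF : ∀ r : G, F (QuotientGroup.mk r) = φ' (r⁻¹ * v * r) := by
    intro r
    obtain ⟨k, hk, e⟩ := hrep r
    show φ' _ = _
    rw [e, show (r * k)⁻¹ * v * (r * k) = k⁻¹ * (r⁻¹ * v * r) * k by group, hinv _ k hk]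
  have hsq : ∀ x, F x * F x = 1 := by
    intro x
    show φ' _ * φ' _ = 1
    by_cases h : x.out⁻¹ * v * x.out ∈ H
    · rw [hφ' h, ← map_mul, show (⟨_, h⟩ : ↥H) * ⟨_, h⟩ = 1 from Subtype.ext (by
        show x.out⁻¹ * v * x.out * (x.out⁻¹ * v * x.out) = 1
        rw [show x.out⁻¹ * v * x.out * (x.out⁻¹ * v * x.out) = x.out⁻¹ * (v * v) * x.out by group, hv, mul_one,
          inv_mul_cancel]), map_one]
    · show dite _ _ _ * dite _ _ _ = 1
      rw [dif_neg h, mul_one]
  have hfix : ∀ x : G ⧸ H, v • x = x ↔ x.out⁻¹ * v * x.out ∈ H := by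
    intro x
    conv_lhs => rw [← QuotientGroup.out_eq' x, MulAction.Quotient.smul_mk, QuotientGroup.eq]
    rw [smul_eq_mul, mul_inv_rev, inv_eq_of_mul_eq_one_right hv]
  have hmoved : ∀ x : G ⧸ H, v • x ≠ x → F x = 1 := fun x hx => dif_neg fun h => hx ((hfix x).mpr h)
  -- the transfer as a product over all cosets
  have hprod : MonoidHom.transfer φ v = ∏ x : G ⧸ H, F x := by
    rw [MonoidHom.transfer_eq_prod_quotient_orbitRel_zpowers_quot]
    have hper : ∀ q : Quotient (MulAction.orbitRel (Subgroup.zpowers v) (G ⧸ H)),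
        φ ⟨q.out.out⁻¹ * v ^ Function.minimalPeriod (v • ·) q.out * q.out.out,
          QuotientGroup.out_conj_pow_minimalPeriod_mem H v q.out⟩ = F q.out := by
      intro q
      by_cases hx : v • q.out = q.out
      · have h1 : Function.minimalPeriod (v • ·) q.out = 1 := Function.minimalPeriod_eq_one_iff_isFixedPt.mpr hx
        show _ = φ' _
        rw [hφ' ((hfix _).mp hx)]
        congr 1
        exact Subtype.ext (by simp only [h1, pow_one])
      · rw [hmoved _ hx]
        have h2 : Function.minimalPeriod (v • ·) q.out = 2 :=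
          Function.minimalPeriod_eq_prime (by
            show (v • ·)^[2] q.out = q.out
            simp [Function.iterate_succ, smul_smul, hv]) (fun h => hx h)
        rw [← map_one φ]
        congr 1
        refine Subtype.ext ?_
        show q.out.out⁻¹ * v ^ Function.minimalPeriod (v • ·) q.out * q.out.out = 1
        rw [h2, pow_two, hv, mul_one, inv_mul_cancel]
    rw [Finset.prod_congr rfl fun q _ => hper q]
    -- only singleton orbits contribute
    have hmk : ∀ x : G ⧸ H, v • x = x →
        (Quotient.mk'' x : Quotient (MulAction.orbitRel (Subgroup.zpowers v) (G ⧸ H))).out = x := by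
      intro x hx
      have h : (Quotient.mk'' x : Quotient (MulAction.orbitRel (Subgroup.zpowers v) (G ⧸ H))).out ∈
          MulAction.orbit (Subgroup.zpowers v) x :=
        Quotient.exact' (Quotient.out_eq' (Quotient.mk'' x : Quotient (MulAction.orbitRel (Subgroup.zpowers v) (G ⧸ H))))
      obtain ⟨⟨p, hp⟩, e⟩ := h
      refine e.symm.trans ?_
      show p • x = x
      exact MulAction.mem_stabilizer_iff.mp (Subgroup.zpowers_le.mpr (MulAction.mem_stabilizer_iff.mpr hx) hp)
    symm
    calc ∏ x : G ⧸ H, F x = ∏ x ∈ Finset.univ.filter (fun x : G ⧸ H => v • x = x), F x := by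
          rw [Finset.prod_filter]
          exact Finset.prod_congr rfl fun x _ => by
            split_ifs with h
            · rfl
            · exact hmoved x h
      _ = ∏ q ∈ Finset.univ.filter (fun q : Quotient (MulAction.orbitRel (Subgroup.zpowers v) (G ⧸ H)) =>
            v • q.out = q.out), F q.out := by
          refine Finset.prod_nbij' (fun x => Quotient.mk'' x) (fun q => q.out) (fun x hx => ?_) (fun q hq => ?_)
            (fun x hx => hmk x ?_) (fun q _ => Quotient.out_eq' q) (fun x hx => ?_)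
          · simp only [Finset.coe_filter, Finset.mem_filter, Finset.mem_univ, true_and, Set.mem_setOf_eq] at hx ⊢
            rw [hmk x hx]; exact hx
          · simp only [Finset.coe_filter, Finset.mem_filter, Finset.mem_univ, true_and, Set.mem_setOf_eq] at hq ⊢
            exact hq
          · simpa using hx
          · rw [hmk x (by simpa using hx)]
      _ = _ := by
          rw [Finset.prod_filter]
          exact Finset.prod_congr rfl fun q _ => by
            split_ifs with h
            · rfl
            · exact (hmoved _ h).symm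
  -- the two-group
  have hFinv : ∀ (q : ↥T) (x : G ⧸ H), F ((q : G) • x) = F x := by
    intro q x
    rw [← QuotientGroup.out_eq' x, MulAction.Quotient.smul_mk, hF, hF, smul_eq_mul,
      show ((q : G) * x.out)⁻¹ * v * ((q : G) * x.out) = x.out⁻¹ * ((q : G)⁻¹ * v * q) * x.out by group,
      show (q : G)⁻¹ * v * q = v by rw [mul_assoc, ← (hcomm q q.2).eq, inv_mul_cancel_left]]
  obtain ⟨o, ho⟩ : ∃ o : G ⧸ H, o = QuotientGroup.mk 1 := ⟨_, rfl⟩
  have hFo : F o = φ ⟨v, hvH⟩ := by
    rw [ho, hF, inv_one, one_mul, mul_one, hφ' hvH]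
  have hpar : ∀ a : A, (Finset.univ.filter (fun x : G ⧸ H => F x = a)).card % 2 = if a = F o then 1 else 0 := by
    intro a
    let act : MulAction ↥T {x : G ⧸ H // F x = a} :=
      { smul := fun q x => ⟨(q : G) • x.1, (hFinv q x.1).trans x.2⟩
        one_smul := fun x => Subtype.ext (one_smul G x.1)
        mul_smul := fun p q x => Subtype.ext (mul_smul (p : G) (q : G) x.1) }
    letI := act
    have h := hT.card_modEq_card_fixedPoints {x : G ⧸ H // F x = a}
    rw [Nat.card_eq_fintype_card, Fintype.card_subtype] at h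
    have hall : ∀ x ∈ MulAction.fixedPoints ↥T {x : G ⧸ H // F x = a}, x.1 = o := by
      intro x hx
      rw [ho, ← QuotientGroup.out_eq' x.1, QuotientGroup.eq, mul_one, inv_mem_iff]
      refine honly _ fun q hq => ?_
      have e : (q : G) • x.1 = x.1 := congrArg Subtype.val (hx ⟨q, hq⟩)
      rw [← QuotientGroup.out_eq' x.1, MulAction.Quotient.smul_mk, QuotientGroup.eq, smul_eq_mul] at e
      have := H.inv_mem e
      rwa [show ((q * x.1.out)⁻¹ * x.1.out)⁻¹ = x.1.out⁻¹ * q * x.1.out by group] at this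
    have hfx : Nat.card (MulAction.fixedPoints ↥T {x : G ⧸ H // F x = a}) = if a = F o then 1 else 0 := by
      split_ifs with e
      · rw [Nat.card_eq_one_iff_unique]
        refine ⟨⟨fun x y => Subtype.ext (Subtype.ext ((hall _ x.2).trans (hall _ y.2).symm))⟩, ⟨⟨⟨o, e.symm⟩, fun q => ?_⟩⟩⟩
        refine Subtype.ext ?_
        show (q : G) • o = o
        rw [ho, MulAction.Quotient.smul_mk, QuotientGroup.eq, smul_eq_mul, mul_one, mul_one, inv_mem_iff]
        exact hTH q.2
      · haveI : IsEmpty (MulAction.fixedPoints ↥T {x : G ⧸ H // F x = a}) :=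
          ⟨fun x => e (by rw [← hall _ x.2]; exact x.1.2.symm)⟩
        exact Nat.card_of_isEmpty
    rw [hfx] at h
    rw [h]
    split_ifs <;> rfl
  rw [hprod, ← Finset.prod_fiberwise_of_maps_to (g := F) (t := Finset.univ.image F)
    (fun x hx => Finset.mem_image_of_mem F hx) F]
  rw [Finset.prod_congr rfl (g := fun a => if a = F o then a else 1) fun a ha => ?_,
    Finset.prod_ite_eq' _ (F o), if_pos (Finset.mem_image_of_mem F (Finset.mem_univ o)), hFo]
  obtain ⟨x, -, rfl⟩ := Finset.mem_image.mp ha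
  rw [Finset.prod_congr rfl (g := fun _ => F x) (fun y hy => (Finset.mem_filter.mp hy).2), Finset.prod_const]
  have h2 := hpar (F x)
  obtain ⟨n, hn⟩ : ∃ n, n = (Finset.univ.filter (fun y : G ⧸ H => F y = F x)).card := ⟨_, rfl⟩
  rw [← hn] at h2 ⊢
  rw [← Nat.div_add_mod n 2, h2, pow_add, pow_mul, pow_two, hsq, one_pow, one_mul]
  split_ifs with h
  · rw [pow_one]
  · rw [pow_zero]

end Cfsg.Agent.Spor.FiTwo.CaseU
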