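import Cfsg.Agent.Lib.Spor.FiTwo.CaseUInner
import Cfsg.Agent.Lib.Spor.FiTwo.CaseUTransfer
import Cfsg.Agent.Lib.Spor.CentU62.Main

/-!
The case of an element of the centraliser exchanging the second involution with its product with the first: the
group is Fi22.
-/

set_option autoImplicit false
set_option linter.unusedSectionVars false
set_option maxHeartbeats 800000

namespace Cfsg.Agent.Spor.FiTwo

open Cfsg.Agent.Spor.SpFour Cfsg.Agent.Spor.CHZ CaseU

universe w

theorem fi_of_swapped {G : Type w} [Group G] [Finite G] {z z1 : G} (D : CHZ.DCore z z1) {h : G}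
    (hh : Commute h z) (hsw : h * z1 * h⁻¹ = z1 * z) (hn1 : ¬ IsConj z z1) (hns : ¬ Split z z1) :
    Cfsg.Spor.IsoFi22 G := by
  classical
  obtain ⟨⟨e⟩, hgen⟩ := quot D hh hsw hn1 hns
  have hD := derived D e hgen
  obtain ⟨U, hU⟩ : ∃ U, U = ⁅C1 z1, C1 z1⁆ := ⟨_, rfl⟩
  rw [← hU] at hD
  have hne : z1 * z ≠ z1 := fun e' => D.ne_one (mul_eq_left.mp e')
  have hhne : ¬ Commute h z1 := fun hc => hne (by rw [← hsw, hc.eq, mul_inv_cancel_right])
  by_cases h1U : z1 ∈ U
  · -- the centraliser is the double cover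
    have hperf : ⁅(⊤ : Subgroup ↥(C1 z1)), (⊤ : Subgroup ↥(C1 z1))⁆ = ⊤ := by
      refine eq_top_iff.mpr fun x _ => ?_
      have hx : (x : G) ∈ U := by
        rcases hD.gen _ (mem_C1.mp x.2) with h' | h'
        · exact h'
        · have := U.mul_mem h' h1U
          rwa [mul_assoc, D.sq1, mul_one] at this
      rw [hU, ← Subgroup.map_subtype_commutator] at hx
      rw [← commutator_def]
      exact (Subgroup.mem_map_iff_mem (C1 z1).subtype_injective).mp hx
    refine (CentU62.main z1 (orderOf_eq_prime (by rw [pow_two]; exact D.sq1) D.one_ne) hperf F4 CHZ.hF e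
      ⟨h, ?_, ?_⟩).2.2
    · rw [hsw]
      exact mem_C1.mpr ((Commute.refl z1).mul_left D.z_comm)
    · rw [hsw]; exact hne
  exfalso
  obtain ⟨H, hH⟩ : ∃ H : Subgroup G, H = Subgroup.centralizer ({z} : Set G) := ⟨_, rfl⟩
  have hHm : ∀ {x}, x ∈ H ↔ Commute x z := fun {x} => hH ▸ Subgroup.mem_centralizer_singleton_iff
  obtain ⟨K1, hK1⟩ : ∃ K1 : Subgroup ↥H, K1 = ⁅D.lin, D.lin⁆.subgroupOf H := ⟨_, rfl⟩
  have hlnorm : ∀ {a}, Commute a z → ∀ {x}, x ∈ D.lin → a * x * a⁻¹ ∈ D.lin := by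
    intro a ha x hx
    refine ⟨(ha.mul_left hx.1).mul_left ha.inv_left, ?_⟩
    obtain ⟨g, hg⟩ := hx.2
    rw [D.img_mul (ha.mul_left hx.1) ha.inv_left, D.img_mul ha hx.1, D.img_inv ha, ← hg]
    exact range_normal _ g
  haveI hK1n : K1.Normal := by
    refine ⟨fun n hn g => ?_⟩
    rw [hK1, Subgroup.mem_subgroupOf] at hn ⊢
    have hg : Commute (g : G) z := hHm.mp g.2
    have : Subgroup.map (MulAut.conj (g : G)).toMonoidHom ⁅D.lin, D.lin⁆ ≤ ⁅D.lin, D.lin⁆ := by
      rw [Subgroup.map_commutator]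
      refine Subgroup.commutator_mono ?_ ?_ <;>
        · rintro _ ⟨x, hx, rfl⟩
          exact hlnorm hg hx
    exact this ⟨_, hn, rfl⟩
  let q : ↥H →* ↥H ⧸ K1 := QuotientGroup.mk' K1
  have hq : ∀ {a b : ↥H}, (a : G)⁻¹ * b ∈ ⁅D.lin, D.lin⁆ → q a = q b := fun {a b} hab =>
    QuotientGroup.eq.mpr (by rw [hK1, Subgroup.mem_subgroupOf]; exact hab)
  have hzL : z ∈ ⁅D.lin, D.lin⁆ := by
    rcases hgen z (D.Q_le D.zQ) with h' | h'
    · exact h'
    · exact absurd (by
        have := U.mul_mem (U.inv_mem hD.zU) (hD.linU h')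
        rwa [inv_mul_cancel_left] at this) h1U
  let P : ↥H := ⟨z1, hHm.mpr (D.cent z1 D.oneQ)⟩
  let R : ↥H := ⟨h, hHm.mpr hh⟩
  have hRP : Commute (q R) (q P) := by
    show q R * q P = q P * q R
    rw [← map_mul, ← map_mul]
    refine hq ?_
    show (h * z1)⁻¹ * (z1 * h) ∈ _
    have e' : h * z1 = z1 * z * h := by rw [← hsw]; group
    rw [e', show (z1 * z * h)⁻¹ * (z1 * h) = h⁻¹ * z⁻¹ * h by group, D.z_inv, mul_assoc, ← hh.eq, inv_mul_cancel_left]
    exact hzL
  have hlinv : ∀ {a : ↥H}, (a : G) ∈ D.lin → ∃ j : ℕ, q a = q P ^ j := by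
    intro a ha
    rcases hgen _ ha with h' | h'
    · refine ⟨0, ?_⟩
      rw [pow_zero, ← map_one q]
      exact (hq (by rw [Subgroup.coe_one, inv_one, one_mul]; exact h')).symm
    · refine ⟨1, ?_⟩
      rw [pow_one]
      refine (hq ?_).symm
      show z1⁻¹ * (a : G) ∈ _
      rw [D.one_inv, ← (D.lin_fix ha).eq]
      exact h'
  have hval : ∀ a : ↥H, ∃ i j : ℕ, q a = q R ^ i * q P ^ j := by
    intro a
    by_cases ha : (a : G) ∈ D.lin
    · obtain ⟨j, hj⟩ := hlinv ha
      exact ⟨0, j, by rw [hj, pow_zero, one_mul]⟩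
    · have hm : ((R⁻¹ * a : ↥H) : G) ∈ D.lin := by
        refine ⟨(hh.inv_left.mul_left (hHm.mp a.2)), ?_⟩
        show D.img (h⁻¹ * (a : G)) ∈ ι.range
        rw [D.img_mul hh.inv_left (hHm.mp a.2), D.img_inv hh]
        refine mul_mem_range.mpr (iff_of_false (fun hl => hhne (D.lin_fix ⟨hh, by simpa using hl⟩))
          fun hl => ha ⟨hHm.mp a.2, hl⟩)
      obtain ⟨j, hj⟩ := hlinv hm
      exact ⟨1, j, by rw [pow_one, ← hj, ← map_mul, mul_inv_cancel_left]⟩
  letI : CommGroup (↥H ⧸ K1) :=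
    { (inferInstance : Group (↥H ⧸ K1)) with
      mul_comm := fun x y => by
        obtain ⟨a, rfl⟩ := QuotientGroup.mk'_surjective K1 x
        obtain ⟨b, rfl⟩ := QuotientGroup.mk'_surjective K1 y
        obtain ⟨i, j, ea⟩ := hval a
        obtain ⟨k, l, eb⟩ := hval b
        show q a * q b = q b * q a
        rw [ea, eb]
        exact ((((Commute.refl _).pow_pow i k).mul_right (hRP.pow_pow i l)).mul_left
          ((hRP.symm.pow_pow j k).mul_right ((Commute.refl _).pow_pow j l))).eq }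
  -- the transfer
  obtain ⟨N, hN⟩ : ∃ N : Subgroup G, N = (MonoidHom.transfer q).ker := ⟨_, rfl⟩
  haveI hNn : N.Normal := hN ▸ inferInstance
  have h1N : z1 ∉ N := by
    rw [hN, MonoidHom.mem_ker, transfer_involution H q D.Q D.isPGroup_Q (fun x hx => hHm.mpr (D.cent x hx)) D.sq1
      (hHm.mpr (D.cent z1 D.oneQ)) D.cent1 ?_]
    · intro e'
      have h' : z1 ∈ ⁅D.lin, D.lin⁆ := by
        have := (QuotientGroup.eq_one_iff _).mp e'
        rwa [hK1, Subgroup.mem_subgroupOf] at this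
      exact h1U (hD.linU h')
    intro r hr
    have hconj : ∀ x ∈ D.Q, Commute (r * z * r⁻¹) x := fun x hx => by
      have := (hHm.mp (hr x hx)).map (MulAut.conj r).toMonoidHom
      simpa [mul_assoc] using this.symm
    have hc : Commute (r * z * r⁻¹) z := hconj z D.zQ
    rcases D.center _ (D.self _ hc hconj) hconj with e' | e' | e' | e'
    · exact absurd (conj_eq_one_iff.mp e') D.ne_one
    · exact hHm.mpr (mul_inv_eq_iff_eq_mul.mp e')
    · exact absurd (isConj_iff.mpr ⟨r, e'⟩) hn1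
    · exact absurd (isConj_iff.mpr ⟨r, e'⟩) (not_conj D hh hsw hn1)
  have hperfle : ∀ {T : Subgroup G}, ⁅T, T⁆ = T → T ≤ N := by
    intro T hT
    rw [← hT, Subgroup.commutator_le]
    intro a _ b _
    rw [hN, MonoidHom.mem_ker, commutatorElement_def, map_mul, map_mul, map_mul, map_inv, map_inv, mul_right_comm,
      mul_inv_cancel_right, mul_inv_cancel]
  obtain ⟨E, hE, hEmax⟩ := inner D hD h1U hgen h1N (hperfle hD.perf)
  have hUE : U = E := Subgroup.eq_of_le_of_card_ge (hEmax U (hperfle hD.perf) hD.perf) (by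
    rw [hE, (hD.small h1U).1])
  have hUnorm : ∀ (g : G) {u}, u ∈ U → g * u * g⁻¹ ∈ U := by
    intro g u hu
    have hp : ⁅U.map (MulAut.conj g).toMonoidHom, U.map (MulAut.conj g).toMonoidHom⁆ =
        U.map (MulAut.conj g).toMonoidHom := by rw [← Subgroup.map_commutator, hD.perf]
    have := hEmax _ (hperfle hp) hp
    rw [← hUE] at this
    exact this ⟨u, hu, rfl⟩
  -- so the first involution centralises the derived group
  have hcU : ∀ u ∈ U, Commute u z := by
    intro u hu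
    have h' : Commute (h⁻¹ * u * h⁻¹⁻¹) z1 := hD.le _ (hUnorm h⁻¹ hu)
    have h2 : Commute u (z1 * z) := by
      rw [← hsw]
      have h3 := h'.map (MulAut.conj h).toMonoidHom
      simpa [mul_assoc] using h3
    have h3 := (hD.le u hu).mul_right h2
    rwa [← mul_assoc, D.sq1, one_mul] at h3
  have hsub : U ≤ Subgroup.centralizer ({z} : Set G) := fun u hu =>
    Subgroup.mem_centralizer_singleton_iff.mpr (hcU u hu).eq
  have := Subgroup.card_le_of_le hsub
  rw [(hD.small h1U).1, card_cent D] at this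
  omega

end Cfsg.Agent.Spor.FiTwo
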