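import Mathlib.GroupTheory.PGroup
import Mathlib.GroupTheory.OrderOfElement
import Mathlib.GroupTheory.SpecificGroups.Cyclic
import Mathlib.Algebra.Group.Subgroup.Finite
import Mathlib.Data.ZMod.Basic
import Mathlib.Tactic.Group
import Mathlib.Tactic.Abel
import Mathlib.Algebra.CharP.Two

/-!
An involution centraliser whose normal two-subgroup is a group of order two times an extraspecial one: the
vectors of that subgroup, isolation modulo the core in the centraliser of the second involution, and the lifts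
of elements of order three.
-/

set_option autoImplicit false
set_option linter.unusedSectionVars false

namespace Cfsg.Agent.Spor.FiTwo

universe w u

/-- y is isolated modulo an odd part in the centraliser of v -/
def Split {G : Type w} [Group G] (y v : G) : Prop :=
  ∀ c, Commute c v → Odd (orderOf (c * y * c⁻¹ * y))

section group

variable {G : Type w} [Group G]

theorem Split.conj {y v : G} (h : Split y v) (g : G) : Split (g * y * g⁻¹) (g * v * g⁻¹) := by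
  intro c hc
  have hc' : Commute (g⁻¹ * c * g) v := by simpa [mul_assoc] using hc.map (MulAut.conj g⁻¹).toMonoidHom
  have e : c * (g * y * g⁻¹) * c⁻¹ * (g * y * g⁻¹) =
      MulAut.conj g (g⁻¹ * c * g * y * (g⁻¹ * c * g)⁻¹ * y) := by
    rw [MulAut.conj_apply]; group
  rw [e, MulEquiv.orderOf_eq (MulAut.conj g)]
  exact h _ hc'

/-- an element of odd order in a two-group is trivial -/
theorem eq_one_of_odd {Q : Subgroup G} (hQ : IsPGroup 2 Q) {u : G} (hu : u ∈ Q) (hodd : Odd (orderOf u)) :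
    u = 1 := by
  obtain ⟨k, hk⟩ := hQ ⟨u, hu⟩
  have hd : orderOf u ∣ 2 ^ k := orderOf_dvd_of_pow_eq_one (by simpa using congrArg Subtype.val hk)
  obtain ⟨j, -, hj⟩ := (Nat.dvd_prime_pow Nat.prime_two).mp hd
  rw [← orderOf_eq_one_iff, hj]
  rcases Nat.eq_zero_or_pos j with e | e
  · rw [e, pow_zero]
  · exact absurd hodd (Nat.not_odd_iff_even.mpr (hj ▸ Nat.even_pow.mpr ⟨even_two, e.ne'⟩))

theorem comm_of_one {c y : G} (hy : y * y = 1) (h : c * y * c⁻¹ * y = 1) : Commute c y := by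
  have e : c * y * c⁻¹ = y := by
    rw [eq_inv_of_mul_eq_one_left h, inv_eq_of_mul_eq_one_right hy]
  exact mul_inv_eq_iff_eq_mul.mp e

/-- an isolated involution has no second conjugate commuting with it -/
theorem Split.eq_of_commute {y v : G} (h : Split y v) (hy : y * y = 1) {c : G} (hc : Commute c v)
    (hcy : Commute (c * y * c⁻¹) y) : c * y * c⁻¹ = y := by
  have h2 : (c * y * c⁻¹ * y) ^ 2 = 1 := by
    rw [pow_two]
    calc c * y * c⁻¹ * y * (c * y * c⁻¹ * y) = c * y * c⁻¹ * (y * (c * y * c⁻¹)) * y := by group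
      _ = c * y * c⁻¹ * (c * y * c⁻¹ * y) * y := by rw [hcy.eq]
      _ = c * (y * y) * c⁻¹ * (y * y) := by group
      _ = 1 := by rw [hy]; group
  obtain ⟨k, hk⟩ := h c hc
  have hd := orderOf_dvd_of_pow_eq_one h2
  rcases (Nat.dvd_prime Nat.prime_two).mp hd with e | e
  · rw [eq_inv_of_mul_eq_one_left (orderOf_eq_one_iff.mp e), inv_eq_of_mul_eq_one_right hy]
  · omega

end group

/-- the subgroup with its vectors -/
structure Data {G : Type w} [Group G] (z z1 : G) (M : Type u) [AddCommGroup M] where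
  Q : Subgroup G
  ν : G → M
  act : G → M → M
  zQ : z ∈ Q
  z1Q : z1 ∈ Q
  z2 : z * z = 1
  w2 : z1 * z1 = 1
  zne : z ≠ 1
  wne : z1 ≠ 1
  hne : z1 ≠ z
  cent : ∀ x ∈ Q, Commute x z
  cent1 : ∀ x ∈ Q, Commute x z1
  normal : ∀ c, Commute c z → ∀ x ∈ Q, c * x * c⁻¹ ∈ Q
  two : IsPGroup 2 Q
  self_add : ∀ m : M, m + m = 0
  ν_mul : ∀ x ∈ Q, ∀ y ∈ Q, ν (x * y) = ν x + ν y
  ν_surj : ∀ m, ∃ x ∈ Q, ν x = m
  ν_zero : ∀ x ∈ Q, (ν x = 0 ↔ x = 1 ∨ x = z ∨ x = z1 ∨ x = z * z1)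
  comm : ∀ x ∈ Q, ∀ y ∈ Q, x * y * x⁻¹ * y⁻¹ = 1 ∨ x * y * x⁻¹ * y⁻¹ = z
  sq : ∀ x ∈ Q, x * x = 1 ∨ x * x = z
  act_vec : ∀ c, Commute c z → Commute c z1 → ∀ x ∈ Q, act c (ν x) = ν (c * x * c⁻¹)
  faithful : ∀ c, Commute c z → Commute c z1 → (∀ m, act c m = m) → c ∈ Q
  b : M → M → ZMod 2
  card : Nat.card M = 256
  comm_b : ∀ x ∈ Q, ∀ y ∈ Q, (Commute x y ↔ b (ν x) (ν y) = 0)
  b_add : ∀ a a' m, b (a + a') m = b a m + b a' m
  dperp : ∀ (H : AddSubgroup M) (x : M), (∀ y, (∀ h ∈ H, b h y = 0) → b x y = 0) → x ∈ H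

namespace Data

variable {G : Type w} [Group G] {z z1 : G} {M : Type u} [AddCommGroup M]

/-- the elements centralising both involutions -/
def In0 (_D : Data z z1 M) (c : G) : Prop := Commute c z ∧ Commute c z1

variable (D : Data z z1 M)
include D

theorem In0.mul {a b : G} (ha : D.In0 a) (hb : D.In0 b) : D.In0 (a * b) :=
  ⟨ha.1.mul_left hb.1, ha.2.mul_left hb.2⟩

theorem In0.inv {a : G} (ha : D.In0 a) : D.In0 a⁻¹ := ⟨ha.1.inv_left, ha.2.inv_left⟩

theorem in0_Q {x : G} (hx : x ∈ D.Q) : D.In0 x := ⟨D.cent x hx, D.cent1 x hx⟩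

theorem ν_one : D.ν 1 = 0 := (D.ν_zero 1 D.Q.one_mem).mpr (Or.inl rfl)

theorem ν_inv {x : G} (hx : x ∈ D.Q) : D.ν x⁻¹ = D.ν x := by
  have h := D.ν_mul _ (D.Q.inv_mem hx) _ hx
  rw [inv_mul_cancel, D.ν_one] at h
  calc D.ν x⁻¹ = D.ν x⁻¹ + (D.ν x + D.ν x) := by rw [D.self_add, add_zero]
    _ = D.ν x := by rw [← add_assoc, ← h, zero_add]

theorem eq_of_add {a b : M} (h : a + b = 0) : a = b := by
  calc a = a + (b + b) := by rw [D.self_add, add_zero]
    _ = b := by rw [← add_assoc, h, zero_add]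

theorem ν_z : D.ν z = 0 := (D.ν_zero z D.zQ).mpr (Or.inr (Or.inl rfl))

/-- kernel elements are central among the elements centralising both involutions -/
theorem kernel_comm {x : G} (hx : x ∈ D.Q) (h : D.ν x = 0) {c : G} (hc : D.In0 c) : Commute c x := by
  rcases (D.ν_zero x hx).mp h with e | e | e | e <;> rw [e]
  exacts [Commute.one_right c, hc.1, hc.2, hc.1.mul_right hc.2]

theorem kernel_sq {x : G} (hx : x ∈ D.Q) (h : D.ν x = 0) : x * x = 1 := by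
  rcases (D.ν_zero x hx).mp h with e | e | e | e <;> rw [e]
  exacts [one_mul 1, D.z2, D.w2, by
    rw [mul_assoc z z1, ← mul_assoc z1 z z1, ← (D.cent z1 D.z1Q).symm.eq, mul_assoc z z1 z1, D.w2, mul_one, D.z2]]

theorem conj_eq {x y : G} (hx : x ∈ D.Q) (hy : y ∈ D.Q) : x * y * x⁻¹ = y ∨ x * y * x⁻¹ = y * z := by
  rcases D.comm x hx y hy with e | e
  · exact Or.inl (mul_inv_eq_one.mp e)
  · exact Or.inr (by rw [mul_inv_eq_iff_eq_mul.mp e, (D.cent y hy).eq])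

theorem ν_conj {x y : G} (hx : x ∈ D.Q) (hy : y ∈ D.Q) : D.ν (x * y * x⁻¹) = D.ν y := by
  rcases D.conj_eq hx hy with e | e <;> rw [e]
  rw [D.ν_mul y hy z D.zQ, D.ν_z, add_zero]

theorem act_add {c : G} (hc : D.In0 c) (a b : M) : D.act c (a + b) = D.act c a + D.act c b := by
  obtain ⟨x, hx, rfl⟩ := D.ν_surj a
  obtain ⟨y, hy, rfl⟩ := D.ν_surj b
  rw [← D.ν_mul x hx y hy, D.act_vec c hc.1 hc.2 _ (D.Q.mul_mem hx hy), D.act_vec c hc.1 hc.2 x hx,
    D.act_vec c hc.1 hc.2 y hy, ← D.ν_mul _ (D.normal c hc.1 x hx) _ (D.normal c hc.1 y hy)]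
  congr 1
  group

theorem act_mul {c d : G} (hc : D.In0 c) (hd : D.In0 d) (m : M) : D.act (c * d) m = D.act c (D.act d m) := by
  obtain ⟨x, hx, rfl⟩ := D.ν_surj m
  rw [D.act_vec _ (hc.mul D hd).1 (hc.mul D hd).2 x hx, D.act_vec d hd.1 hd.2 x hx,
    D.act_vec c hc.1 hc.2 _ (D.normal d hd.1 x hx)]
  congr 1
  group

theorem act_Q {x : G} (hx : x ∈ D.Q) (m : M) : D.act x m = m := by
  obtain ⟨y, hy, rfl⟩ := D.ν_surj m
  rw [D.act_vec x (D.cent x hx) (D.cent1 x hx) y hy, D.ν_conj hx hy]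

theorem act_inv {c : G} (hc : D.In0 c) (m : M) : D.act c (D.act c⁻¹ m) = m := by
  rw [← D.act_mul hc (hc.inv D), mul_inv_cancel, D.act_Q D.Q.one_mem]

theorem act_inv' {c : G} (hc : D.In0 c) (m : M) : D.act c⁻¹ (D.act c m) = m := by
  rw [← D.act_mul (hc.inv D) hc, inv_mul_cancel, D.act_Q D.Q.one_mem]

/-- the vector of a commutator -/
theorem ν_comm_elem {c n : G} (hc : D.In0 c) (hn : n ∈ D.Q) :
    c * n * c⁻¹ * n⁻¹ ∈ D.Q ∧ D.ν (c * n * c⁻¹ * n⁻¹) = D.ν n + D.act c (D.ν n) := by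
  refine ⟨D.Q.mul_mem (D.normal c hc.1 n hn) (D.Q.inv_mem hn), ?_⟩
  rw [D.ν_mul _ (D.normal c hc.1 n hn) _ (D.Q.inv_mem hn), D.ν_inv hn, D.act_vec c hc.1 hc.2 n hn, add_comm]

/-- equal vectors differ by a kernel element -/
theorem ν_eq {x y : G} (hx : x ∈ D.Q) (hy : y ∈ D.Q) (h : D.ν x = D.ν y) :
    ∃ ζ ∈ D.Q, D.ν ζ = 0 ∧ x = y * ζ :=
  ⟨y⁻¹ * x, D.Q.mul_mem (D.Q.inv_mem hy) hx,
    by rw [D.ν_mul _ (D.Q.inv_mem hy) _ hx, D.ν_inv hy, h, D.self_add], by group⟩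

/-- vectors fixed by an element commute with its commutators -/
theorem range_comm {c n m : G} (hc : D.In0 c) (hn : n ∈ D.Q) (hfix : D.act c (D.ν n) = D.ν n) (hm : m ∈ D.Q) :
    Commute n (c * m * c⁻¹ * m⁻¹) := by
  rw [D.act_vec c hc.1 hc.2 n hn] at hfix
  obtain ⟨ζ, hζ, hζ0, e⟩ := D.ν_eq (D.normal c hc.1 n hn) hn hfix
  obtain ⟨p, hp⟩ : ∃ p, p = c * m * c⁻¹ := ⟨_, rfl⟩
  have hpQ : p ∈ D.Q := hp ▸ D.normal c hc.1 m hm
  -- conjugation keeps the commutator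
  have hkey : n * p * n⁻¹ * p⁻¹ = n * m * n⁻¹ * m⁻¹ := by
    have hce : c * (n * m * n⁻¹ * m⁻¹) * c⁻¹ = n * m * n⁻¹ * m⁻¹ := by
      rcases D.comm n hn m hm with e' | e' <;> rw [e']
      · group
      · rw [hc.1.eq, mul_inv_cancel_right]
    have hcz : Commute p ζ := (D.kernel_comm hζ hζ0 (D.in0_Q hpQ))
    calc n * p * n⁻¹ * p⁻¹ = n * (ζ * p * ζ⁻¹) * n⁻¹ * p⁻¹ := by rw [← hcz.eq, mul_inv_cancel_right]
      _ = (n * ζ) * p * (n * ζ)⁻¹ * p⁻¹ := by group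
      _ = c * (n * m * n⁻¹ * m⁻¹) * c⁻¹ := by rw [← e, hp]; group
      _ = n * m * n⁻¹ * m⁻¹ := hce
  have e1 : n * p * n⁻¹ = n * m * n⁻¹ * m⁻¹ * p := mul_inv_eq_iff_eq_mul.mp hkey
  have hcen : Commute (n * m * n⁻¹ * m⁻¹) (p * m⁻¹) := by
    rcases D.comm n hn m hm with e' | e' <;> rw [e']
    · exact Commute.one_left _
    · exact (D.cent _ (D.Q.mul_mem hpQ (D.Q.inv_mem hm))).symm
  refine mul_inv_eq_iff_eq_mul.mp ?_
  rw [← hp]
  calc n * (p * m⁻¹) * n⁻¹ = (n * p * n⁻¹) * (n * m⁻¹ * n⁻¹) := by group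
    _ = n * m * n⁻¹ * m⁻¹ * (p * m⁻¹) * (n * m * n⁻¹ * m⁻¹)⁻¹ := by rw [e1]; group
    _ = p * m⁻¹ := by rw [hcen.eq, mul_inv_cancel_right]

theorem inverted {c m : G} (hc2 : c * c = 1) :
    c * (c * m * c⁻¹ * m⁻¹) * c⁻¹ = (c * m * c⁻¹ * m⁻¹)⁻¹ := by
  rw [inv_eq_of_mul_eq_one_right hc2]
  calc c * (c * m * c * m⁻¹) * c = c * c * m * c * m⁻¹ * c := by group
    _ = m * c * m⁻¹ * c := by rw [hc2, one_mul]
    _ = (c⁻¹ * m * c⁻¹ * m⁻¹)⁻¹ := by group
    _ = (c * m * c * m⁻¹)⁻¹ := by rw [inv_eq_of_mul_eq_one_right hc2]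

theorem b_symm (a m : M) : D.b a m = D.b m a := by
  obtain ⟨x, hx, rfl⟩ := D.ν_surj a
  obtain ⟨y, hy, rfl⟩ := D.ν_surj m
  have key : ∀ p q : ZMod 2, (p = 0 ↔ q = 0) → p = q := by decide
  exact key _ _ (((D.comm_b x hx y hy).symm.trans ⟨Commute.symm, Commute.symm⟩).trans (D.comm_b y hy x hx))

/-- commuting is kept by conjugation -/
theorem b_act {c : G} (hc : D.In0 c) (a m : M) : D.b (D.act c a) (D.act c m) = D.b a m := by
  obtain ⟨x, hx, rfl⟩ := D.ν_surj a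
  obtain ⟨y, hy, rfl⟩ := D.ν_surj m
  have key : ∀ p q : ZMod 2, (p = 0 ↔ q = 0) → p = q := by decide
  refine key _ _ ?_
  rw [D.act_vec c hc.1 hc.2 x hx, D.act_vec c hc.1 hc.2 y hy,
    ← D.comm_b _ (D.normal c hc.1 x hx) _ (D.normal c hc.1 y hy), ← D.comm_b x hx y hy]
  exact ⟨fun h => by simpa [mul_assoc] using h.map (MulAut.conj c⁻¹).toMonoidHom,
    fun h => h.map (MulAut.conj c).toMonoidHom⟩

/-- the two multiples -/
def two_multiples (x : M) : AddSubgroup M where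
  carrier := {m | m = 0 ∨ m = x}
  zero_mem' := Or.inl rfl
  add_mem' := by
    rintro a a' (rfl | rfl) (rfl | rfl)
    exacts [Or.inl (add_zero _), Or.inr (zero_add _), Or.inr (add_zero _), Or.inl (D.self_add _)]
  neg_mem' := by
    rintro a (rfl | rfl)
    exacts [Or.inl neg_zero, Or.inr (neg_eq_of_add_eq_zero_left (D.self_add _))]

/-- a vector orthogonal to everything orthogonal to another is a multiple of it -/
theorem perp_one {x y : G} (hy : y ∈ D.Q)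
    (h : ∀ n ∈ D.Q, Commute n y → D.b (D.ν x) (D.ν n) = 0) : D.ν x = 0 ∨ D.ν x = D.ν y := by
  refine D.dperp (D.two_multiples (D.ν y)) _ fun a ha => ?_
  obtain ⟨n, hn, rfl⟩ := D.ν_surj a
  exact h n hn ((D.comm_b y hy n hn).mpr (ha _ (Or.inr rfl))).symm

theorem bicomm {x y : G} (hx : x ∈ D.Q) (hy : y ∈ D.Q) (h : ∀ n ∈ D.Q, Commute n y → Commute n x) :
    D.ν x = 0 ∨ D.ν x = D.ν y :=
  D.perp_one hy (fun n hn hny => (D.comm_b x hx n hn).mp (h n hn hny).symm)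

/-- vectors orthogonal to the fixed vectors are commutators -/
theorem perp_range {c : G} (hc : D.In0 c) {x : G} (hx : x ∈ D.Q)
    (h : ∀ n ∈ D.Q, D.act c (D.ν n) = D.ν n → Commute x n) : ∃ m, D.ν x = m + D.act c m := by
  obtain ⟨m, hm⟩ := D.dperp (AddMonoidHom.mk' (fun m => m + D.act c m)
      fun a a' => by rw [D.act_add hc]; abel).range (D.ν x) fun a ha => by
    obtain ⟨n, hn, rfl⟩ := D.ν_surj a
    refine (D.comm_b x hx n hn).mp (h n hn ?_)
    -- orthogonal to the commutators: fixed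
    have key : ∀ m, D.b m (D.ν n + D.act c (D.ν n)) = 0 := by
      intro m
      have e := ha _ ⟨D.act c⁻¹ m, rfl⟩
      rw [AddMonoidHom.mk'_apply, D.b_add, D.act_inv hc] at e
      obtain ⟨p, hp, rfl⟩ := D.ν_surj m
      have e2 : D.b (D.act c⁻¹ (D.ν p)) (D.ν n) = D.b (D.ν p) (D.act c (D.ν n)) := by
        rw [← D.b_act hc, D.act_inv hc]
      rw [e2] at e
      rw [D.b_symm, D.b_add, D.b_symm (D.ν n), D.b_symm (D.act c (D.ν n)), add_comm]
      exact e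
    have h0 : D.ν n + D.act c (D.ν n) = 0 := by
      have := D.dperp ⊥ (D.ν n + D.act c (D.ν n)) fun m _ => by rw [D.b_symm]; exact key m
      exact AddSubgroup.mem_bot.mp this
    exact (D.eq_of_add h0).symm
  exact ⟨m, hm.symm⟩

/-- an element fixing the vectors orthogonal to that of an involution of the subgroup -/
theorem hyper {c : G} (hc : D.In0 c) {y : G} (hy : y ∈ D.Q) (hy2 : y * y = 1)
    (h : ∀ n ∈ D.Q, Commute n y → D.act c (D.ν n) = D.ν n) : c ∈ D.Q := by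
  refine D.faithful c hc.1 hc.2 fun m => ?_
  obtain ⟨n, hn, rfl⟩ := D.ν_surj m
  by_cases hny : Commute n y
  · exact h n hn hny
  obtain ⟨hkQ, hkν⟩ := D.ν_comm_elem hc hn
  rcases D.perp_one (x := c * n * c⁻¹ * n⁻¹) hy (fun p hp hpy => by
    rw [hkν, D.b_add]
    have e := D.b_act hc (D.ν n) (D.ν p)
    rw [h p hp hpy] at e
    rw [e, CharTwo.add_self_eq_zero]) with e | e
  · rw [hkν] at e
    exact (D.eq_of_add e).symm
  · -- the square of the image is the square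
    exfalso
    obtain ⟨ζ, hζ, hζ0, he⟩ := D.ν_eq (D.normal c hc.1 n hn) (D.Q.mul_mem hn hy) (by
      rw [D.ν_mul n hn y hy, ← D.act_vec c hc.1 hc.2 n hn, ← e, hkν, ← add_assoc, D.self_add, zero_add])
    have h1 : c * n * c⁻¹ * (c * n * c⁻¹) = n * n := by
      rw [show c * n * c⁻¹ * (c * n * c⁻¹) = c * (n * n) * c⁻¹ by group]
      rcases D.sq n hn with e' | e' <;> rw [e']
      · group
      · rw [hc.1.eq, mul_inv_cancel_right]
    have hzc : Commute (n * y) ζ := D.kernel_comm hζ hζ0 (D.in0_Q (D.Q.mul_mem hn hy))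
    rw [he, show n * y * ζ * (n * y * ζ) = n * y * (ζ * (n * y)) * ζ by group, ← hzc.eq,
      show n * y * (n * y * ζ) * ζ = n * y * (n * y) * (ζ * ζ) by group, D.kernel_sq hζ hζ0, mul_one,
      show n * y * (n * y) = n * (y * n) * y by group] at h1
    refine hny ?_
    calc n * y = n⁻¹ * (n * n) * y := by group
      _ = n⁻¹ * (n * (y * n) * y) * y := by rw [h1]
      _ = y * n * (y * y) := by group
      _ = y * n := by rw [hy2, mul_one]

/-- an element centralising a member of the pair centralises the other -/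
theorem comm_of_split {v y : G} (hy : Commute y z) (hy2 : y * y = 1) (hsp : Split y v) {c : G} (hc : c ∈ D.Q)
    (hcv : Commute c v) : Commute c y := by
  refine comm_of_one hy2 (eq_one_of_odd D.two ?_ (hsp c hcv))
  have h := D.normal y hy c⁻¹ (D.Q.inv_mem hc)
  rw [inv_eq_of_mul_eq_one_right hy2] at h
  rw [show c * y * c⁻¹ * y = c * (y * c⁻¹ * y) by group]
  exact D.Q.mul_mem hc h

/-- the member lying in the subgroup -/
theorem split_mem {v y : G} (hy : D.In0 y) (hy2 : y * y = 1) (hsp : Split y v) (hv : v ∈ D.Q) (hv2 : v * v = 1) :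
    D.ν v = 0 ∨ (y ∈ D.Q ∧ (D.ν y = 0 ∨ D.ν y = D.ν v)) := by
  refine or_iff_not_imp_left.mpr fun _ => ?_
  have hF : ∀ n ∈ D.Q, Commute n v → Commute n y := fun n hn h => D.comm_of_split hy.1 hy2 hsp hn h
  have hyQ : y ∈ D.Q := D.hyper hy hv hv2 fun n hn hnv => by
    rw [D.act_vec y hy.1 hy.2 n hn, ← (hF n hn hnv).eq, mul_inv_cancel_right]
  exact ⟨hyQ, D.bicomm hyQ hv hF⟩

/-- lifting an element of order three into the centraliser of an involution -/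
theorem lift_three {v g : G} (hv : D.In0 v) (hv2 : v * v = 1)
    (hfull : ∀ n ∈ D.Q, D.act v (D.ν n) = D.ν n → Commute n v) (hg : D.In0 g) (hg3 : g * g * g ∈ D.Q)
    (hgv : ∀ m, D.act g (D.act v m) = D.act v (D.act g m)) :
    ∃ c, D.In0 c ∧ Commute c v ∧ ∀ m, D.act c m = D.act g m := by
  have hvi : v⁻¹ = v := inv_eq_of_mul_eq_one_right hv2
  obtain ⟨v', hv'⟩ : ∃ v', v' = g * v * g⁻¹ := ⟨_, rfl⟩
  have hv'0 : D.In0 v' := hv' ▸ (hg.mul D hv).mul D (hg.inv D)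
  obtain ⟨j, hj⟩ : ∃ j, j = v * v' := ⟨_, rfl⟩
  have hv'act : ∀ m, D.act v' m = D.act v m := fun m => by
    rw [hv', D.act_mul (hg.mul D hv) (hg.inv D), D.act_mul hg hv, hgv, D.act_inv hg]
  have hjQ : j ∈ D.Q := D.faithful j (hj ▸ hv.mul D hv'0).1 (hj ▸ hv.mul D hv'0).2 fun m => by
    rw [hj, D.act_mul hv hv'0, hv'act, ← D.act_mul hv hv, hv2, D.act_Q D.Q.one_mem]
  have hjperp : ∀ n ∈ D.Q, D.act v (D.ν n) = D.ν n → Commute j n := by
    intro n hn hfix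
    have h1 := hfull n hn hfix
    have hn' : g⁻¹ * n * g ∈ D.Q := by
      have := D.normal g⁻¹ hg.1.inv_left n hn
      rwa [inv_inv] at this
    have h2 : Commute n v' := by
      have := hfull _ hn' (by
        have e : D.ν (g⁻¹ * n * g) = D.act g⁻¹ (D.ν n) := by
          rw [D.act_vec g⁻¹ hg.1.inv_left hg.2.inv_left n hn, inv_inv]
        rw [e]
        calc D.act v (D.act g⁻¹ (D.ν n)) = D.act g⁻¹ (D.act g (D.act v (D.act g⁻¹ (D.ν n)))) :=
              (D.act_inv' hg _).symm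
          _ = D.act g⁻¹ (D.ν n) := by rw [hgv, D.act_inv hg, hfix])
      have := this.map (MulAut.conj g).toMonoidHom
      simpa [hv', mul_assoc] using this
    rw [hj]
    exact (h1.mul_right h2).symm
  obtain ⟨m, hm⟩ := D.perp_range hv hjQ hjperp
  obtain ⟨n0, hn0, rfl⟩ := D.ν_surj m
  obtain ⟨hkQ, hkν⟩ := D.ν_comm_elem hv hn0
  obtain ⟨ζ, hζ, hζ0, hjk⟩ := D.ν_eq hjQ hkQ (hm.trans hkν.symm)
  have e1 : v' = n0 * v * n0⁻¹ * ζ := by
    calc v' = v * j := by rw [hj, ← mul_assoc, hv2, one_mul]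
      _ = v * (v * n0 * v⁻¹ * n0⁻¹) * ζ := by rw [hjk, ← mul_assoc]
      _ = n0 * v * n0⁻¹ * ζ := by rw [hvi, show v * (v * n0 * v * n0⁻¹) = v * v * n0 * v * n0⁻¹ by group, hv2, one_mul]
  obtain ⟨c, hc⟩ : ∃ c, c = n0⁻¹ * g := ⟨_, rfl⟩
  have hc0 : D.In0 c := hc ▸ ((D.in0_Q hn0).inv D).mul D hg
  have hcv : c * v * c⁻¹ = v * ζ := by
    calc c * v * c⁻¹ = n0⁻¹ * v' * n0 := by rw [hc, hv']; group
      _ = v * (n0⁻¹ * (ζ * n0)) := by rw [e1]; group
      _ = v * (n0⁻¹ * (n0 * ζ)) := by rw [(D.kernel_comm hζ hζ0 (D.in0_Q hn0)).eq]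
      _ = v * ζ := by group
  have hcζ : c * ζ * c⁻¹ = ζ := by rw [(D.kernel_comm hζ hζ0 hc0).eq, mul_inv_cancel_right]
  obtain ⟨t, ht⟩ : ∃ t, t = c * c * c := ⟨_, rfl⟩
  have htv : t * v * t⁻¹ = v * ζ := by
    have e2 : c * (v * ζ) * c⁻¹ = v := by
      rw [show c * (v * ζ) * c⁻¹ = c * v * c⁻¹ * (c * ζ * c⁻¹) by group, hcv, hcζ, mul_assoc, D.kernel_sq hζ hζ0,
        mul_one]
    rw [ht, show c * c * c * v * (c * c * c)⁻¹ = c * (c * (c * v * c⁻¹) * c⁻¹) * c⁻¹ by group, hcv, e2, hcv]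
  have hact : ∀ m, D.act c m = D.act g m := fun m => by
    rw [hc, D.act_mul ((D.in0_Q hn0).inv D) hg, D.act_Q (D.Q.inv_mem hn0)]
  have ht0 : D.In0 t := ht ▸ (hc0.mul D hc0).mul D hc0
  have htQ : t ∈ D.Q := D.faithful t ht0.1 ht0.2 fun m => by
    rw [ht, D.act_mul (hc0.mul D hc0) hc0, D.act_mul hc0 hc0, hact, hact, hact, ← D.act_mul hg hg,
      ← D.act_mul (hg.mul D hg) hg, D.act_Q hg3]
  have hfixt : D.act v (D.ν t) = D.ν t := by
    rw [D.act_vec v hv.1 hv.2 t htQ]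
    have e : v * t * v⁻¹ = t * ζ := by
      have h1 : t * v = v * ζ * t := mul_inv_eq_iff_eq_mul.mp htv
      calc v * t * v⁻¹ = v * ζ * t * (t⁻¹ * ζ⁻¹ * t) * v⁻¹ := by group
        _ = t * v * (t⁻¹ * ζ⁻¹ * t) * v⁻¹ := by rw [h1]
        _ = t * v * ζ⁻¹ * v⁻¹ := by
          rw [show t⁻¹ * ζ⁻¹ * t = ζ⁻¹ by
            rw [(D.kernel_comm hζ hζ0 ht0).inv_left.inv_right.eq, mul_assoc, inv_mul_cancel, mul_one]]
        _ = t * ζ := by
          rw [inv_eq_of_mul_eq_one_right (D.kernel_sq hζ hζ0), mul_assoc t v, (D.kernel_comm hζ hζ0 hv).eq]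
          group
    rw [e, D.ν_mul t htQ ζ hζ, hζ0, add_zero]
  have hζ1 : ζ = 1 := mul_eq_left.mp (htv.symm.trans (mul_inv_eq_iff_eq_mul.mpr (hfull t htQ hfixt).eq))
  refine ⟨c, hc0, ?_, hact⟩
  rw [hζ1, mul_one] at hcv
  exact mul_inv_eq_iff_eq_mul.mp hcv

end Data

end Cfsg.Agent.Spor.FiTwo
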