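import Cfsg.Agent.Lib.Spor.CHZ.Invol
import Cfsg.Agent.Lib.Spor.CHZ.TwoTv

/-!
Involutory semilinear isometries of the Hermitian space: elements of order three beside them, and involutions
with a large common fixed space.
-/

set_option autoImplicit false
set_option maxRecDepth 100000
set_option linter.unusedSectionVars false

namespace Cfsg.Agent.Spor.FiTwo

open Cfsg.Agent.Spor.CHZ Cfsg.Agent.Spor.SpFour Cfsg.Agent.Small.Unitary

/-- the three kinds of an involution -/
theorem semi_types {f : Equiv.Perm V} (hf : Semi f) (h2 : f * f = 1) (h1 : f ≠ 1) :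
    (Lin f ∧ (fixS f).ncard = 16 ∧ (Set.range fun x => f x + x) = fixS f) ∨
      (∃ u : V, u ≠ 0 ∧ herm u u = 0 ∧ ∀ x, f x = x + herm u x • u) ∨
      (Anti f ∧ (fixS f).ncard = 16 ∧ (Set.range fun x => f x + x) = fixS f) := by
  rcases hf with hl | ha
  · rcases hl.invol_cases h2 h1 with h | h
    · exact Or.inl ⟨hl, h⟩
    · exact Or.inr (Or.inl h)
  · exact Or.inr (Or.inr ⟨ha, ha.fix_range h2⟩)

theorem tv_lin {f : Equiv.Perm V} {u : V} (hu : herm u u = 0) (h : ∀ x, f x = x + herm u x • u) : Lin f := by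
  have e : f = sp (tvL u hu) := Equiv.ext fun x => by rw [h, sp_tvL]
  exact e ▸ sp_lin _

theorem tv_fix {f : Equiv.Perm V} {u : V} (hu0 : u ≠ 0) (h : ∀ x, f x = x + herm u x • u) {x : V} :
    f x = x ↔ herm u x = 0 := by
  rw [h, add_eq_left, smul_eq_zero]
  exact ⟨fun e => e.resolve_right hu0, Or.inl⟩

/-- the fixed vectors of an antilinear involution contain no line -/
theorem anti_no_line {f : Equiv.Perm V} (hf : Anti f) {x : V} (hx0 : x ≠ 0) (h : f x = x)
    (hw : f (F4.w • x) = F4.w • x) : False :=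
  absurd (hf.fix_meet h hw hx0) (by decide +kernel)

theorem Lin.adj {f : Equiv.Perm V} (hf : Lin f) (h2 : f * f = 1) (y x : V) :
    herm (f y + y) x = herm y (f x + x) := by
  rw [herm_add_left, herm_add_right]
  conv_lhs => arg 1; rw [← hf.herm]
  rw [← Equiv.Perm.mul_apply, h2, Equiv.Perm.one_apply]

/-- what fixes the totally isotropic fixed space of an involution has order at most two -/
theorem fix_range_sq {a u : Equiv.Perm V} (ha : Lin a) (h2 : a * a = 1)
    (hr : (Set.range fun x => a x + x) = fixS a) (hu : Lin u) (h : ∀ x, a x = x → u x = x) : u * u = 1 := by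
  refine Equiv.ext fun x => ?_
  obtain ⟨d, hd⟩ : ∃ d, d = u x + x := ⟨_, rfl⟩
  have hfix : a d = d := by
    refine add_cancel' ?_
    by_contra hne
    obtain ⟨w, hw⟩ := exists_herm_ne hne
    rw [Lin.adj ha h2] at hw
    refine hw ?_
    have hl : a w + w ∈ fixS a := hr ▸ ⟨w, rfl⟩
    rw [hd]
    exact hu.herm_image_fix (h _ hl) x
  have e := h d hfix
  rw [hd, hu.add] at e
  rw [Equiv.Perm.mul_apply, Equiv.Perm.one_apply]
  calc u (u x) = u (u x) + u x + u x := by rw [add_assoc, add_self, add_zero]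
    _ = u x + x + u x := by rw [e]
    _ = x := by rw [add_right_comm, add_self, zero_add]

/-- two involutions with a common fixed set of at least 32 vectors, one a transvection -/
theorem tv_unique {f f' : Equiv.Perm V} {u : V} (hu0 : u ≠ 0) (h : ∀ x, f x = x + herm u x • u)
    (hf' : Semi f') (h2 : f' * f' = 1) (h1 : f' ≠ 1) {S : Set V} (hS : S ⊆ fixS f) (hS' : S ⊆ fixS f')
    (h32 : 32 ≤ S.ncard) : f' = f := by
  have hle := Set.ncard_le_ncard hS'
  rcases semi_types hf' h2 h1 with ⟨-, h16, -⟩ | ⟨u', hu', huu', hfu'⟩ | ⟨-, h16, -⟩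
  · omega
  swap
  · omega
  have hsub : ∀ y, herm u' y = 0 → herm u y = 0 := by
    intro y hy
    by_contra hne
    have hinj : Function.Injective fun p : ↥S × F4 =>
        (⟨(p.1 : V) + p.2 • y, show herm u' ((p.1 : V) + p.2 • y) = 0 by
          rw [herm_add_right, herm_smul_right, hy, mul_zero, add_zero]
          exact (tv_fix hu' hfu').mp (hS' p.1.2)⟩ : {x : V // herm u' x = 0}) := by
      rintro ⟨s, c⟩ ⟨s', c'⟩ e
      have e' : (s : V) + c • y = (s' : V) + c' • y := congrArg Subtype.val e
      have hc : c = c' := by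
        have e2 := congrArg (herm u) e'
        rw [herm_add_right, herm_add_right, herm_smul_right, herm_smul_right,
          (tv_fix hu0 h).mp (hS s.2), (tv_fix hu0 h).mp (hS s'.2), zero_add, zero_add] at e2
        exact mul_right_cancel₀ hne e2
      subst hc
      rw [Subtype.ext (add_right_cancel e')]
    have hcard := Nat.card_le_card_of_injective _ hinj
    rw [Nat.card_prod, Nat.card_coe_set_eq, Nat.card_eq_fintype_card (α := F4), F4.card] at hcard
    have h64 : Nat.card {x : V // herm u' x = 0} ≤ 64 := by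
      have := (tv_lin huu' hfu').card_fix h1
      refine le_trans (le_of_eq ?_) this
      rw [show fixS f' = {x | herm u' x = 0} from Set.ext fun x => tv_fix hu' hfu']
      exact Nat.card_coe_set_eq _
    omega
  obtain ⟨c, hc⟩ := herm_perp_perp hu' hsub
  have hc0 : c ≠ 0 := fun e => hu0 (by rw [hc, e, zero_smul])
  refine Equiv.ext fun x => ?_
  rw [h, hfu', hc, herm_smul_left, smul_smul]
  congr 2
  have key : ∀ c a : F4, c ≠ 0 → a = star c * a * c := by decide +kernel
  exact key c _ hc0

/-! ### elements of order three -/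

theorem rot_cube : ∀ x : V, rot (rot (rot x)) = x := by decide +kernel

theorem rot_free : ∀ x : V, rot x = x → x = 0 := by decide +kernel

theorem rot_v0 : rot v0 = F4.w • v0 := by decide +kernel

theorem rotL_cube : rotL * rotL * rotL = 1 := sp_inj (Equiv.ext fun x => by
  rw [map_mul, map_mul, map_one, Equiv.Perm.mul_apply, Equiv.Perm.mul_apply, sp_rot, sp_rot, sp_rot, rot_cube]
  rfl)

theorem conj_cube (h : L) : h * rotL * h⁻¹ * (h * rotL * h⁻¹) * (h * rotL * h⁻¹) = 1 := by
  rw [show h * rotL * h⁻¹ * (h * rotL * h⁻¹) * (h * rotL * h⁻¹) = h * (rotL * rotL * rotL) * h⁻¹ by group,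
    rotL_cube, mul_one, mul_inv_cancel]

theorem conj_apply (h : L) (y : V) : sp (h * rotL * h⁻¹) (sp h y) = sp h (rot y) := by
  rw [← Equiv.Perm.mul_apply, ← map_mul, inv_mul_cancel_right, map_mul, Equiv.Perm.mul_apply, sp_rot]

theorem conj_free (h : L) {x : V} (hx : sp (h * rotL * h⁻¹) x = x) : x = 0 := by
  obtain ⟨y, rfl⟩ := (sp h).surjective x
  rw [conj_apply] at hx
  rw [rot_free y ((sp h).injective hx), Semi.zero (Or.inl (sp_lin h))]

/-- a rotation beside a transvection -/
theorem tv_rot {u : V} (hu0 : u ≠ 0) (hu : herm u u = 0) :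
    ∃ g : L, g * g * g = 1 ∧ sp g u = F4.w • u ∧ (∀ y, herm u (sp g y) = F4.w * herm u y) ∧
      ∀ x, sp g x = x → x = 0 := by
  obtain ⟨h, hh⟩ := exists_move v0_ok.1 v0_ok.2 hu0 hu
  have hgu : sp (h * rotL * h⁻¹) u = F4.w • u := by rw [← hh, conj_apply, rot_v0, (sp_lin h).smul]
  refine ⟨h * rotL * h⁻¹, conj_cube h, hgu, fun y => ?_, fun x hx => conj_free h hx⟩
  have e := (sp_lin (h * rotL * h⁻¹)).herm u y
  rw [hgu, herm_smul_left] at e
  rw [← e, ← mul_assoc]
  have key : ∀ a : F4, a = F4.w * star F4.w * a := by decide +kernel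
  exact key _

theorem tv_pair_cube {u x : V} (huu : herm u u = 0) (hxx : herm x x = 0) (h : herm u x = 1) :
    tvL u huu * tvL x hxx * (tvL u huu * tvL x hxx) * (tvL u huu * tvL x hxx) = 1 := by
  have h' : herm x u = 1 := by rw [← star_herm, h, star_one]
  obtain ⟨g, hg⟩ : ∃ g, g = tvL u huu * tvL x hxx := ⟨_, rfl⟩
  have hgy : ∀ y, sp g y = y + (herm u y + herm x y) • u + herm x y • x := fun y => by
    rw [hg, map_mul, Equiv.Perm.mul_apply, sp_tvL, sp_tvL, herm_add_right, herm_smul_right, h, mul_one,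
      add_right_comm]
  have hα : ∀ y, herm u (sp g y) = herm u y + herm x y := fun y => by
    rw [hgy, herm_add_right, herm_add_right, herm_smul_right, herm_smul_right, huu, h, mul_zero, add_zero, mul_one]
  have hβ : ∀ y, herm x (sp g y) = herm u y := fun y => by
    rw [hgy, herm_add_right, herm_add_right, herm_smul_right, herm_smul_right, h', hxx, mul_zero, add_zero, mul_one,
      add_comm (herm u y), ← add_assoc, CharTwo.add_self_eq_zero, zero_add]
  rw [← hg]
  refine sp_inj (Equiv.ext fun y => ?_)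
  rw [map_one, map_mul, map_mul, Equiv.Perm.mul_apply, Equiv.Perm.mul_apply, hgy (sp g (sp g y))]
  simp only [hα, hβ]
  rw [hgy (sp g y), hα, hβ, hgy y, Equiv.Perm.one_apply]
  generalize herm u y = a
  generalize herm x y = c
  have e1 : a + c + (a + c + a) + (a + c + a + (a + c)) = 0 := by
    have key : ∀ a c : F4, a + c + (a + c + a) + (a + c + a + (a + c)) = 0 := by decide +kernel
    exact key a c
  have e2 : c + a + (a + c) = 0 := by
    have key : ∀ a c : F4, c + a + (a + c) = 0 := by decide +kernel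
    exact key a c
  calc y + (a + c) • u + c • x + (a + c + a) • u + a • x + (a + c + a + (a + c)) • u + (a + c) • x
      = y + (a + c + (a + c + a) + (a + c + a + (a + c))) • u + (c + a + (a + c)) • x := by
        simp only [add_smul]; abel
    _ = y := by rw [e1, e2, zero_smul, zero_smul, add_zero, add_zero]

theorem anti_real {f : Equiv.Perm V} (hf : Anti f) {a b : V} (ha : f a = a) (hb : f b = b) :
    herm a b = 0 ∨ herm a b = 1 := by
  refine F4_fixed _ ?_
  have h := hf.herm a b
  rw [ha, hb] at h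
  exact h.symm

/-- an element of order three commuting with an involution moves a commutator vector, if these are singular -/
theorem exists_mover {f : Equiv.Perm V} (hf : Semi f) (h2 : f * f = 1) (h1 : f ≠ 1)
    (hq : ∀ m, herm (f m + m) (f m + m) = 0) {x : V} (hx0 : x ≠ 0) (hx : ∃ m, x = f m + m) :
    ∃ g : L, g * g * g = 1 ∧ (∀ y, sp g (f y) = f (sp g y)) ∧ sp g x ≠ x := by
  obtain ⟨m, hm⟩ := hx
  rcases semi_types hf h2 h1 with ⟨hl, h16, hr⟩ | ⟨u, hu0, huu, hfu⟩ | ⟨ha, h16, hr⟩
  · obtain ⟨a, ha⟩ := exists_frame hl h2 h16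
    refine ⟨a * rotL * a⁻¹, conj_cube a, fun y => ?_, fun e => hx0 (conj_free a e)⟩
    obtain ⟨y, rfl⟩ := (sp a).surjective y
    rw [ha, conj_apply, conj_apply, ha, rot_comm]
  · obtain ⟨g, hg3, hgu, hgh, hfree⟩ := tv_rot hu0 huu
    refine ⟨g, hg3, fun y => ?_, fun e => hx0 (hfree x e)⟩
    rw [hfu, hfu, (sp_lin g).add, (sp_lin g).smul, hgu, hgh, smul_smul, mul_comm]
  · have hmem : ∀ {v}, f v = v → herm v v = 0 := fun {v} hv => by
      obtain ⟨p, rfl⟩ : v ∈ Set.range fun x => f x + x := hr ▸ hv
      exact hq p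
    have hfx : f x = x := hm ▸ image_fixed hf h2 m
    obtain ⟨u, hu, hux⟩ : ∃ u, f u = u ∧ herm u x = 1 := by
      obtain ⟨w, hw⟩ := exists_herm_ne hx0
      obtain ⟨p, r, hp, hr', rfl⟩ := ha.span h16 w
      rw [herm_add_right, herm_smul_right] at hw
      by_cases h : herm x p = 0
      · rw [h, zero_add] at hw
        refine ⟨r, hr', ?_⟩
        rw [← star_herm, (anti_real ha hfx hr').resolve_left (right_ne_zero_of_mul hw), star_one]
      · exact ⟨p, hp, by rw [← star_herm, (anti_real ha hfx hp).resolve_left h, star_one]⟩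
    refine ⟨tvL u (hmem hu) * tvL x (hmem hfx), tv_pair_cube _ _ hux, fun y => ?_, fun e => ?_⟩
    · have htv : ∀ {v : V} (hv : f v = v) (y : V), sp (tvL v (hmem hv)) (f y) = f (sp (tvL v (hmem hv)) y) := by
        intro v hv y
        rw [sp_tvL, sp_tvL, ha.add, ha.smul, hv]
        conv_lhs => arg 2; arg 1; arg 1; rw [← hv]
        rw [ha.herm]
      rw [map_mul, Equiv.Perm.mul_apply, Equiv.Perm.mul_apply, htv hfx, htv hu]
    · rw [map_mul, Equiv.Perm.mul_apply, sp_tvL, sp_tvL, herm_add_right, hmem hfx, herm_smul_right, zero_smul,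
        hux, zero_mul, add_zero, add_zero, one_smul] at e
      rw [add_eq_left] at e
      rw [e, herm_zero_left] at hux
      exact zero_ne_one hux

/-! ### the standard involution -/

/-- the unit vectors -/
def unitV (i : Fin 4) : V := ![![1, 0, 0, 0], ![0, 1, 0, 0], ![0, 0, 1, 0], ![0, 0, 0, 1]] i

/-- their eigenvalues under the rotation -/
def lamV (i : Fin 4) : F4 := ![F4.w, F4.w, F4.v, F4.v] i

theorem rot_unit : ∀ i, rot (unitV i) = lamV i • unitV i := by decide +kernel

theorem rot_only_key : ∀ i : Fin 4, ∀ d ∈ line0, herm (unitV i + d) (unitV i + d) = 1 →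
    rot d = lamV i • d → d ≠ 0 → unitV i + d = tau0 (unitV i) := by decide +kernel

theorem unit_herm : ∀ i, herm (unitV i) (unitV i) = 1 := by decide +kernel

theorem unit_moved : ∀ i, tau0 (unitV i) ≠ unitV i := by decide +kernel

theorem tau0_add : ∀ x y : V, tau0 (x + y) = tau0 x + tau0 y := fun x y => by
  rw [tau0, tau0, tau0, herm_add_right, herm_add_right, add_smul, add_smul]; abel

theorem tau0_smul (c : F4) (x : V) : tau0 (c • x) = c • tau0 x := by
  rw [tau0, tau0, herm_smul_right, herm_smul_right, smul_add, smul_add, smul_smul, smul_smul]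

/-- the only involution with that fixed space commuting with the rotation -/
theorem rot_only {b : Equiv.Perm V} (hb : Lin b) (h2 : b * b = 1) (hfix : ∀ x, b x = x ↔ tau0 x = x)
    (hcomm : ∀ x, b (rot x) = rot (b x)) (x : V) : b x = tau0 x := by
  have hu : ∀ i, b (unitV i) = tau0 (unitV i) := by
    intro i
    obtain ⟨d, hd⟩ : ∃ d, d = b (unitV i) + unitV i := ⟨_, rfl⟩
    have e : b (unitV i) = unitV i + d := by
      rw [hd, add_comm (b (unitV i)), ← add_assoc, add_self, zero_add]
    rw [e]
    refine rot_only_key i d (line0_ok d ((hfix d).mp (hd ▸ image_fixed (Or.inl hb) h2 _))) ?_ ?_ ?_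
    · rw [← e, hb.herm, unit_herm]
    · have he : rot (b (unitV i)) = lamV i • b (unitV i) := by rw [← hcomm, rot_unit, hb.smul]
      have hadd : ∀ x y : V, rot (x + y) = rot x + rot y := fun x y => by
        simp only [← sp_rot]; exact (sp_lin rotL).add x y
      rw [hd, hadd, he, rot_unit, smul_add]
    · intro h0
      refine unit_moved i ((hfix _).mp ?_)
      rw [e, h0, add_zero]
  have ex : x = x 0 • unitV 0 + x 1 • unitV 1 + x 2 • unitV 2 + x 3 • unitV 3 := by
    funext k
    fin_cases k <;> simp [unitV]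
  rw [ex, hb.add, hb.add, hb.add, hb.smul, hb.smul, hb.smul, hb.smul, tau0_add, tau0_add, tau0_add, tau0_smul,
    tau0_smul, tau0_smul, tau0_smul, hu, hu, hu, hu]

end Cfsg.Agent.Spor.FiTwo
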