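import Cfsg.Agent.Lib.Spor.FiTwo.Fusion
import Cfsg.Agent.Lib.Spor.FiTwo.FormA
import Cfsg.Agent.Lib.Spor.FiTwo.Data
import Cfsg.Agent.Lib.Spor.CHZ.XMain
import Cfsg.Agent.S0283
import Mathlib.GroupTheory.FixedPointFree

/-!
The centraliser of the second involution when the centraliser of the first one fixes it: its quotient is again
an involution centraliser of the known kind.
-/

set_option autoImplicit false
set_option maxRecDepth 100000
set_option maxHeartbeats 800000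
set_option linter.unusedSectionVars false

namespace Cfsg.Agent.Spor.FiTwo

open Cfsg.Agent.Spor.CHZ Cfsg.Agent.Spor.SpFour Cfsg.Agent.Small.Unitary

universe w v

variable {G : Type w} [Group G] [Finite G] {z z1 : G}

/-- two maps with the same fibres have images of the same size -/
theorem image_ncard_le {α β : Type*} [Finite β] {s : Set α} (f g : α → β)
    (h : ∀ a ∈ s, ∀ b ∈ s, g a = g b → f a = f b) : (f '' s).ncard ≤ (g '' s).ncard := by
  classical
  have hsec : ∀ v ∈ f '' s, ∃ a ∈ s, f a = v := fun v hv => hv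
  choose r hr hrf using hsec
  let F : ↥(f '' s) → ↥(g '' s) := fun v => ⟨g (r v v.2), _, hr _ _, rfl⟩
  have hinj : Function.Injective F := fun v v' e => Subtype.ext
    ((hrf v v.2).symm.trans ((h _ (hr _ _) _ (hr _ _) (congrArg Subtype.val e)).trans (hrf v' v'.2)))
  simpa only [Nat.card_coe_set_eq] using Nat.card_le_card_of_injective F hinj

section quotient

variable (D : DCore z z1)

/-- the centraliser of the second involution -/
abbrev cOne (_D : DCore z z1) : Subgroup G := Subgroup.centralizer ({z1} : Set G)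

/-- its centre part -/
def cZ : Subgroup ↥(cOne D) := (Subgroup.zpowers z1).subgroupOf (cOne D)

theorem mem_cOne {x : G} : x ∈ cOne D ↔ Commute x z1 := Subgroup.mem_centralizer_singleton_iff

instance cZ_normal : (cZ D).Normal := ⟨fun n hn g => by
  have e : g * n * g⁻¹ = n := Subtype.ext (by
    show (g : G) * n * (g : G)⁻¹ = n
    rcases D.mem_zp1.mp hn with h | h
    · rw [show ((n : G)) = 1 from h, mul_one, mul_inv_cancel]
    · rw [show ((n : G)) = z1 from h, ((mem_cOne D).mp g.2).eq, mul_inv_cancel_right])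
  rwa [e]⟩

/-- the quotient -/
abbrev CQ : Type w := ↥(cOne D) ⧸ cZ D

/-- the class of an element -/
noncomputable def cq (x : G) : CQ D :=
  haveI := _root_.Classical.dec (x ∈ cOne D)
  if h : x ∈ cOne D then QuotientGroup.mk' (cZ D) ⟨x, h⟩ else 1

variable {D}

theorem cq_eq {x : G} (hx : Commute x z1) :
    cq D x = QuotientGroup.mk' (cZ D) ⟨x, (mem_cOne D).mpr hx⟩ := dif_pos _

theorem cq_coe (x : ↥(cOne D)) : QuotientGroup.mk' (cZ D) x = cq D (x : G) :=
  (cq_eq ((mem_cOne D).mp x.2)).symm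

theorem cq_surj (u : CQ D) : ∃ x, Commute x z1 ∧ cq D x = u := by
  obtain ⟨x, rfl⟩ := QuotientGroup.mk'_surjective (cZ D) u
  exact ⟨x, (mem_cOne D).mp x.2, (cq_coe x).symm⟩

theorem cq_mul {x y : G} (hx : Commute x z1) (hy : Commute y z1) : cq D (x * y) = cq D x * cq D y := by
  rw [cq_eq hx, cq_eq hy, cq_eq (hx.mul_left hy), ← map_mul]
  rfl

theorem cq_one : cq D (1 : G) = 1 := by
  rw [cq_eq (Commute.one_left z1)]
  exact map_one _

theorem cq_inv {x : G} (hx : Commute x z1) : cq D x⁻¹ = (cq D x)⁻¹ := by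
  rw [cq_eq hx, cq_eq hx.inv_left, ← map_inv]
  rfl

theorem cq_conj {x y : G} (hx : Commute x z1) (hy : Commute y z1) :
    cq D (x * y * x⁻¹) = cq D x * cq D y * (cq D x)⁻¹ := by
  rw [cq_mul (hx.mul_left hy) hx.inv_left, cq_mul hx hy, cq_inv hx]

theorem cq_iff {x y : G} (hx : Commute x z1) (hy : Commute y z1) : cq D x = cq D y ↔ y = x ∨ y = x * z1 := by
  rw [cq_eq hx, cq_eq hy, QuotientGroup.mk'_apply, QuotientGroup.mk'_apply, QuotientGroup.eq]
  show x⁻¹ * y ∈ Subgroup.zpowers z1 ↔ _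
  rw [D.mem_zp1]
  exact or_congr (inv_mul_eq_one.trans eq_comm) inv_mul_eq_iff_eq_mul

theorem cq_one_iff {x : G} (hx : Commute x z1) : cq D x = 1 ↔ x = 1 ∨ x = z1 := by
  rw [← cq_one (D := D), eq_comm, cq_iff (Commute.one_left z1) hx, one_mul]

theorem cq_commute {x y : G} (hx : Commute x z1) (hy : Commute y z1) :
    Commute (cq D x) (cq D y) ↔ x * y * x⁻¹ = y ∨ x * y * x⁻¹ = y * z1 := by
  rw [← cq_iff (D := D) hy ((hx.mul_left hy).mul_left hx.inv_left), cq_conj hx hy, eq_comm, mul_inv_eq_iff_eq_mul]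
  exact Iff.rfl

theorem cq_commute_of {x y : G} (hx : Commute x z1) (hy : Commute y z1) (h : Commute x y) :
    Commute (cq D x) (cq D y) :=
  (cq_commute hx hy).mpr (Or.inl (by rw [h.eq, mul_inv_cancel_right]))

/-- the centraliser in the quotient -/
theorem cq_comm_z (hn : ¬ IsConj z (z * z1)) {c : G} (hc : Commute c z1) :
    Commute (cq D c) (cq D z) ↔ Commute c z := by
  refine ⟨fun h => ?_, fun h => cq_commute_of hc D.z_comm h⟩
  rcases (cq_commute hc D.z_comm).mp h with e | e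
  · exact mul_inv_eq_iff_eq_mul.mp e
  · exact absurd (isConj_iff.mpr ⟨c, e⟩) hn

variable (D)

/-- the subgroup in the quotient -/
noncomputable def qb : Subgroup (CQ D) := (D.Q.subgroupOf (cOne D)).map (QuotientGroup.mk' (cZ D))

variable {D}

theorem mem_qb {x : G} (hx : Commute x z1) : cq D x ∈ qb D ↔ x ∈ D.Q := by
  constructor
  · rintro ⟨y, hy, e⟩
    rw [cq_coe] at e
    rcases (cq_iff ((mem_cOne D).mp y.2) hx).mp e with h | h <;> rw [h]
    exacts [hy, D.Q.mul_mem hy D.oneQ]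
  · exact fun h => ⟨⟨x, (mem_cOne D).mpr hx⟩, h, cq_coe _⟩

theorem qb_exists {u : CQ D} (hu : u ∈ qb D) : ∃ x ∈ D.Q, cq D x = u := by
  obtain ⟨x, hx, rfl⟩ := hu
  exact ⟨x, hx, (cq_coe x).symm⟩

theorem qb_card : Nat.card ↥(qb D) = 512 := by
  have hle : D.Q ≤ cOne D := fun x hx => (mem_cOne D).mpr (D.cent1 x hx)
  have h := ((QuotientGroup.mk' (cZ D)).comp (D.Q.subgroupOf (cOne D)).subtype).ker.card_mul_index
  rw [Subgroup.index_ker, MonoidHom.range_comp, Subgroup.range_subtype, ← qb,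
    Nat.card_congr (Subgroup.subgroupOfEquivOfLe hle).toEquiv, D.card] at h
  have hk : Nat.card ((QuotientGroup.mk' (cZ D)).comp (D.Q.subgroupOf (cOne D)).subtype).ker = 2 := by
    have hz : (⟨⟨z1, hle D.oneQ⟩, D.oneQ⟩ : D.Q.subgroupOf (cOne D)) ∈
        ((QuotientGroup.mk' (cZ D)).comp (D.Q.subgroupOf (cOne D)).subtype).ker :=
      (QuotientGroup.eq_one_iff _).mpr (D.mem_zp1.mpr (Or.inr rfl))
    refine Nat.card_eq_two_iff.mpr ⟨1, ⟨_, hz⟩, fun e => D.one_ne
      (congrArg Subtype.val (congrArg Subtype.val (congrArg Subtype.val e))).symm, ?_⟩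
    refine Set.eq_univ_of_forall fun v => ?_
    rcases D.mem_zp1.mp ((QuotientGroup.eq_one_iff (N := cZ D)
      ((v : D.Q.subgroupOf (cOne D)) : ↥(cOne D))).mp v.2) with e | e
    · exact Or.inl (Subtype.ext (Subtype.ext (Subtype.ext e)))
    · exact Or.inr (Subtype.ext (Subtype.ext (Subtype.ext e)))
  rw [hk] at h
  exact Nat.eq_of_mul_eq_mul_left two_pos (h.trans (by norm_num))

/-- elements moving the subgroup along the second involution only lie in it -/
theorem self_fix (hfix : ∀ c, Commute c z → Commute c z1) {c : G} (hc : Commute c z)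
    (h : ∀ u ∈ qb D, Commute (cq D c) u) : c ∈ D.Q := by
  refine (D.img_eq_one hc).mp (centralizes fun g => ?_)
  obtain ⟨d, hd, hdg⟩ := D.img_surj (ι g)
  have hcinv : Commute c⁻¹ z := hc.inv_left
  obtain ⟨e, he⟩ : ∃ e, e = d * c * d⁻¹ * c⁻¹ := ⟨_, rfl⟩
  have hez : Commute e z := he ▸ ((hd.mul_left hc).mul_left hd.inv_left).mul_left hcinv
  have heimg : D.img e = ι g * D.img c * (ι g)⁻¹ * (D.img c)⁻¹ := by
    rw [he, D.img_mul ((hd.mul_left hc).mul_left hd.inv_left) hcinv, D.img_mul (hd.mul_left hc) hd.inv_left,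
      D.img_mul hd hc, D.img_inv hd, D.img_inv hc, hdg]
  have hel : e ∈ D.lin := by
    refine ⟨hez, ?_⟩
    rw [heimg, ← map_inv, show ι g * D.img c * ι g⁻¹ * (D.img c)⁻¹ = ι g * (D.img c * ι g⁻¹ * (D.img c)⁻¹) by group]
    exact mul_mem ⟨g, rfl⟩ (range_normal _ _)
  have hcq : ∀ u ∈ qb D, Commute (cq D d * cq D c * (cq D d)⁻¹) u := by
    intro u hu
    obtain ⟨x, hx, rfl⟩ := qb_exists hu
    have hm : cq D (d⁻¹ * x * d) ∈ qb D := by
      refine (mem_qb ?_).mpr ?_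
      · exact ((hfix _ hd.inv_left).mul_left (D.cent1 x hx)).mul_left (hfix d hd)
      · have := D.normal d⁻¹ hd.inv_left x hx
        rwa [inv_inv] at this
    have := (h _ hm).map (MulAut.conj (cq D d)).toMonoidHom
    rw [cq_mul ((hfix _ hd.inv_left).mul_left (D.cent1 x hx)) (hfix d hd),
      cq_mul (hfix _ hd.inv_left) (D.cent1 x hx), cq_inv (hfix d hd)] at this
    simpa [mul_assoc] using this
  have heQ : e ∈ D.Q := by
    refine D.self_one hel fun x hx => (cq_commute (D := D) (hfix e hez) (D.cent1 x hx)).mp ?_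
    rw [he, cq_mul (((hfix d hd).mul_left (hfix c hc)).mul_left (hfix d hd).inv_left) (hfix _ hcinv),
      cq_conj (hfix d hd) (hfix c hc), cq_inv (hfix c hc)]
    exact (hcq _ ((mem_qb (D.cent1 x hx)).mpr hx)).mul_left (h _ ((mem_qb (D.cent1 x hx)).mpr hx)).inv_left
  rw [D.img_Q heQ] at heimg
  exact (mul_inv_eq_iff_eq_mul.mp (mul_inv_eq_one.mp heimg.symm)).symm

variable (D)

/-- the image in the quotient of the acting group -/
noncomputable def qimgFun (u : CQ D) : ↥Gam := D.img (cq_surj u).choose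

variable {D}

theorem qimgFun_cq {c : G} (hc1 : Commute c z1) (hc : Commute c z) : qimgFun D (cq D c) = D.img c := by
  obtain ⟨h1, h2⟩ := (cq_surj (cq D c)).choose_spec
  rw [qimgFun]
  rcases (cq_iff hc1 h1).mp h2.symm with e | e <;> rw [e]
  rw [D.img_mul hc (D.cent z1 D.oneQ), D.img_Q D.oneQ, mul_one]

variable (D)

/-- the structure on the quotient -/
noncomputable def qcore (hfix : ∀ c, Commute c z → Commute c z1) : XCore (cq D z) :=
  have hn : ¬ IsConj z (z * z1) := (fusion_fix D hfix).2.1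
  have hrep : ∀ u : ↥(Subgroup.centralizer ({cq D z} : Set (CQ D))),
      ∃ c, Commute c z1 ∧ Commute c z ∧ cq D c = u := fun u => by
    obtain ⟨c, hc, e⟩ := cq_surj (u : CQ D)
    exact ⟨c, hc, (cq_comm_z hn hc).mp (e.symm ▸ Subgroup.mem_centralizer_singleton_iff.mp u.2), e⟩
  { Q := qb D
    ψ := MonoidHom.mk' (fun u => qimgFun D (u : CQ D)) fun a b => by
      obtain ⟨c, hc1, hc, e⟩ := hrep a
      obtain ⟨d, hd1, hd, e'⟩ := hrep b
      rw [Subgroup.coe_mul, ← e, ← e', ← cq_mul hc1 hd1, qimgFun_cq (hc1.mul_left hd1) (hc.mul_left hd),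
        qimgFun_cq hc1 hc, qimgFun_cq hd1 hd, D.img_mul hc hd]
    ψ_surj := fun g => by
      obtain ⟨c, hc, hcg⟩ := D.img_surj g
      exact ⟨⟨cq D c, Subgroup.mem_centralizer_singleton_iff.mpr ((cq_comm_z hn (hfix c hc)).mpr hc).eq⟩,
        (qimgFun_cq (hfix c hc) hc).trans hcg⟩
    ψ_ker := fun u => by
      obtain ⟨c, hc1, hc, e⟩ := hrep u
      show qimgFun D (u : CQ D) = 1 ↔ (u : CQ D) ∈ qb D
      rw [← e, qimgFun_cq hc1 hc, mem_qb hc1, D.img_eq_one hc]
    z1 := fun e => ((cq_one_iff D.z_comm).mp e).elim D.ne_one fun e => D.ne_z e.symm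
    z2 := by rw [← cq_mul D.z_comm D.z_comm, D.sqz, cq_one]
    cent := fun u hu => by
      obtain ⟨x, hx, rfl⟩ := qb_exists hu
      exact cq_commute_of (D.cent1 x hx) D.z_comm (D.cent x hx)
    normal := fun u hu w hw => by
      obtain ⟨c, hc1, rfl⟩ := cq_surj u
      obtain ⟨x, hx, rfl⟩ := qb_exists hw
      rw [← cq_conj hc1 (D.cent1 x hx), mem_qb ((hc1.mul_left (D.cent1 x hx)).mul_left hc1.inv_left)]
      exact D.normal c ((cq_comm_z hn hc1).mp hu) x hx
    zQ := (mem_qb D.z_comm).mpr D.zQ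
    card := qb_card
    comm := fun u hu w hw => by
      obtain ⟨x, hx, rfl⟩ := qb_exists hu
      obtain ⟨y, hy, rfl⟩ := qb_exists hw
      rw [← cq_conj (D.cent1 x hx) (D.cent1 y hy), ← cq_inv (D.cent1 y hy),
        ← cq_mul (((D.cent1 x hx).mul_left (D.cent1 y hy)).mul_left (D.cent1 x hx).inv_left) (D.cent1 y hy).inv_left]
      rcases D.comm x hx y hy with e | e <;> rw [e]
      · exact Or.inl cq_one
      · exact Or.inr rfl
    sq := fun u hu => by
      obtain ⟨x, hx, rfl⟩ := qb_exists hu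
      rw [← cq_mul (D.cent1 x hx) (D.cent1 x hx)]
      rcases D.sq x hx with e | e <;> rw [e]
      · exact Or.inl cq_one
      · exact Or.inr rfl
    center := fun u hu h => by
      obtain ⟨x, hx, rfl⟩ := qb_exists hu
      have hW : x ∈ D.W := D.mem_W_iff.mpr ⟨hx, fun y hy => by
        rcases (cq_commute (D.cent1 x hx) (D.cent1 y hy)).mp (h _ ((mem_qb (D.cent1 y hy)).mpr hy)) with e | e
        · exact mul_inv_eq_iff_eq_mul.mp e
        exfalso
        have e' : x * y * x⁻¹ * y⁻¹ = z1 := by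
          rw [e, mul_assoc, ← (D.cent1 y hy).inv_left.eq, mul_inv_cancel_left]
        rcases D.comm x hx y hy with a | a <;> rw [e'] at a
        · exact D.one_ne a
        · exact D.ne_z a⟩
      rcases D.mem_W.mp hW with e | e | e | e <;> rw [e]
      · exact Or.inl cq_one
      · exact Or.inr rfl
      · exact Or.inl ((cq_one_iff (Commute.refl z1)).mpr (Or.inr rfl))
      · refine Or.inr ((cq_iff ((Commute.refl z1).mul_left D.z_comm) D.z_comm).mpr (Or.inr ?_))
        rw [← D.z_comm.eq, mul_assoc, D.sq1, mul_one]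
    self := fun u hu h => by
      obtain ⟨c, hc1, rfl⟩ := cq_surj u
      exact (mem_qb hc1).mpr (self_fix hfix ((cq_comm_z hn hc1).mp hu) h) }

theorem cq_z_order : orderOf (cq D z) = 2 :=
  orderOf_eq_prime (by rw [pow_two, ← cq_mul D.z_comm D.z_comm, D.sqz, cq_one])
    fun e => ((cq_one_iff D.z_comm).mp e).elim D.ne_one fun e => D.ne_z e.symm

/-- the odd core in the quotient gives isolation -/
theorem split_of_sup (hfix : ∀ c, Commute c z → Commute c z1)
    (h : Subgroup.centralizer ({cq D z} : Set (CQ D)) ⊔ Cfsg.oddCore (CQ D) = ⊤) : Split z z1 := by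
  have hn : ¬ IsConj z (z * z1) := (fusion_fix D hfix).2.1
  intro c hc
  haveI : (Cfsg.oddCore (CQ D)).Normal := Cfsg.pPrimeCore_normal 2 (CQ D)
  obtain ⟨a, ha, o, ho, hao⟩ := Subgroup.mem_sup_of_normal_right.mp (h ▸ Subgroup.mem_top (cq D c))
  have ha' : Commute a (cq D z) := Subgroup.mem_centralizer_singleton_iff.mp ha
  have hcc : Commute (c * z * c⁻¹) z1 := (hc.mul_left D.z_comm).mul_left hc.inv_left
  obtain ⟨r, hr⟩ : ∃ r, r = c * z * c⁻¹ * z := ⟨_, rfl⟩
  have hr1 : Commute r z1 := hr ▸ hcc.mul_left D.z_comm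
  have hrO : cq D r ∈ Cfsg.oddCore (CQ D) := by
    have hzi : cq D z * cq D z = 1 := by rw [← cq_mul D.z_comm D.z_comm, D.sqz, cq_one]
    have e : cq D r = a * (o * (cq D z * o⁻¹ * (cq D z)⁻¹)) * a⁻¹ := by
      rw [hr, cq_mul hcc D.z_comm, cq_conj hc D.z_comm, ← hao]
      calc a * o * cq D z * (a * o)⁻¹ * cq D z = a * o * cq D z * o⁻¹ * (a⁻¹ * cq D z) := by group
        _ = a * o * cq D z * o⁻¹ * (cq D z * a⁻¹) := by rw [ha'.inv_left.eq]
        _ = a * (o * (cq D z * o⁻¹ * (cq D z)⁻¹)) * a⁻¹ := by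
          rw [inv_eq_of_mul_eq_one_right hzi]; group
    rw [e]
    exact Subgroup.Normal.conj_mem inferInstance _
      (mul_mem ho (Subgroup.Normal.conj_mem inferInstance _ (inv_mem ho) _)) _
  have hodd : Odd (orderOf (cq D r)) := by
    refine Odd.of_dvd_nat (Char.card_oddCore_odd (CQ D)) ?_
    rw [← Subgroup.orderOf_mk _ hrO]
    exact orderOf_dvd_natCard _
  obtain ⟨j, hj⟩ := hodd
  have hpow : ∀ n, cq D (r ^ n) = cq D r ^ n := fun n => by
    induction n with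
    | zero => rw [pow_zero, pow_zero, cq_one]
    | succ n ih => rw [pow_succ, pow_succ, cq_mul (hr1.pow_left n) hr1, ih]
  have h1 : cq D (r ^ (2 * j + 1)) = 1 := by rw [hpow, ← hj, pow_orderOf_eq_one]
  rw [← hr]
  rcases (cq_one_iff (hr1.pow_left _)).mp h1 with e | e
  · exact (odd_two_mul_add_one j).of_dvd_nat (orderOf_dvd_of_pow_eq_one e)
  · exfalso
    have hu2 : c * z * c⁻¹ * (c * z * c⁻¹) = 1 := by
      rw [show c * z * c⁻¹ * (c * z * c⁻¹) = c * (z * z) * c⁻¹ by group, D.sqz]; group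
    have hd := dih_conj hu2 D.sqz j
    rw [← hr] at hd
    refine hn ((isConj_iff.mpr ⟨c, rfl⟩).trans (isConj_iff.mpr ⟨r ^ j, ?_⟩))
    rw [hd]
    have e2 : r ^ (2 * j) = z1 * r⁻¹ := by rw [← e, pow_succ, mul_inv_cancel_right]
    rw [e2, hr, mul_inv_rev, D.z_inv, inv_eq_of_mul_eq_one_right hu2,
      show z1 * (z * (c * z * c⁻¹)) * (c * z * c⁻¹) = z1 * z * (c * z * c⁻¹ * (c * z * c⁻¹)) by group, hu2, mul_one,
      D.z_comm.eq]

/-- coordinates on the quotient unless isolated -/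
theorem setup_of_unsplit (hfix : ∀ c, Commute c z → Commute c z1) (hns : ¬ Split z z1) :
    ∃ S : Setup (cq D z), S.Q = qb D := by
  obtain ⟨X, hX⟩ : ∃ X, X = qcore D hfix := ⟨_, rfl⟩
  by_cases h : ∀ g : CQ D, (X.conj g).R.CaseB
  · refine absurd (split_of_sup D hfix (sup_eq_top_of_isolated (cq_z_order D) fun g hc => ?_)) hns
    by_contra hne
    refine XCore.no_commuting_conjugate (z₀ := cq D z) (fun x hx => ?_) (IsConj.refl _)
      (isConj_iff.mpr ⟨g, rfl⟩) hc.symm hne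
    obtain ⟨a, rfl⟩ := isConj_iff.mp hx
    exact ⟨X.conj a, h a⟩
  push Not at h
  obtain ⟨g, hg⟩ := h
  obtain ⟨φ, hlin, hq⟩ := (X.conj g).R.model ((X.conj g).R.cases.resolve_right hg)
  obtain ⟨S0, -, -⟩ := (X.conj g).exists_setup φ hlin hq
  have key : ∀ {x : CQ D}, Setup x → x = cq D z → Nonempty (Setup (cq D z)) := fun S e => e ▸ ⟨S⟩
  obtain ⟨S⟩ := key (S0.conj g⁻¹) (by group)
  refine ⟨S, ?_⟩
  have hn : ¬ IsConj z (z * z1) := (fusion_fix D hfix).2.1
  have hS2 : IsPGroup 2 S.Q := IsPGroup.of_card (n := 9) (by rw [S.card_Q]; norm_num)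
  let P : Subgroup G := (S.Q.comap (QuotientGroup.mk' (cZ D))).map (cOne D).subtype
  have hP : ∀ {x}, x ∈ P → Commute x z1 ∧ cq D x ∈ S.Q := by
    rintro _ ⟨x, hx, rfl⟩
    exact ⟨(mem_cOne D).mp x.2, (cq_coe x) ▸ (hx : QuotientGroup.mk' (cZ D) x ∈ S.Q)⟩
  have hP2 : IsPGroup 2 P := by
    intro x
    obtain ⟨hx1, hxS⟩ := hP x.2
    obtain ⟨k, hk⟩ := hS2 ⟨_, hxS⟩
    refine ⟨k + 1, Subtype.ext ?_⟩
    have hpow : ∀ n, cq D ((x : G) ^ n) = cq D (x : G) ^ n := fun n => by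
      induction n with
      | zero => rw [pow_zero, pow_zero, cq_one]
      | succ n ih => rw [pow_succ, pow_succ, cq_mul (hx1.pow_left n) hx1, ih]
    have h1 : cq D ((x : G) ^ (2 ^ k)) = 1 := by
      rw [hpow]; exact congrArg Subtype.val hk
    rw [Subgroup.coe_pow, Subgroup.coe_one, pow_succ, pow_mul, pow_two]
    rcases (cq_one_iff (hx1.pow_left _)).mp h1 with e | e <;> rw [e]
    exacts [one_mul 1, D.sq1]
  have hle : P ≤ D.Q := by
    refine D.two_le hP2 (fun x hx => (cq_comm_z hn (hP hx).1).mp (S.cent _ (hP hx).2)) fun c hc x hx => ?_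
    have hc1 := D.lin_fix hc
    refine ⟨⟨c * x * c⁻¹, (mem_cOne D).mpr ((hc1.mul_left (hP hx).1).mul_left hc1.inv_left)⟩, ?_, rfl⟩
    show QuotientGroup.mk' (cZ D) _ ∈ S.Q
    rw [cq_coe, cq_conj hc1 (hP hx).1]
    exact S.normal _ ((cq_comm_z hn hc1).mpr hc.1) _ (hP hx).2
  refine Subgroup.eq_of_le_of_card_ge (fun u hu => ?_) (by rw [S.card_Q, qb_card])
  obtain ⟨x, hx, rfl⟩ := cq_surj u
  refine (mem_qb hx).mpr (hle ⟨⟨x, (mem_cOne D).mpr hx⟩, ?_, rfl⟩)
  show QuotientGroup.mk' (cZ D) _ ∈ S.Q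
  rw [← cq_eq hx]
  exact hu

/-- no other conjugate under the centraliser of the second involution lies in the subgroup -/
theorem no_mem_of_unsplit (hfix : ∀ c, Commute c z → Commute c z1) (hns : ¬ Split z z1) {c : G}
    (hc : Commute c z1) (hm : c * z * c⁻¹ ∈ D.Q) : c * z * c⁻¹ = z := by
  obtain ⟨S, hS⟩ := setup_of_unsplit D hfix hns
  have hy : Commute (c * z * c⁻¹) z1 := (hc.mul_left D.z_comm).mul_left hc.inv_left
  have h := S.noQ' (cq D (c * z * c⁻¹)) (hS ▸ (mem_qb hy).mpr hm)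
    (isConj_iff.mpr ⟨cq D c, (cq_conj hc D.z_comm).symm⟩)
  rcases (cq_iff D.z_comm hy).mp h.symm with e | e
  · exact e
  · exact absurd (isConj_iff.mpr ⟨c, e⟩) (fusion_fix D hfix).2.1

/-- a second conjugate: acting as a transvection and unchanged by the vectors orthogonal to its centre -/
theorem pair_of_unsplit (hfix : ∀ c, Commute c z → Commute c z1) (hns : ¬ Split z z1) :
    ∃ (S : Setup (cq D z)) (c : G) (u : V), S.Q = qb D ∧ Commute c z1 ∧ Commute (c * z * c⁻¹) z ∧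
      c * z * c⁻¹ ≠ z ∧ u ≠ 0 ∧ herm u u = 0 ∧
      (∀ x, S.π (cq D (c * z * c⁻¹)) x = x + herm u x • u) ∧
      ∀ q ∈ D.Q, herm u (S.ν (cq D q)) = 0 → Commute q (c * z * c⁻¹) := by
  have hn : ¬ IsConj z (z * z1) := (fusion_fix D hfix).2.1
  obtain ⟨S, hS⟩ := setup_of_unsplit D hfix hns
  obtain ⟨g, hgc, hgne⟩ : ∃ g : CQ D, Commute (g * cq D z * g⁻¹) (cq D z) ∧ g * cq D z * g⁻¹ ≠ cq D z := by
    by_contra hno
    push Not at hno
    exact hns (split_of_sup D hfix (sup_eq_top_of_isolated (cq_z_order D) fun g hc => hno g hc.symm))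
  obtain ⟨c, hc, rfl⟩ := cq_surj g
  have P := S.two' hgc hgne
  obtain ⟨u, hsh⟩ := P.shape P.lin P.symm.lin
  obtain ⟨y, hy⟩ : ∃ y, y = c * z * c⁻¹ := ⟨_, rfl⟩
  have hy1 : Commute y z1 := hy ▸ (hc.mul_left D.z_comm).mul_left hc.inv_left
  have hyq : cq D y = cq D c * cq D z * (cq D c)⁻¹ := by rw [hy, cq_conj hc D.z_comm]
  have hyz : Commute y z := (cq_comm_z hn hy1).mp (hyq ▸ hgc)
  have hact : ∀ x, S.π (cq D y) x = x + herm u x • u := by rw [hyq]; exact hsh.act
  have hy2 : y * y = 1 := by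
    rw [hy, show c * z * c⁻¹ * (c * z * c⁻¹) = c * (z * z) * c⁻¹ by group, D.sqz]; group
  have hyz1 : cq D y * cq D z = cq D z * cq D y := (cq_commute_of hy1 D.z_comm hyz).eq
  refine ⟨S, c, u, hS, hc, hy ▸ hyz, fun e => hgne (by rw [← hyq, hy, e]), hsh.ne, hsh.iso, hy ▸ hact, ?_⟩
  rw [← hy]
  -- moved at most along the second involution
  have hmod : ∀ q ∈ D.Q, herm u (S.ν (cq D q)) = 0 → y * q * y⁻¹ = q ∨ y * q * y⁻¹ = q * z1 := by
    intro q hq h0
    have h := hsh.comm _ (hS ▸ (mem_qb (D.cent1 q hq)).mpr hq) h0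
    rw [← hyq] at h
    exact (cq_commute hy1 (D.cent1 q hq)).mp h.symm
  obtain ⟨g, -, hgu, hgh, hfree⟩ := tv_rot hsh.ne hsh.iso
  obtain ⟨du, hdu, hdg⟩ := S.π_surj g
  obtain ⟨d, hd1, rfl⟩ := cq_surj du
  have hdz : Commute d z := (cq_comm_z hn hd1).mp hdu
  -- the commutator with the rotation
  obtain ⟨j, hj⟩ : ∃ j, j = y⁻¹ * (d * y * d⁻¹) := ⟨_, rfl⟩
  have hjQ : j ∈ D.Q := by
    have hj1 : Commute j z1 := hj ▸ hy1.inv_left.mul_left ((hd1.mul_left hy1).mul_left hd1.inv_left)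
    refine (mem_qb hj1).mp (hS ▸ (S.π_iff _ ?_).mp ?_)
    · exact (cq_comm_z hn hj1).mpr (hj ▸ hyz.inv_left.mul_left ((hdz.mul_left hyz).mul_left hdz.inv_left))
    · have hcy : Commute (cq D y) (cq D z) := hyz1
      rw [hj, cq_mul hy1.inv_left ((hd1.mul_left hy1).mul_left hd1.inv_left), cq_inv hy1, cq_conj hd1 hy1,
        S.π_mul _ _ hcy.inv_left ((hdu.mul_left hcy).mul_left hdu.inv_left), S.π_inv hcy,
        S.π_mul _ _ (hdu.mul_left hcy) hdu.inv_left, S.π_mul _ _ hdu hcy, S.π_inv hdu, hdg, inv_mul_eq_one,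
        eq_mul_inv_iff_mul_eq]
      refine Equiv.ext fun x => ?_
      rw [Equiv.Perm.mul_apply, Equiv.Perm.mul_apply, hact, hact, hgh, (sp_lin g).add, (sp_lin g).smul, hgu,
        smul_smul, mul_comm]
  have hmove : ∀ p ∈ D.Q, herm u (S.ν (cq D p)) = 0 → Commute (d * p * d⁻¹ * p⁻¹) y := by
    intro p hp hp0
    obtain ⟨n', hn'⟩ : ∃ n', n' = d * p * d⁻¹ := ⟨_, rfl⟩
    have hn'Q : n' ∈ D.Q := hn' ▸ D.normal d hdz p hp
    have hn'0 : herm u (S.ν (cq D n')) = 0 := by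
      rw [hn', cq_conj hd1 (D.cent1 p hp), S.ν_act _ hdu _ (hS ▸ (mem_qb (D.cent1 p hp)).mpr hp), hdg, hgh, hp0,
        mul_zero]
    obtain ⟨ζ, hζy, hζz, hζd⟩ : ∃ ζ, y * p * y⁻¹ = p * ζ ∧ (ζ = 1 ∨ ζ = z1) ∧ d * ζ * d⁻¹ = ζ := by
      rcases hmod p hp hp0 with e | e
      · exact ⟨1, by rw [e, mul_one], Or.inl rfl, by group⟩
      · exact ⟨z1, e, Or.inr rfl, by rw [hd1.eq, mul_inv_cancel_right]⟩
    have e1 : y * (j * n' * j⁻¹) * y⁻¹ = n' * ζ := by
      calc y * (j * n' * j⁻¹) * y⁻¹ = d * (y * p * y⁻¹) * d⁻¹ := by rw [hj, hn']; group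
        _ = d * p * d⁻¹ * (d * ζ * d⁻¹) := by rw [hζy]; group
        _ = n' * ζ := by rw [hζd, hn']
    have e2 : y * n' * y⁻¹ = n' * ζ := by
      rcases D.comm j hjQ n' hn'Q with a | a
      · rwa [mul_inv_eq_one.mp a] at e1
      rw [mul_inv_eq_iff_eq_mul.mp a, show y * (z * n') * y⁻¹ = y * z * y⁻¹ * (y * n' * y⁻¹) by group,
        hyz.eq, mul_inv_cancel_right] at e1
      exfalso
      have e3 : y * n' * y⁻¹ = n' * (z * ζ) := by
        rw [← mul_assoc, (D.cent n' hn'Q).eq, mul_assoc z n' ζ, ← e1, ← mul_assoc, D.sqz, one_mul]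
      rcases hmod n' hn'Q hn'0 with b | b <;> rw [e3] at b
      · have b' := mul_eq_left.mp b
        rcases hζz with rfl | rfl
        · exact D.ne_one (by simpa using b')
        · exact D.zz1_ne (by rw [← D.z_comm.eq]; exact b')
      · have b' := mul_left_cancel b
        rcases hζz with rfl | rfl
        · exact D.ne_z (by simpa using b'.symm)
        · exact D.ne_one (mul_eq_right.mp b')
    have e4 : y * (n' * p⁻¹) * y⁻¹ = n' * p⁻¹ := by
      have hζp : Commute ζ p⁻¹ := by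
        rcases hζz with rfl | rfl
        exacts [Commute.one_left _, (D.cent1 p hp).inv_left.symm]
      calc y * (n' * p⁻¹) * y⁻¹ = y * n' * y⁻¹ * (y * p * y⁻¹)⁻¹ := by group
        _ = n' * (ζ * (ζ⁻¹ * p⁻¹)) := by rw [e2, hζy, mul_inv_rev]; group
        _ = n' * p⁻¹ := by rw [mul_inv_cancel_left]
    rw [← hn']
    exact (mul_inv_eq_iff_eq_mul.mp e4).symm
  intro q hq hq0
  let Φ : {x : V // herm u x = 0} → {x : V // herm u x = 0} := fun x => ⟨sp g x.1 + x.1, by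
    rw [herm_add_right, hgh, x.2, mul_zero, add_zero]⟩
  have hinj : Function.Injective Φ := fun a b e => by
    have e' : sp g a.1 + a.1 = sp g b.1 + b.1 := congrArg Subtype.val e
    refine Subtype.ext (CHZ.add_cancel' (hfree _ ?_))
    rw [(sp_lin g).add]
    exact CHZ.swap_sum e'
  obtain ⟨⟨x, hx⟩, hxΦ⟩ := Finite.injective_iff_surjective.mp hinj ⟨S.ν (cq D q), hq0⟩
  obtain ⟨pu, hpu, rfl⟩ := S.ν_surj x
  obtain ⟨p, hp, rfl⟩ := qb_exists (hS ▸ hpu)
  have hk := hmove p hp hx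
  have hkQ : d * p * d⁻¹ * p⁻¹ ∈ D.Q := D.Q.mul_mem (D.normal d hdz p hp) (D.Q.inv_mem hp)
  have hkν : S.ν (cq D (d * p * d⁻¹ * p⁻¹)) = S.ν (cq D q) := by
    have hd' : cq D (d * p * d⁻¹) ∈ S.Q := hS ▸ (mem_qb (D.cent1 _ (D.normal d hdz p hp))).mpr (D.normal d hdz p hp)
    rw [cq_mul (D.cent1 _ (D.normal d hdz p hp)) (D.cent1 p hp).inv_left, cq_inv (D.cent1 p hp),
      S.ν_mul _ hd' _ (S.Q.inv_mem hpu), S.ν_inv hpu, cq_conj hd1 (D.cent1 p hp), S.ν_act _ hdu _ hpu, hdg]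
    exact congrArg Subtype.val hxΦ
  have hk' : cq D (d * p * d⁻¹ * p⁻¹) ∈ S.Q := hS ▸ (mem_qb (D.cent1 _ hkQ)).mpr hkQ
  have hq' : cq D q ∈ S.Q := hS ▸ (mem_qb (D.cent1 q hq)).mpr hq
  rcases S.ν_eq hq' hk' hkν.symm with e | e
  · rcases (cq_iff (D.cent1 _ hkQ) (D.cent1 q hq)).mp e.symm with e' | e' <;> rw [e']
    exacts [hk, hk.mul_left hy1.symm]
  · rw [← cq_mul (D.cent1 _ hkQ) D.z_comm] at e
    rcases (cq_iff ((D.cent1 _ hkQ).mul_left D.z_comm) (D.cent1 q hq)).mp e.symm with e' | e' <;> rw [e']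
    exacts [hk.mul_left hyz.symm, (hk.mul_left hyz.symm).mul_left hy1.symm]

end quotient

/-- the coordinates vanish on the centre only -/
theorem vec_fibre {D : DCore z z1} {S : Setup (cq D z)} (hS : S.Q = qb D) {a b : G} (ha : a ∈ D.Q) (hb : b ∈ D.Q) :
    S.ν (cq D a) = S.ν (cq D b) ↔ b⁻¹ * a ∈ D.W := by
  have ha1 := D.cent1 a ha
  have hb1 := D.cent1 b hb
  have ha' : cq D a ∈ S.Q := hS ▸ (mem_qb ha1).mpr ha
  have hb' : cq D b ∈ S.Q := hS ▸ (mem_qb hb1).mpr hb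
  obtain ⟨x, hx⟩ : ∃ x, x = b⁻¹ * a := ⟨_, rfl⟩
  have hxQ : x ∈ D.Q := hx ▸ D.Q.mul_mem (D.Q.inv_mem hb) ha
  have hx' : cq D x ∈ S.Q := hS ▸ (mem_qb (D.cent1 x hxQ)).mpr hxQ
  have e : S.ν (cq D x) = S.ν (cq D b) + S.ν (cq D a) := by
    rw [hx, cq_mul hb1.inv_left ha1, cq_inv hb1, S.ν_mul _ (S.Q.inv_mem hb') _ ha', S.ν_inv hb']
  rw [← hx, D.mem_W]
  constructor
  · intro h
    rw [h, CHZ.add_self] at e
    rcases (S.ν_zero _ hx').mp e with e' | e'
    · rcases (cq_one_iff (D.cent1 x hxQ)).mp e' with h' | h'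
      exacts [Or.inl h', Or.inr (Or.inr (Or.inl h'))]
    · rcases (cq_iff D.z_comm (D.cent1 x hxQ)).mp e'.symm with h' | h'
      exacts [Or.inr (Or.inl h'), Or.inr (Or.inr (Or.inr (h'.trans D.z_comm.eq)))]
  · intro h
    refine CHZ.add_cancel' ?_
    rw [add_comm, ← e]
    rcases h with h | h | h | h <;> rw [h]
    · rw [cq_one, S.ν_one]
    · exact S.ν_z
    · rw [(cq_one_iff (Commute.refl z1)).mpr (Or.inr rfl), S.ν_one]
    · rw [(cq_iff (D := D) ((Commute.refl z1).mul_left D.z_comm) D.z_comm).mpr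
        (Or.inr (by rw [← D.z_comm.eq, mul_assoc, D.sq1, mul_one]))]
      exact S.ν_z

theorem symm_fix (D : DCore z z1) (hfix : ∀ c, Commute c z → Commute c z1) :
    ∀ c, Commute c z → Commute c (z1 * z) := fun c hc => (hfix c hc).mul_right hc

/-- one of the other two involutions splits off the first -/
theorem split_or (D : DCore z z1) (hfix : ∀ c, Commute c z → Commute c z1) :
    Split z z1 ∨ Split z (z * z1) := by
  classical
  by_contra hno
  push Not at hno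
  obtain ⟨hn1, hn2, hn3⟩ := fusion_fix D hfix
  have hns2 : ¬ Split z (z1 * z) := D.z_comm.eq ▸ hno.2
  obtain ⟨S, c1, u1, hS, hc1, hy1z, -, hu1, huu1, hact1, hcomm1⟩ := pair_of_unsplit D hfix hno.1
  obtain ⟨S', c2, u2, hS', hc2, hy2z, hy2ne, hu2, -, hact2, hcomm2⟩ :=
    pair_of_unsplit D.symm (symm_fix D hfix) hns2
  obtain ⟨y, hy⟩ : ∃ y, y = c2 * z * c2⁻¹ := ⟨_, rfl⟩
  rw [← hy] at hy2z hy2ne hact2 hcomm2
  obtain ⟨y1, hy1⟩ : ∃ y1, y1 = c1 * z * c1⁻¹ := ⟨_, rfl⟩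
  rw [← hy1] at hy1z hact1 hcomm1
  have hy11 : Commute y1 z1 := hfix y1 hy1z
  have hy21 : Commute y z1 := hfix y hy2z
  have hyy : ∀ {c : G}, c * z * c⁻¹ * (c * z * c⁻¹) = 1 := fun {c} => by
    rw [show c * z * c⁻¹ * (c * z * c⁻¹) = c * (z * z) * c⁻¹ by group, D.sqz]; group
  have hy2sq : y * y = 1 := hy ▸ hyy
  have hy1sq : y1 * y1 = 1 := hy1 ▸ hyy
  have hyc : Commute (cq D y) (cq D z) := cq_commute_of hy21 D.z_comm hy2z
  -- it is outside the subgroup
  have hyQ : y ∉ D.Q := fun h => by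
    have h' : S'.π (cq D.symm y) = 1 := (S'.π_iff _ (cq_commute_of (D := D.symm) (hy21.mul_right hy2z)
      D.symm.z_comm hy2z)).mpr (hS' ▸ (mem_qb (D := D.symm) (hy21.mul_right hy2z)).mpr h)
    obtain ⟨x, hx⟩ := exists_herm_val hu2 1
    have e := hact2 x
    rw [h', hx, one_smul, Equiv.Perm.one_apply] at e
    exact hu2 (left_eq_add.mp e)
  -- the vectors centralising it in both coordinates
  obtain ⟨A, hA⟩ : ∃ A : Set G, A = {q | q ∈ D.Q ∧ Commute q y} := ⟨_, rfl⟩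
  have h64 : 64 ≤ ((fun q => S.ν (cq D q)) '' A).ncard := by
    refine le_trans ?_ (image_ncard_le (fun q => S'.ν (cq D.symm q)) (fun q => S.ν (cq D q)) ?_)
    · rw [← hyper_ncard hu2]
      refine Set.ncard_le_ncard fun x (hx : herm u2 x = 0) => ?_
      obtain ⟨qu, hqu, rfl⟩ := S'.ν_surj x
      obtain ⟨q, hq, rfl⟩ := qb_exists (hS' ▸ hqu)
      exact ⟨q, hA ▸ ⟨hq, hcomm2 q hq hx⟩, rfl⟩
    · rw [hA]
      rintro a ⟨ha, -⟩ b ⟨hb, -⟩ e
      have := D.mem_W_iff.mp ((vec_fibre hS ha hb).mp e)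
      exact (vec_fibre hS' ha hb).mpr (D.symm.mem_W_iff.mpr this)
  obtain ⟨f, hf⟩ : ∃ f, f = S.π (cq D y) := ⟨_, rfl⟩
  have hf2 : f * f = 1 := by
    rw [hf, ← S.π_mul _ _ hyc hyc, ← cq_mul hy21 hy21, hy2sq, cq_one, S.π_one]
  have hf1 : f ≠ 1 := fun e => hyQ ((mem_qb hy21).mp (hS ▸ (S.π_iff _ hyc).mp (hf ▸ e)))
  have hsub : ((fun q => S.ν (cq D q)) '' A) ⊆ fixS f := by
    rw [hA]
    rintro _ ⟨q, ⟨hq, hqy⟩, rfl⟩
    show f (S.ν (cq D q)) = S.ν (cq D q)
    rw [hf, ← S.ν_act _ hyc _ (hS ▸ (mem_qb (D.cent1 q hq)).mpr hq), ← cq_conj hy21 (D.cent1 q hq), hqy.symm.eq,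
      mul_inv_cancel_right]
  have hbig := h64.trans (Set.ncard_le_ncard hsub)
  obtain ⟨u, hu, huu, hfu⟩ : ∃ u : V, u ≠ 0 ∧ herm u u = 0 ∧ ∀ x, f x = x + herm u x • u := by
    rcases semi_types (hf ▸ S.π_semi _ hyc) hf2 hf1 with ⟨-, h, -⟩ | h | ⟨-, h, -⟩
    · omega
    · exact h
    · omega
  have hfixu : fixS f = {x | herm u x = 0} := Set.ext fun x => tv_fix hu hfu
  have hAeq : ((fun q => S.ν (cq D q)) '' A) = {x | herm u x = 0} :=
    Set.eq_of_subset_of_ncard_le (hfixu ▸ hsub) (by rw [hyper_ncard hu]; exact h64)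
  have hcommW : ∀ {c w : G}, Commute c z → w ∈ D.W → Commute c w := fun {c w} hc hw => comm_W D hc (hfix c hc) hw
  have hcomm : ∀ q ∈ D.Q, herm u (S.ν (cq D q)) = 0 → Commute q y := by
    intro q hq h0
    obtain ⟨a, ha, e⟩ : S.ν (cq D q) ∈ (fun q => S.ν (cq D q)) '' A := hAeq ▸ h0
    rw [hA] at ha
    rw [show q = a * (a⁻¹ * q) by group]
    exact ha.2.mul_left (hcommW hy2z ((vec_fibre hS hq ha.1).mp e.symm)).symm
  -- move the other centre onto this one
  obtain ⟨g, hg⟩ := exists_move hu1 huu1 hu huu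
  obtain ⟨mu, hmu, hmg⟩ := S.π_surj g
  obtain ⟨m, hm1, rfl⟩ := cq_surj mu
  have hmz : Commute m z := (cq_comm_z hn2 hm1).mp hmu
  obtain ⟨t, ht⟩ : ∃ t, t = m * y1 * m⁻¹ := ⟨_, rfl⟩
  have htz : Commute t z := ht ▸ (hmz.mul_left hy1z).mul_left hmz.inv_left
  have ht1 : Commute t z1 := hfix t htz
  have htsq : t * t = 1 := by
    rw [ht, show m * y1 * m⁻¹ * (m * y1 * m⁻¹) = m * (y1 * y1) * m⁻¹ by group, hy1sq]; group
  have htc : Commute (cq D t) (cq D z) := cq_commute_of ht1 D.z_comm htz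
  have htf : S.π (cq D t) = f := by
    have hy1c : Commute (cq D y1) (cq D z) := cq_commute_of hy11 D.z_comm hy1z
    rw [ht, cq_conj hm1 hy11, S.π_mul _ _ (hmu.mul_left hy1c) hmu.inv_left, S.π_mul _ _ hmu hy1c, S.π_inv hmu, hmg,
      mul_inv_eq_iff_eq_mul]
    refine Equiv.ext fun x => ?_
    rw [Equiv.Perm.mul_apply, Equiv.Perm.mul_apply, hact1, hfu, (sp_lin g).add, (sp_lin g).smul, hg, ← hg,
      (sp_lin g).herm]
  have hcommt : ∀ q ∈ D.Q, herm u (S.ν (cq D q)) = 0 → Commute q t := by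
    intro q hq h0
    obtain ⟨p, hp⟩ : ∃ p, p = m⁻¹ * q * m := ⟨_, rfl⟩
    have hpQ : p ∈ D.Q := by
      have := D.normal m⁻¹ hmz.inv_left q hq
      rw [inv_inv] at this
      exact hp ▸ this
    have hp0 : herm u1 (S.ν (cq D p)) = 0 := by
      have e : S.ν (cq D q) = sp g (S.ν (cq D p)) := by
        rw [← hmg, ← S.ν_act _ hmu _ (hS ▸ (mem_qb (D.cent1 p hpQ)).mpr hpQ), ← cq_conj hm1 (D.cent1 p hpQ), hp]
        congr 2
        group
      rw [e, ← hg, (sp_lin g).herm] at h0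
      exact h0
    have := (hcomm1 p hpQ hp0).map (MulAut.conj m).toMonoidHom
    simpa [ht, hp, mul_assoc] using this
  obtain ⟨j, hj⟩ : ∃ j, j = t * y := ⟨_, rfl⟩
  have hjQ : j ∈ D.Q := by
    have hj1 : Commute j z1 := hj ▸ ht1.mul_left hy21
    refine (mem_qb hj1).mp (hS ▸ (S.π_iff _ (cq_commute_of hj1 D.z_comm (hj ▸ htz.mul_left hy2z))).mp ?_)
    rw [hj, cq_mul ht1 hy21, S.π_mul _ _ htc hyc, htf, ← hf, hf2]
  have hj' : cq D j ∈ S.Q := hS ▸ (mem_qb (D.cent1 j hjQ)).mpr hjQ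
  obtain ⟨a, ha⟩ : ∃ a : F4, S.ν (cq D j) = a • u := by
    have hB : ∀ x, herm u x = 0 → B (S.ν (cq D j)) x = 0 := by
      intro x hx
      obtain ⟨qu, hqu, rfl⟩ := S.ν_surj x
      obtain ⟨q, hq, rfl⟩ := qb_exists (hS ▸ hqu)
      refine (S.ν_comm _ hj' _ hqu).mp (cq_commute_of (D.cent1 j hjQ) (D.cent1 q hq) ?_)
      rw [hj]
      exact ((hcommt q hq hx).mul_right (hcomm q hq hx)).symm
    refine herm_perp_perp hu fun x hx => ?_
    have key : ∀ x : F4, (∀ c : F4, c * x + star (c * x) = 0) → x = 0 := by decide +kernel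
    refine key _ fun c => ?_
    rw [← herm_smul_right, ← B_eq]
    exact hB _ (by rw [herm_smul_right, hx, mul_zero])
  obtain ⟨x0, hx0⟩ := exists_herm_val hu a
  obtain ⟨nu, hnu, hnx⟩ := S.ν_surj x0
  obtain ⟨n, hn, rfl⟩ := qb_exists (hS ▸ hnu)
  obtain ⟨k, hk⟩ : ∃ k, k = t * n * t⁻¹ * n⁻¹ := ⟨_, rfl⟩
  have hkQ : k ∈ D.Q := hk ▸ D.Q.mul_mem (D.normal t htz n hn) (D.Q.inv_mem hn)
  have hkν : S.ν (cq D k) = S.ν (cq D j) := by
    have hd : cq D (t * n * t⁻¹) ∈ S.Q :=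
      hS ▸ (mem_qb (D.cent1 _ (D.normal t htz n hn))).mpr (D.normal t htz n hn)
    rw [hk, cq_mul (D.cent1 _ (D.normal t htz n hn)) (D.cent1 n hn).inv_left, cq_inv (D.cent1 n hn),
      S.ν_mul _ hd _ (S.Q.inv_mem hnu), S.ν_inv hnu, cq_conj ht1 (D.cent1 n hn), S.ν_act _ htc _ hnu, hnx, htf, hfu,
      hx0, ha, add_comm x0, add_assoc, CHZ.add_self, add_zero]
  obtain ⟨v, hv⟩ : ∃ v, v = k⁻¹ * j := ⟨_, rfl⟩
  have hvW : v ∈ D.W := hv ▸ (vec_fibre hS hjQ hkQ).mp hkν.symm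
  obtain ⟨d, hd⟩ : ∃ d, d = n * m * c1 := ⟨_, rfl⟩
  have hd1 : Commute d z1 := hd ▸ ((D.cent1 n hn).mul_left hm1).mul_left hc1
  have hyd : y = d * z * d⁻¹ * v := by
    calc y = t * j := by rw [hj, ← mul_assoc, htsq, one_mul]
      _ = t * (k * v) := by rw [hv, mul_inv_cancel_left]
      _ = t * t * n * t⁻¹ * n⁻¹ * v := by rw [hk]; group
      _ = d * z * d⁻¹ * v := by rw [htsq, inv_eq_of_mul_eq_one_right htsq, ht, hd, hy1]; group
  have hsc : ∀ {c x : G}, Commute c x → c * x * c⁻¹ = x := fun h => by rw [h.eq, mul_inv_cancel_right]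
  have hc2' : Commute c2 (z1 * z) := hc2
  have hzz : z * (z1 * z) = z1 := by rw [← mul_assoc, D.z_comm.eq, mul_assoc, D.sqz, mul_one]
  have hyy1 : y * (z1 * z) = c2 * z1 * c2⁻¹ := by
    rw [hy]
    nth_rewrite 1 [← hsc hc2']
    rw [show c2 * z * c2⁻¹ * (c2 * (z1 * z) * c2⁻¹) = c2 * (z * (z1 * z)) * c2⁻¹ by group, hzz]
  have hdd : d * z1 * d⁻¹ = z1 := hsc hd1
  rcases D.mem_W.mp hvW with e | e | e | e <;> rw [e] at hyd
  · -- then it is central
    rw [mul_one] at hyd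
    have hez : Commute (d⁻¹ * c2) z := by
      refine mul_inv_eq_iff_eq_mul.mp ?_
      rw [show d⁻¹ * c2 * z * (d⁻¹ * c2)⁻¹ = d⁻¹ * (c2 * z * c2⁻¹) * d by group, ← hy, hyd]
      group
    have hc21 : Commute c2 z1 := by
      have h := hd1.mul_left (hfix _ hez)
      rwa [mul_inv_cancel_left] at h
    have hc2z : Commute c2 z := by
      have h := hc21.mul_right hc2'
      rwa [← mul_assoc, D.sq1, one_mul] at h
    exact hy2ne (by rw [hy, hsc hc2z])
  · refine hn3 ((isConj_iff.mpr ⟨c2, rfl⟩).trans (isConj_iff.mpr ⟨d, ?_⟩).symm)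
    rw [← hyy1, hyd, mul_assoc (d * z * d⁻¹), hzz]
    nth_rewrite 2 [← hdd]
    group
  · refine hn2 ((isConj_iff.mpr ⟨c2, hy.symm⟩).trans (isConj_iff.mpr ⟨d, ?_⟩).symm)
    rw [hyd]
    nth_rewrite 2 [← hdd]
    group
  · refine hn1 (IsConj.symm ((isConj_iff.mpr ⟨c2, rfl⟩).trans (isConj_iff.mpr ⟨d, ?_⟩).symm))
    rw [← hyy1, hyd, mul_assoc (d * z * d⁻¹), D.symm.sq1, mul_one]

/-- an isolated second involution is central, with the known group above it -/
theorem central_of_isolated (D : DCore z z1) (hfix : ∀ c, Commute c z → Commute c z1) (hns : ¬ Split z z1)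
    (hiso : ∀ g : G, Commute z1 (g * z1 * g⁻¹) → g * z1 * g⁻¹ = z1)
    {K : Type v} [Field K] [Fintype K] (hK : Fintype.card K = 4) :
    (Subgroup.zpowers z1).Normal ∧ ∃ (G₀ : Subgroup G) (_ : z1 ∈ G₀), G₀.index = 2 ∧
      ∃ hn : ((Subgroup.zpowers z1).subgroupOf G₀).Normal,
        Nonempty ((↥G₀ ⧸ (Subgroup.zpowers z1).subgroupOf G₀) ≃* Cfsg.PSU 6 K 2) := by
  classical
  obtain ⟨B0, hidx, ⟨e⟩, hcen⟩ := (main_xcore (qcore D hfix) (cq_z_order D) hK).resolve_right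
    fun h => hns (split_of_sup D hfix h)
  haveI : IsSimpleGroup (Cfsg.PSU 6 K 2) :=
    Cfsg.Agent.S0283.result (q := 2) (by rw [hK]; norm_num) 6 (by norm_num) (by norm_num)
  haveI : Nontrivial ↥B0 := e.toEquiv.nontrivial
  haveI : IsSimpleGroup ↥B0 := IsSimpleGroup.isSimpleGroup_of_surjective e.symm.toMonoidHom e.symm.surjective
  haveI hB0 : B0.Normal := Subgroup.normal_of_index_eq_two hidx
  have heven : Even (Nat.card ↥B0) := by
    have h := (qb D).card_subgroup_dvd_card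
    rw [qb_card, ← B0.card_mul_index, hidx] at h
    obtain ⟨k, hk⟩ := h
    exact ⟨128 * k, by omega⟩
  have hnormal : ∀ N : Subgroup (CQ D), N.Normal → B0 ≤ N ∨ N = ⊥ := by
    intro N hN
    haveI : (N.subgroupOf B0).Normal := hN.subgroupOf B0
    rcases (inferInstance : (N.subgroupOf B0).Normal).eq_bot_or_eq_top with h | h
    · refine Or.inr (le_bot_iff.mp (hcen ▸ fun n hn => Subgroup.mem_centralizer_iff.mpr fun b hb => ?_))
      have hdis : Disjoint B0 N := (Subgroup.subgroupOf_eq_bot.mp h).symm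
      exact (Subgroup.commute_of_normal_of_disjoint B0 N hB0 hN hdis b n hb hn).eq
    · exact Or.inl (Subgroup.subgroupOf_eq_top.mp h)
  obtain ⟨O, hOdef⟩ : ∃ O, O = Cfsg.oddCore G := ⟨_, rfl⟩
  haveI hO : O.Normal := hOdef ▸ Cfsg.pPrimeCore_normal 2 G
  have hOodd : ∀ o ∈ O, Odd (orderOf o) := fun o ho => by
    refine Odd.of_dvd_nat (Char.card_oddCore_odd G) ?_
    rw [hOdef] at ho
    rw [← Subgroup.orderOf_mk _ ho]
    exact orderOf_dvd_natCard _
  -- nothing of odd order is centralised by the first involution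
  have hzfree : ∀ o ∈ O, Commute o z → o = 1 := by
    intro o ho hoz
    refine eq_one_of_odd D.isPGroup_Q (D.self o hoz fun x hx => ?_) (hOodd o ho)
    have h1 : o * x * o⁻¹ * x⁻¹ ∈ O := by
      rw [show o * x * o⁻¹ * x⁻¹ = o * (x * o⁻¹ * x⁻¹) by group]
      exact O.mul_mem ho (hO.conj_mem _ (O.inv_mem ho) x)
    have h2 : o * x * o⁻¹ * x⁻¹ ∈ D.Q := D.Q.mul_mem (D.normal o hoz x hx) (D.Q.inv_mem hx)
    exact mul_inv_eq_iff_eq_mul.mp (mul_inv_eq_one.mp (eq_one_of_odd D.isPGroup_Q h2 (hOodd _ h1)))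
  -- nor by the second
  have h1free : ∀ o ∈ O, Commute o z1 → o = 1 := by
    obtain ⟨Ob, hOb⟩ : ∃ Ob, Ob = (O.subgroupOf (cOne D)).map (QuotientGroup.mk' (cZ D)) := ⟨_, rfl⟩
    have hObn : Ob.Normal := hOb ▸ (hO.subgroupOf _).map _ (QuotientGroup.mk'_surjective _)
    intro o ho ho1
    have hoOb : cq D o ∈ Ob := hOb ▸ ⟨⟨o, (mem_cOne D).mpr ho1⟩, ho, (cq_eq ho1).symm⟩
    rcases hnormal Ob hObn with h | h
    · exfalso
      have h1 : Odd (Nat.card ↥Ob) := by
        refine (Char.card_oddCore_odd G).of_dvd_nat ?_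
        rw [hOb, ← hOdef]
        refine ((O.subgroupOf (cOne D)).card_map_dvd _).trans ?_
        rw [← Subgroup.card_map_of_injective (f := (cOne D).subtype) Subtype.val_injective,
          Subgroup.subgroupOf_map_subtype]
        exact Subgroup.card_dvd_of_le inf_le_left
      exact (Nat.not_even_iff_odd.mpr (h1.of_dvd_nat (Subgroup.card_dvd_of_le h))) heven
    · rw [h, Subgroup.mem_bot, cq_one_iff ho1] at hoOb
      rcases hoOb with e' | e'
      · exact e'
      · exfalso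
        have h2 := hOodd o ho
        rw [e', orderOf_eq_prime (by rw [pow_two, D.sq1]) D.one_ne] at h2
        exact absurd h2 (by decide)
  have hinv : ∀ x : G, x * x = 1 → (∀ o ∈ O, Commute o x → o = 1) → ∀ o ∈ O, x * o * x⁻¹ = o⁻¹ := by
    intro x hx hfree o ho
    have hfp : MonoidHom.FixedPointFree (MulAut.conjNormal (H := O) x) := fun p hp => by
      refine Subtype.ext (hfree p p.2 ?_)
      have := congrArg Subtype.val hp
      rw [MulAut.conjNormal_apply] at this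
      exact (mul_inv_eq_iff_eq_mul.mp this).symm
    have hinv2 : Function.Involutive (MulAut.conjNormal (H := O) x) := fun p => Subtype.ext (by
      rw [MulAut.conjNormal_apply, MulAut.conjNormal_apply,
        show x * (x * (p : G) * x⁻¹) * x⁻¹ = x * x * p * (x * x)⁻¹ by group, hx]
      group)
    have := congrArg Subtype.val (congrFun (hfp.coe_eq_inv_of_involutive hinv2) ⟨o, ho⟩)
    rwa [MulAut.conjNormal_apply] at this
  have hz1inv := hinv z1 D.sq1 h1free
  have hzinv := hinv z D.sqz hzfree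
  -- the elements centralising it
  obtain ⟨Nb, hNb⟩ : ∃ Nb, Nb = ((Subgroup.centralizer (O : Set G)).subgroupOf (cOne D)).map
      (QuotientGroup.mk' (cZ D)) := ⟨_, rfl⟩
  haveI hCn : (Subgroup.centralizer (O : Set G)).Normal := Subgroup.normal_centralizer
  haveI hNn : Nb.Normal := hNb ▸ (hCn.subgroupOf _).map _ (QuotientGroup.mk'_surjective _)
  have hzz : z1 * z ∈ Subgroup.centralizer (O : Set G) := by
    rw [Subgroup.mem_centralizer_iff]
    intro o ho
    refine (mul_inv_eq_iff_eq_mul.mp ?_).symm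
    rw [show z1 * z * o * (z1 * z)⁻¹ = z1 * (z * o * z⁻¹) * z1⁻¹ by group, hzinv o ho,
      hz1inv _ (O.inv_mem ho), inv_inv]
  have hzN : cq D z ∈ Nb := by
    refine hNb ▸ ⟨⟨z1 * z, (mem_cOne D).mpr ((Commute.refl z1).mul_left D.z_comm)⟩, hzz, ?_⟩
    rw [cq_coe]
    refine (cq_iff ((Commute.refl z1).mul_left D.z_comm) D.z_comm).mpr (Or.inr ?_)
    rw [← D.z_comm.eq, mul_assoc, D.sq1, mul_one]
  have hB0N : B0 ≤ Nb := (hnormal Nb hNn).resolve_right fun h => by
    rw [h, Subgroup.mem_bot] at hzN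
    exact ((cq_one_iff D.z_comm).mp hzN).elim D.ne_one fun e => D.ne_z e.symm
  -- commutators of the subgroup centralise it
  have hzC : z ∈ Subgroup.centralizer (O : Set G) := by
    obtain ⟨x, hx, y, hy, exy⟩ := exists_noncomm D
    have hx1 := D.cent1 x hx
    have hy1 := D.cent1 y hy
    obtain ⟨C, hC⟩ : ∃ C : Subgroup ↥(cOne D), C = (Subgroup.centralizer (O : Set G)).subgroupOf (cOne D) := ⟨_, rfl⟩
    haveI : C.Normal := hC ▸ hCn.subgroupOf _
    -- every element is the product of a member of the kernel or of its translate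
    have hsplit : ∀ p : ↥(cOne D), QuotientGroup.mk' (cZ D) p ∈ Nb → p ∈ C ∨ p * ⟨z1, (mem_cOne D).mpr (Commute.refl z1)⟩ ∈ C := by
      intro p hp
      obtain ⟨r, hr, er⟩ := hNb ▸ hp
      rw [cq_coe, cq_coe] at er
      rcases (cq_iff ((mem_cOne D).mp r.2) ((mem_cOne D).mp p.2)).mp er with e' | e'
      · exact Or.inl (by rw [hC, Subtype.ext e']; exact hr)
      · refine Or.inr ?_
        rw [hC, show p * ⟨z1, (mem_cOne D).mpr (Commute.refl z1)⟩ = r from Subtype.ext (by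
          show (p : G) * z1 = r
          rw [e', mul_assoc, D.sq1, mul_one])]
        exact hr
    -- modulo the kernel the second involution is central and the rest is small
    have hcomm : ∀ a b : ↥(cOne D) ⧸ C, a * b = b * a := by
      have hc : ∀ p : ↥(cOne D), Commute (QuotientGroup.mk' C p)
          (QuotientGroup.mk' C ⟨z1, (mem_cOne D).mpr (Commute.refl z1)⟩) := fun p =>
        (show Commute p ⟨z1, (mem_cOne D).mpr (Commute.refl z1)⟩ from Subtype.ext ((mem_cOne D).mp p.2).eq).map _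
      intro a b
      obtain ⟨p, rfl⟩ := QuotientGroup.mk'_surjective C a
      obtain ⟨q, rfl⟩ := QuotientGroup.mk'_surjective C b
      have h2 : ∀ p : ↥(cOne D), QuotientGroup.mk' (cZ D) p ∈ Nb → ∀ q, Commute (QuotientGroup.mk' C p)
          (QuotientGroup.mk' C q) := fun p hp q => by
        rcases hsplit p hp with h | h
        · have e' : QuotientGroup.mk' C p = 1 := (QuotientGroup.eq_one_iff p).mpr h
          rw [e']
          exact Commute.one_left _
        · have e' : QuotientGroup.mk' C (p * ⟨z1, (mem_cOne D).mpr (Commute.refl z1)⟩) = 1 :=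
            (QuotientGroup.eq_one_iff _).mpr h
          rw [map_mul] at e'
          rw [eq_inv_of_mul_eq_one_left e']
          exact (hc q).symm.inv_left
      by_cases hp : QuotientGroup.mk' (cZ D) p ∈ Nb
      · exact (h2 p hp q).eq
      by_cases hq : QuotientGroup.mk' (cZ D) q ∈ Nb
      · exact (h2 q hq p).eq.symm
      have hi2 : Nb.index = 2 := by
        rcases (Nat.dvd_prime Nat.prime_two).mp (hidx ▸ Subgroup.index_dvd_of_le hB0N) with h | h
        · exact absurd (Subgroup.index_eq_one.mp h ▸ Subgroup.mem_top _) hp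
        · exact h
      have hpq : QuotientGroup.mk' (cZ D) (p⁻¹ * q) ∈ Nb := by
        rw [map_mul, map_inv, Subgroup.mul_mem_iff_of_index_two hi2, inv_mem_iff]
        exact iff_of_false hp hq
      have := ((h2 _ hpq p).symm.mul_right (Commute.refl (QuotientGroup.mk' C p)))
      have e' : q = p * (p⁻¹ * q) := by group
      rw [e', map_mul (QuotientGroup.mk' C) p]
      exact ((Commute.refl (QuotientGroup.mk' C p)).mul_right (h2 _ hpq p).symm).eq
    have h1 : QuotientGroup.mk' C (⟨x, (mem_cOne D).mpr hx1⟩ * ⟨y, (mem_cOne D).mpr hy1⟩ *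
        (⟨x, (mem_cOne D).mpr hx1⟩ : ↥(cOne D))⁻¹ * (⟨y, (mem_cOne D).mpr hy1⟩ : ↥(cOne D))⁻¹) = 1 := by
      rw [map_mul, map_mul, map_mul, map_inv, map_inv, hcomm (QuotientGroup.mk' C _) (QuotientGroup.mk' C _),
        mul_inv_cancel_right, mul_inv_cancel]
    have h2 := (QuotientGroup.eq_one_iff (N := C) _).mp h1
    rw [hC] at h2
    exact exy ▸ h2
  have hObot : O = ⊥ := (Subgroup.eq_bot_iff_forall _).mpr fun o ho =>
    hzfree o ho (Subgroup.mem_centralizer_iff.mp hzC o ho)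
  have hall : ∀ g : G, Commute g z1 := by
    have h := sup_eq_top_of_isolated (orderOf_eq_prime (by rw [pow_two, D.sq1]) D.one_ne) hiso
    rw [← hOdef, hObot, sup_bot_eq] at h
    exact fun g => Subgroup.mem_centralizer_singleton_iff.mp (by rw [h]; exact Subgroup.mem_top g)
  have hnorm : (Subgroup.zpowers z1).Normal := ⟨fun x hx g => by
    obtain ⟨i, rfl⟩ := Subgroup.mem_zpowers_iff.mp hx
    rw [((hall g).zpow_right i).eq, mul_inv_cancel_right]
    exact Subgroup.zpow_mem_zpowers z1 i⟩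
  let φ : G →* CQ D := MonoidHom.mk' (cq D) fun a b => cq_mul (hall a) (hall b)
  have hφ : Function.Surjective φ := fun u => by
    obtain ⟨x, -, hx⟩ := cq_surj u
    exact ⟨x, hx⟩
  have hz1G : z1 ∈ B0.comap φ := by
    show cq D z1 ∈ B0
    rw [(cq_one_iff (Commute.refl z1)).mpr (Or.inr rfl)]
    exact B0.one_mem
  have hker : ((Subgroup.zpowers z1).subgroupOf (B0.comap φ)) = (φ.subgroupComap B0).ker := by
    ext x
    rw [Subgroup.mem_subgroupOf, D.mem_zp1, MonoidHom.mem_ker, Subtype.ext_iff]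
    exact (cq_one_iff (hall _)).symm
  refine ⟨hnorm, B0.comap φ, hz1G, by rw [B0.index_comap_of_surjective hφ, hidx], hnorm.subgroupOf _, ?_⟩
  haveI := hnorm.subgroupOf (B0.comap φ)
  exact ⟨((QuotientGroup.quotientMulEquivOfEq hker).trans (QuotientGroup.quotientKerEquivOfSurjective
    (φ.subgroupComap B0) (MonoidHom.subgroupComap_surjective_of_surjective φ B0 hφ))).trans e⟩

end Cfsg.Agent.Spor.FiTwo
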