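import Cfsg.Agent.Lib.Spor.FiTwo.CentOne

/-!
The split type of the module on the quotient of the linear part gives a split pair.
-/

set_option autoImplicit false
set_option linter.unusedSectionVars false

namespace Cfsg.Agent.Spor.FiTwo

open Cfsg.Agent.Spor.CHZ Cfsg.Agent.Spor.SpFour Cfsg.Agent.Small.Unitary

universe w w'

/-- the type passes along an additive bijection commuting with the action -/
theorem caseB_transport {M : Type w} [AddCommGroup M] [Module (ZMod 2) M] {M' : Type w'} [AddCommGroup M']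
    [Module (ZMod 2) M'] (R : CHZ.Rep M) (R' : CHZ.Rep M') (φ : M ≃+ M') (h : ∀ g x, φ (R.ρ g x) = R'.ρ g (φ x))
    (hB : R.CaseB) : R'.CaseB := by
  have hsmul : ∀ (c : ZMod 2) x, φ (c • x) = c • φ x := fun c x => by
    rcases (show ∀ c : ZMod 2, c = 0 ∨ c = 1 by decide) c with rfl | rfl
    · rw [zero_smul, zero_smul, map_zero]
    · rw [one_smul, one_smul]
  have hS : ∀ f x, φ (R.S f x) = R'.S f (φ x) := fun f x => by
    simp only [CHZ.Rep.S, map_sum, hsmul, h]
  have hp : ∀ k, (R'.piece k).ncard = (R.piece k).ncard := fun k => by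
    rw [show R'.piece k = φ '' R.piece k from ?_, Set.ncard_image_of_injective _ φ.injective]
    ext y
    obtain ⟨x, rfl⟩ := φ.surjective y
    rw [φ.injective.mem_set_image, CHZ.Rep.mem_piece, CHZ.Rep.mem_piece, ← hS, φ.injective.eq_iff]
  exact ⟨fun k hk => (hp k).trans (hB.1 k hk), fun k h1 h2 => (hp k).trans (hB.2 k h1 h2)⟩

/-- the type passes along a monomorphism matching the involutions, subgroups and actions -/
theorem caseB_of_hom {A : Type w} [Group A] [Finite A] {B : Type w'} [Group B] [Finite B] {a : A} {b : B}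
    (K : Core a) (K' : Core b) (f : A →* B) (hf : Function.Injective f) (hab : f a = b)
    (hQ : ∀ x ∈ K.Q, f x ∈ K'.Q) (himg : ∀ c, Commute c a → K'.img (f c) = K.img c) (hB : K.toRep.CaseB) :
    K'.toRep.CaseB := by
  have hv : ∀ {x y}, x ∈ K.Q → y ∈ K.Q → (K'.vec (f x) = K'.vec (f y) ↔ K.vec x = K.vec y) := fun hx hy => by
    rw [K'.vec_iff (hQ _ hx) (hQ _ hy), K.vec_iff hx hy, ← hab, ← map_mul, hf.eq_iff, hf.eq_iff]
  let F : K.Sp →+ K'.Sp := AddMonoidHom.mk' (fun v => K'.vec (f (K.rep v))) fun u v => by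
    have e := K.vec_mul (K.rep_mem u) (K.rep_mem v)
    rw [K.vec_rep, K.vec_rep] at e
    rw [(hv (K.rep_mem (u + v)) (K.Q.mul_mem (K.rep_mem u) (K.rep_mem v))).mpr ((K.vec_rep _).trans e.symm), map_mul,
      K'.vec_mul (hQ _ (K.rep_mem u)) (hQ _ (K.rep_mem v))]
  have hinj : Function.Injective F := fun u v e => by
    rw [← K.vec_rep u, ← K.vec_rep v]
    exact (hv (K.rep_mem u) (K.rep_mem v)).mp e
  haveI : Finite K'.Sp := Nat.finite_of_card_ne_zero (by rw [K'.card_Sp]; norm_num)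
  have hbij : Function.Bijective F :=
    (Nat.bijective_iff_injective_and_card _).mpr ⟨hinj, by rw [K.card_Sp, K'.card_Sp]⟩
  refine caseB_transport K.toRep K'.toRep (AddEquiv.ofBijective F hbij) (fun g v => ?_) hB
  obtain ⟨c, hc, rfl⟩ := K.img_surj g
  obtain ⟨x, hx, rfl⟩ := K.vec_surj v
  have hFv : ∀ {y}, y ∈ K.Q → F (K.vec y) = K'.vec (f y) := fun hy => (hv (K.rep_mem _) hy).mpr (K.vec_rep _)
  show F (K.toRep.ρ (K.img c) (K.vec x)) = K'.toRep.ρ (K.img c) (F (K.vec x))
  rw [K.act_vec hc hx, hFv (K.normal c hc x hx), hFv hx, ← himg c hc, K'.act_vec (hab ▸ hc.map f) (hQ x hx), map_mul,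
    map_mul, map_inv]

variable {G : Type w} [Group G] [Finite G] {z z1 : G}

/-- the split type gives a split pair -/
theorem split_of_caseB (D : DCore z z1) (hfix : ∀ c, Commute c z → Commute c z1) (hB : D.core.toRep.CaseB) :
    Split z z1 := by
  obtain ⟨X, hX⟩ : ∃ X, X = qcore D hfix := ⟨_, rfl⟩
  have hXQ : X.Q = qb D := by rw [hX]; rfl
  have hn : ¬ IsConj z (z * z1) := (fusion_fix D hfix).2.1
  have hXimg : ∀ {c : G}, Commute c z → X.img (cq D c) = D.img c := fun {c} hc => by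
    rw [X.img_eq ((cq_comm_z hn (hfix c hc)).mpr hc), ← qimgFun_cq (hfix c hc) hc]
    subst hX
    rfl
  have hXlin : ∀ c : ↥D.lin, cq D (c : G) ∈ X.lin := fun c =>
    ⟨(cq_comm_z hn (D.lin_fix c.2)).mpr c.2.1, by rw [hXimg c.2.1]; exact c.2.2⟩
  let f0 : ↥D.lin →* ↥X.lin := MonoidHom.mk' (fun c => ⟨cq D (c : G), hXlin c⟩) fun a b =>
    Subtype.ext (cq_mul (D.lin_fix a.2) (D.lin_fix b.2))
  let f : D.LQ →* ↥X.lin := QuotientGroup.lift D.Z1 f0 fun c hc => Subtype.ext ((cq_one_iff (D.lin_fix c.2)).mpr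
    (D.mem_zp1.mp hc))
  have hf : ∀ x : ↥D.lin, ((f (D.cls x) : ↥X.lin) : CQ D) = cq D (x : G) := fun x => rfl
  have hfinj : Function.Injective f := by
    intro u v e
    obtain ⟨x, rfl⟩ := QuotientGroup.mk'_surjective D.Z1 u
    obtain ⟨y, rfl⟩ := QuotientGroup.mk'_surjective D.Z1 v
    exact D.cls_eq.mpr ((cq_iff (D.lin_fix x.2) (D.lin_fix y.2)).mp (congrArg Subtype.val e))
  have hX0 : X.R.CaseB := by
    refine caseB_of_hom D.core X.core f hfinj (Subtype.ext rfl) (fun u hu => ?_) (fun u hu => ι_inj ?_) hB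
    · obtain ⟨x, hx, rfl⟩ := hu
      show cq D (x : G) ∈ X.Q
      rw [hXQ, mem_qb (D.lin_fix x.2)]
      exact hx
    · obtain ⟨x, rfl⟩ := QuotientGroup.mk'_surjective D.Z1 u
      rw [X.core_img, D.core.img_eq hu]
      refine Eq.trans ?_ (D.ι_qimg x).symm
      exact hXimg x.2.1
  refine split_of_sup D hfix (sup_eq_top_of_isolated (cq_z_order D) fun g hc => ?_)
  by_contra hne
  refine XCore.no_commuting_conjugate (z₀ := cq D z) (fun x hx => ?_) (IsConj.refl _)
    (isConj_iff.mpr ⟨g, rfl⟩) hc.symm hne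
  obtain ⟨a, rfl⟩ := isConj_iff.mp hx
  refine ⟨X.conj a, ?_⟩
  have himgc : ∀ {c}, Commute c (cq D z) → (X.conj a).img (MulAut.conj a c) = X.img c := fun {c} hc => by
    have hc' : Commute (MulAut.conj a c) (a * cq D z * a⁻¹) := hc.map (MulAut.conj a).toMonoidHom
    rw [(X.conj a).img_eq hc', X.img_eq hc]
    exact congrArg X.ψ (Subtype.ext (by show a⁻¹ * (a * c * a⁻¹) * a = c; group))
  let h : ↥X.lin →* ↥(X.conj a).lin := MonoidHom.mk' (fun c => ⟨MulAut.conj a (c : CQ D),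
    c.2.1.map (MulAut.conj a).toMonoidHom, by rw [himgc c.2.1]; exact c.2.2⟩) fun p q => Subtype.ext (map_mul _ _ _)
  refine caseB_of_hom X.core (X.conj a).core h (fun p q e => Subtype.ext ((MulAut.conj a).injective
    (congrArg Subtype.val e))) (Subtype.ext rfl) (fun x hx => ⟨_, hx, rfl⟩) (fun c hc => ι_inj ?_) hX0
  rw [XCore.core_img, XCore.core_img]
  exact himgc c.2.1

end Cfsg.Agent.Spor.FiTwo
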