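import Cfsg.Agent.Lib.Spor.CHZ.DCore
import Mathlib.GroupTheory.Sylow
import Mathlib.GroupTheory.Nilpotent

/-!
Fusion of the three central involutions of an involution centraliser whose two-core is a group of order two
times an extraspecial group of order 2^9.
-/

set_option autoImplicit false
set_option linter.unusedSectionVars false

namespace Cfsg.Agent.Spor.FiTwo

open Cfsg.Agent.Spor.CHZ

universe w

section general

variable {G : Type w} [Group G]

/-- a largest two-subgroup of a subgroup -/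
def MaxTwo (T K : Subgroup G) : Prop :=
  IsPGroup 2 T ∧ T ≤ K ∧ ∀ P : Subgroup G, IsPGroup 2 P → T ≤ P → P ≤ K → P = T

variable [Finite G]

theorem exists_maxTwo {P K : Subgroup G} (hP : IsPGroup 2 P) (hPK : P ≤ K) : ∃ T, MaxTwo T K ∧ P ≤ T := by
  obtain ⟨T, ⟨hT, hPT, hTK⟩, hmax⟩ := (Set.toFinite {R : Subgroup G | IsPGroup 2 R ∧ P ≤ R ∧ R ≤ K}).exists_maximal
    ⟨P, hP, le_rfl, hPK⟩
  exact ⟨T, ⟨hT, hTK, fun R hR hTR hRK => le_antisymm (hmax ⟨hR, hPT.trans hTR, hRK⟩ hTR) hTR⟩, hPT⟩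

/-- it stays largest in a subgroup where nothing more normalises it -/
theorem MaxTwo.grow {T K L : Subgroup G} (hT : MaxTwo T K) (hKL : K ≤ L)
    (hN : ∀ g ∈ L, (∀ x, x ∈ T ↔ g * x * g⁻¹ ∈ T) → g ∈ K) : MaxTwo T L := by
  haveI : Fact (Nat.Prime 2) := ⟨Nat.prime_two⟩
  refine ⟨hT.1, hT.2.1.trans hKL, fun P hP hTP hPL => ?_⟩
  by_contra hne
  haveI : Group.IsNilpotent ↥P := hP.isNilpotent
  have hlt : T.subgroupOf P < ⊤ := lt_top_iff_ne_top.mpr fun e =>
    hne (le_antisymm (Subgroup.subgroupOf_eq_top.mp e) hTP)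
  obtain ⟨x, hxN, hxT⟩ := SetLike.exists_of_lt (normalizerCondition_of_isNilpotent _ hlt)
  have hx : ∀ t, t ∈ T ↔ (x : G) * t * (x : G)⁻¹ ∈ T := by
    intro t
    by_cases ht : t ∈ P
    · simpa [Subgroup.mem_subgroupOf] using (Subgroup.mem_normalizer_iff.mp hxN) ⟨t, ht⟩
    · refine iff_of_false (fun h => ht (hTP h)) fun h => ht ?_
      simpa [mul_assoc] using P.mul_mem (P.mul_mem (P.inv_mem x.2) (hTP h)) x.2
  have hxK : (x : G) ∈ K := hN _ (hPL x.2) hx
  have hle : T ⊔ Subgroup.zpowers (x : G) ≤ P := sup_le hTP (Subgroup.zpowers_le.mpr x.2)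
  have h := hT.2.2 _ (hP.to_le hle) le_sup_left (sup_le hT.2.1 (Subgroup.zpowers_le.mpr hxK))
  exact hxT (h ▸ Subgroup.mem_sup_right (Subgroup.mem_zpowers (x : G)) : (x : G) ∈ T)

/-- two-subgroups move into it -/
theorem MaxTwo.conj_le {T K R : Subgroup G} (hT : MaxTwo T K) (hR : IsPGroup 2 R) (hRK : R ≤ K) :
    ∃ b ∈ K, ∀ r ∈ R, b * r * b⁻¹ ∈ T := by
  haveI : Fact (Nat.Prime 2) := ⟨Nat.prime_two⟩
  obtain ⟨S, hS⟩ := (hT.1.comap_of_injective K.subtype Subtype.val_injective).exists_le_sylow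
  obtain ⟨S', hS'⟩ := (hR.comap_of_injective K.subtype Subtype.val_injective).exists_le_sylow
  have hST : (S : Subgroup ↥K).map K.subtype = T := by
    refine hT.2.2 _ (S.2.map _) ?_ (Subgroup.map_subtype_le _)
    intro x hx
    exact ⟨⟨x, hT.2.1 hx⟩, hS hx, rfl⟩
  obtain ⟨b, hb⟩ := MulAction.exists_smul_eq ↥K S' S
  refine ⟨(b : G), b.2, fun r hr => hST ▸ ⟨b * ⟨r, hRK hr⟩ * b⁻¹, ?_, rfl⟩⟩
  rw [← hb, Sylow.coe_subgroup_smul]
  exact ⟨⟨r, hRK hr⟩, hS' hr, rfl⟩

end general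

variable {G : Type w} [Group G] [Finite G] {z z1 : G} (D : DCore z z1)
include D

theorem exists_noncomm : ∃ x ∈ D.Q, ∃ y ∈ D.Q, x * y * x⁻¹ * y⁻¹ = z := by
  by_contra h
  push Not at h
  have hall : D.Q ≤ D.W := fun x hx => D.mem_W_iff.mpr ⟨hx, fun y hy =>
    mul_inv_eq_iff_eq_mul.mp (mul_inv_eq_one.mp ((D.comm x hx y hy).resolve_right (h x hx y hy)))⟩
  have := Subgroup.card_le_of_le hall
  rw [D.card, D.card_W] at this
  omega

/-- normalising a subgroup between the linear part and the centraliser fixes the first involution -/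
theorem comm_of_normalises {K : Subgroup G} (hK : ∀ x ∈ K, Commute x z) (hlin : D.lin ≤ K) {g : G}
    (hg : ∀ x, x ∈ K ↔ g * x * g⁻¹ ∈ K) : Commute g z := by
  have hP : D.Q.map (MulAut.conj g).toMonoidHom ≤ D.Q := by
    refine D.two_le (D.isPGroup_Q.map _) ?_ ?_
    · rintro _ ⟨x, hx, rfl⟩
      exact hK _ ((hg x).mp (hlin (D.Q_le hx)))
    · rintro c hc _ ⟨x, hx, rfl⟩
      have hc' : g⁻¹ * c * g ∈ K := (hg _).mpr (by simpa [mul_assoc] using hlin hc)
      refine ⟨g⁻¹ * c * g * x * (g⁻¹ * c * g)⁻¹, D.normal _ (hK _ hc') x hx, ?_⟩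
      simp only [MulEquiv.coe_toMonoidHom, MulAut.conj_apply]
      group
  obtain ⟨x, hx, y, hy, e⟩ := exists_noncomm D
  have hgz : g * x * g⁻¹ * (g * y * g⁻¹) * (g * x * g⁻¹)⁻¹ * (g * y * g⁻¹)⁻¹ = g * z * g⁻¹ := by
    rw [← e]; group
  rcases D.comm _ (hP ⟨x, hx, rfl⟩) _ (hP ⟨y, hy, rfl⟩) with h | h <;>
    simp only [MulEquiv.coe_toMonoidHom, MulAut.conj_apply] at h <;> rw [h] at hgz
  · exact absurd (conj_eq_one_iff.mp hgz.symm) D.ne_one
  · exact mul_inv_eq_iff_eq_mul.mp hgz.symm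

/-- central elements of a two-subgroup above the subgroup lie in the centre -/
theorem central_mem {T : Subgroup G} (hQT : D.Q ≤ T) {x : G} (hc : ∀ y ∈ T, Commute x y) :
    x ∈ D.W :=
  have hxQ : x ∈ D.Q := D.self x (hc z (hQT D.zQ)) fun y hy => hc y (hQT hy)
  D.mem_W_iff.mpr ⟨hxQ, fun y hy => hc y (hQT hy)⟩

/-- normalisers keep central elements -/
theorem central_conj {T : Subgroup G} (hQT : D.Q ≤ T) {g x : G} (hg : ∀ t, t ∈ T ↔ g * t * g⁻¹ ∈ T)
    (hc : ∀ y ∈ T, Commute x y) : g * x * g⁻¹ ∈ D.W ∧ g⁻¹ * x * g ∈ D.W := by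
  refine ⟨central_mem D hQT fun y hy => ?_, central_mem D hQT fun y hy => ?_⟩
  · have := (hc (g⁻¹ * y * g) ((hg _).mpr (by simpa [mul_assoc] using hy))).map (MulAut.conj g).toMonoidHom
    simpa [mul_assoc] using this
  · have := (hc (g * y * g⁻¹) ((hg y).mp hy)).map (MulAut.conj g⁻¹).toMonoidHom
    simpa [mul_assoc] using this

/-- what centralises both involutions centralises the centre -/
theorem comm_W {c w : G} (h : Commute c z) (h1 : Commute c z1) (hw : w ∈ D.W) : Commute c w := by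
  rcases D.mem_W.mp hw with rfl | rfl | rfl | rfl
  exacts [Commute.one_right c, h, h1, h1.mul_right h]

/-- then a Sylow subgroup lies in the centraliser, with the centre in its middle and normaliser in the centraliser -/
theorem sylow_fix (hfix : ∀ c, Commute c z → Commute c z1) :
    ∃ T : Sylow 2 G, (T : Subgroup G) ≤ Subgroup.centralizer {z} ∧
      (∀ {w}, w ∈ D.W → ∀ t ∈ (T : Subgroup G), Commute w t) ∧
      ∀ g, (∀ t, t ∈ (T : Subgroup G) ↔ g * t * g⁻¹ ∈ (T : Subgroup G)) → Commute g z := by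
  haveI : Fact (Nat.Prime 2) := ⟨Nat.prime_two⟩
  obtain ⟨T, hT, hQT⟩ := exists_maxTwo D.isPGroup_Q
    (K := Subgroup.centralizer ({z} : Set G)) fun x hx => Subgroup.mem_centralizer_singleton_iff.mpr (D.cent x hx).eq
  have hTz : ∀ t ∈ T, Commute t z := fun t ht => Subgroup.mem_centralizer_singleton_iff.mp (hT.2.1 ht)
  have hWT : ∀ {w}, w ∈ D.W → ∀ t ∈ T, Commute w t := fun hw t ht =>
    (comm_W D (hTz t ht) (hfix t (hTz t ht)) hw).symm
  have hzW : z ∈ D.W := D.mem_W.mpr (Or.inr (Or.inl rfl))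
  have hN : ∀ g, (∀ t, t ∈ T ↔ g * t * g⁻¹ ∈ T) → Commute g z := by
    intro g hg
    refine comm_of_normalises D (K := Subgroup.centralizer ({z} : Set G))
      (fun x hx => Subgroup.mem_centralizer_singleton_iff.mp hx)
      (fun x hx => Subgroup.mem_centralizer_singleton_iff.mpr hx.1.eq) fun x => ?_
    simp only [Subgroup.mem_centralizer_singleton_iff]
    have hgz := central_conj D hQT hg (hWT hzW)
    constructor
    · intro hx
      have := (comm_W D hx (hfix x hx) hgz.2).map (MulAut.conj g).toMonoidHom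
      exact (by simpa [mul_assoc] using this : Commute (g * x * g⁻¹) z).eq
    · intro hx
      have := (comm_W D hx (hfix _ hx) hgz.1).map (MulAut.conj g⁻¹).toMonoidHom
      exact (by simpa [mul_assoc] using this : Commute x z).eq
  have hTop := hT.grow le_top fun g _ hg => Subgroup.mem_centralizer_singleton_iff.mpr (hN g hg).eq
  exact ⟨⟨T, hT.1, fun {R} hR hle => hTop.2.2 R hR hle le_top⟩, hT.2.1, hWT, hN⟩

/-- a Sylow subgroup inside the centraliser -/
theorem exists_sylow_centralizer (hfix : ∀ c, Commute c z → Commute c z1) :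
    ∃ T : Sylow 2 G, (T : Subgroup G) ≤ Subgroup.centralizer {z} :=
  let ⟨T, h, _⟩ := sylow_fix D hfix
  ⟨T, h⟩

/-- when the centraliser fixes the second involution the three central involutions are not fused -/
theorem fusion_fix (hfix : ∀ c, Commute c z → Commute c z1) :
    ¬ IsConj z z1 ∧ ¬ IsConj z (z * z1) ∧ ¬ IsConj z1 (z * z1) := by
  haveI : Fact (Nat.Prime 2) := ⟨Nat.prime_two⟩
  obtain ⟨P, -, hWT, hN⟩ := sylow_fix D hfix
  have hzW : z ∈ D.W := D.mem_W.mpr (Or.inr (Or.inl rfl))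
  have h1W : z1 ∈ D.W := D.mem_W.mpr (Or.inr (Or.inr (Or.inl rfl)))
  have hzz1W : z * z1 ∈ D.W := D.W.mul_mem hzW h1W
  have key : ∀ {x y}, x ∈ D.W → y ∈ D.W → IsConj x y → x = y := by
    intro x y hx hy hxy
    obtain ⟨g, rfl⟩ := isConj_iff.mp hxy
    obtain ⟨n, hn, he⟩ := P.conj_eq_normalizer_conj_of_mem_centralizer x g⁻¹
      (Subgroup.mem_centralizer_iff.mpr fun t ht => (hWT hx t ht).eq.symm)
      (Subgroup.mem_centralizer_iff.mpr fun t ht => by rw [inv_inv]; exact (hWT hy t ht).eq.symm)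
    rw [inv_inv] at he
    have hnz : Commute n z := hN n fun t => Subgroup.mem_normalizer_iff.mp hn t
    rw [he, mul_assoc, ← (comm_W D hnz (hfix n hnz) hx).eq, inv_mul_cancel_left]
  exact ⟨fun h => D.ne_z (key hzW h1W h).symm, fun h => D.one_ne (mul_eq_left.mp (key hzW hzz1W h).symm),
    fun h => D.ne_one (mul_eq_right.mp (key h1W hzz1W h).symm)⟩

/-- when the centraliser swaps the other two central involutions they are not fused with the first -/
theorem fusion_swap {h : G} (hh : Commute h z) (hs : h * z1 * h⁻¹ = z1 * z) : ¬ IsConj z z1 := by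
  haveI : Fact (Nat.Prime 2) := ⟨Nat.prime_two⟩
  intro hconj
  -- a swapping element of two-power order
  obtain ⟨k, m, hm, hord⟩ : ∃ k m, Odd m ∧ orderOf h = 2 ^ k * m :=
    Nat.exists_eq_two_pow_mul_odd (orderOf_pos h).ne'
  obtain ⟨s, hsdef⟩ : ∃ s, s = h ^ m := ⟨_, rfl⟩
  have hsz : Commute s z := hsdef ▸ hh.pow_left m
  have hs1 : s * z1 * s⁻¹ = z1 * z := by
    obtain ⟨j, rfl⟩ := hm
    have h2 : Commute (h * h) z1 := by
      refine mul_inv_eq_iff_eq_mul.mp ?_
      rw [show h * h * z1 * (h * h)⁻¹ = h * (h * z1 * h⁻¹) * h⁻¹ by group, hs,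
        show h * (z1 * z) * h⁻¹ = h * z1 * h⁻¹ * (h * z * h⁻¹) by group, hs, hh.eq, mul_inv_cancel_right,
        mul_assoc, D.sqz, mul_one]
    rw [hsdef, pow_succ', pow_mul, pow_two, show h * (h * h) ^ j * z1 * (h * (h * h) ^ j)⁻¹ =
      h * ((h * h) ^ j * z1 * ((h * h) ^ j)⁻¹) * h⁻¹ by group, (h2.pow_left j).eq, mul_inv_cancel_right, hs]
  have hs2 : IsPGroup 2 (Subgroup.zpowers s) := by
    refine IsPGroup.of_card (n := k) ?_
    have hm0 : m ≠ 0 := fun e => by simp [e] at hm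
    rw [Nat.card_zpowers, hsdef, orderOf_pow_of_dvd hm0 ⟨2 ^ k, by rw [hord]; ring⟩, hord,
      Nat.mul_div_cancel _ (Nat.pos_of_ne_zero hm0)]
  have hnorm : Subgroup.zpowers s ≤ Subgroup.normalizer (D.Q : Set G) := by
    rw [Subgroup.zpowers_le, Subgroup.mem_normalizer_iff]
    refine fun x => ⟨D.normal s hsz x, fun hx => ?_⟩
    have := D.normal s⁻¹ hsz.inv_left _ hx
    simpa [mul_assoc] using this
  obtain ⟨T, hT, hPT⟩ := exists_maxTwo (hs2.to_sup_of_normal_right' D.isPGroup_Q hnorm)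
    (K := Subgroup.centralizer ({z} : Set G)) (sup_le
      (Subgroup.zpowers_le.mpr (Subgroup.mem_centralizer_singleton_iff.mpr hsz.eq))
      fun x hx => Subgroup.mem_centralizer_singleton_iff.mpr (D.cent x hx).eq)
  have hQT : D.Q ≤ T := le_sup_right.trans hPT
  have hsT : s ∈ T := hPT (Subgroup.mem_sup_left (Subgroup.mem_zpowers s))
  have hTz : ∀ t ∈ T, Commute t z := fun t ht => Subgroup.mem_centralizer_singleton_iff.mp (hT.2.1 ht)
  -- its centre is the first involution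
  have hcen : ∀ {x}, x ≠ 1 → (∀ t ∈ T, Commute x t) → x = z := by
    intro x hx1 hx
    have hxs := (hx s hsT).eq
    rcases D.mem_W.mp (central_mem D hQT hx) with e | e | e | e
    · exact absurd e hx1
    · exact e
    · rw [e] at hxs
      rw [← hxs, mul_inv_cancel_right] at hs1
      exact absurd (mul_eq_left.mp hs1.symm) D.ne_one
    · rw [e] at hxs
      have e2 : s * (z1 * z) * s⁻¹ = z1 := by
        rw [show s * (z1 * z) * s⁻¹ = s * z1 * s⁻¹ * (s * z * s⁻¹) by group, hs1, hsz.eq, mul_inv_cancel_right,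
          mul_assoc, D.sqz, mul_one]
      rw [← hxs, mul_inv_cancel_right] at e2
      exact absurd (mul_eq_left.mp e2) D.ne_one
  have hTop := hT.grow le_top fun g _ hg => by
    have hz : g * z * g⁻¹ = z := hcen (fun e => D.ne_one (conj_eq_one_iff.mp e)) fun t ht => by
      have := ((hTz (g⁻¹ * t * g) ((hg _).mpr (by simpa [mul_assoc] using ht))).symm).map (MulAut.conj g).toMonoidHom
      simpa [mul_assoc] using this
    exact Subgroup.mem_centralizer_singleton_iff.mpr (mul_inv_eq_iff_eq_mul.mp hz)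
  -- the centraliser of both
  obtain ⟨K, hK⟩ : ∃ K, K = Subgroup.centralizer ({z} : Set G) ⊓ Subgroup.centralizer ({z1} : Set G) := ⟨_, rfl⟩
  have hKm : ∀ {x}, x ∈ K ↔ Commute x z ∧ Commute x z1 := fun {x} => by
    rw [hK, Subgroup.mem_inf, Subgroup.mem_centralizer_singleton_iff, Subgroup.mem_centralizer_singleton_iff]
    exact Iff.rfl
  obtain ⟨T0, hT0, hQT0⟩ := exists_maxTwo D.isPGroup_Q (K := K) fun x hx => hKm.mpr ⟨D.cent x hx, D.cent1 x hx⟩
  have hT0z : ∀ t ∈ T0, Commute z t := fun t ht => (hKm.mp (hT0.2.1 ht)).1.symm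
  have hT01 : ∀ t ∈ T0, Commute z1 t := fun t ht => (hKm.mp (hT0.2.1 ht)).2.symm
  have hC1 : MaxTwo T0 (Subgroup.centralizer ({z1} : Set G)) := by
    refine hT0.grow (hK ▸ inf_le_right) fun g hg1 hg => hKm.mpr ?_
    have hg1' : Commute g z1 := Subgroup.mem_centralizer_singleton_iff.mp hg1
    refine ⟨comm_of_normalises D (K := K) (fun x hx => (hKm.mp hx).1)
      (fun x hx => hKm.mpr ⟨hx.1, D.lin_fix hx⟩) fun x => ?_, hg1'⟩
    have hgz := central_conj D hQT0 hg hT0z
    rw [hKm, hKm]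
    constructor
    · intro hx
      refine ⟨?_, (hg1'.mul_left hx.2).mul_left hg1'.inv_left⟩
      have := (comm_W D hx.1 hx.2 hgz.2).map (MulAut.conj g).toMonoidHom
      simpa [mul_assoc] using this
    · intro hx
      refine ⟨?_, ?_⟩
      · have := (comm_W D hx.1 hx.2 hgz.1).map (MulAut.conj g⁻¹).toMonoidHom
        simpa [mul_assoc] using this
      · have := (hg1'.inv_left.mul_left hx.2).mul_left hg1'
        simpa [mul_assoc] using this
  obtain ⟨g, hg⟩ := isConj_iff.mp hconj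
  have hR : T.map (MulAut.conj g).toMonoidHom ≤ Subgroup.centralizer ({z1} : Set G) := by
    rintro _ ⟨t, ht, rfl⟩
    have := (hTz t ht).map (MulAut.conj g).toMonoidHom
    exact Subgroup.mem_centralizer_singleton_iff.mpr
      ((hg ▸ this : Commute ((MulAut.conj g).toMonoidHom t) z1)).eq
  obtain ⟨b, -, hb⟩ := hC1.conj_le (hT.1.map _) hR
  obtain ⟨a, ha⟩ : ∃ a, a = b * g := ⟨_, rfl⟩
  have hTle : T ≤ T0.map (MulAut.conj a⁻¹).toMonoidHom := fun t ht => by
    refine ⟨b * (g * t * g⁻¹) * b⁻¹, hb _ ⟨t, ht, rfl⟩, ?_⟩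
    simp only [MulEquiv.coe_toMonoidHom, MulAut.conj_apply, ha]
    group
  have hEq := hTop.2.2 _ (hT0.1.map _) hTle le_top
  have hz' : ∀ {x}, x ≠ 1 → (∀ t ∈ T0, Commute x t) → a⁻¹ * x * a⁻¹⁻¹ = z := by
    intro x hx1 hx
    refine hcen (fun e => hx1 (conj_eq_one_iff.mp e)) fun t ht => ?_
    obtain ⟨t0, ht0, rfl⟩ := hEq.symm ▸ ht
    exact (hx t0 ht0).map (MulAut.conj a⁻¹).toMonoidHom
  have e := (hz' D.one_ne hT01).trans (hz' D.ne_one hT0z).symm
  exact D.ne_z (mul_left_cancel (mul_right_cancel e))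

end Cfsg.Agent.Spor.FiTwo
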