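import Cfsg.Agent.Lib.Spor.FiTwo.Conj
import Mathlib.GroupTheory.Sylow

/-!
The second involution, split nowhere from the first, is isolated.
-/

set_option autoImplicit false
set_option linter.unusedSectionVars false

namespace Cfsg.Agent.Spor.FiTwo

open Cfsg.Agent.Spor.CHZ Cfsg.Agent.Spor.SpFour Cfsg.Agent.Small.Unitary
open scoped Pointwise

universe w

variable {G : Type w} [Group G] {z z1 : G}

/-- conjugation into a Sylow subgroup within a centraliser -/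
theorem conj_into [Finite G] {a : G} {C : Subgroup G} (T : Sylow 2 G) (hT : (T : Subgroup G) ≤ C)
    (hC : ∀ x ∈ C, Commute x a) {P : Subgroup G} (hP : IsPGroup 2 P) (hPa : ∀ x ∈ P, Commute x a) :
    ∃ c, Commute c a ∧ ∀ x ∈ P, c * x * c⁻¹ ∈ C := by
  obtain ⟨C1, hC1⟩ : ∃ C1, C1 = Subgroup.centralizer ({a} : Set G) := ⟨_, rfl⟩
  have hmem : ∀ {x}, x ∈ C1 ↔ Commute x a := fun {x} => hC1 ▸ Subgroup.mem_centralizer_singleton_iff
  have hTC : (T : Subgroup G) ≤ C1 := fun x hx => hmem.mpr (hC x (hT hx))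
  obtain ⟨S, hS⟩ := (hP.comap_of_injective C1.subtype Subtype.val_injective).exists_le_sylow
  obtain ⟨c, hc⟩ := MulAction.exists_smul_eq C1 (T.subtype hTC) S
  refine ⟨((c⁻¹ : C1) : G), hmem.mp (c⁻¹).2, fun x hx => hT ?_⟩
  have hxS : (⟨x, hmem.mpr (hPa x hx)⟩ : C1) ∈ S := hS hx
  rw [← hc, Sylow.smul_def] at hxS
  have hxS' : (⟨x, hmem.mpr (hPa x hx)⟩ : C1) ∈ MulAut.conj c • (T.subtype hTC : Subgroup C1) := hxS
  rw [Subgroup.mem_pointwise_smul_iff_inv_smul_mem] at hxS'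
  simpa [Subgroup.mem_subgroupOf] using hxS'

/-- a conjugate pair meeting the pair: the second member is inside, the first outside -/
theorem ModelA.member {D : Data z z1 V} (A : ModelA D) {y v : G} (hy : D.In0 y) (hv : D.In0 v) (hy2 : y * y = 1)
    (hv2 : v * v = 1) (hyv : Commute y v) (hsp : Split y (v * y)) (hC : ∀ n, Commute n y → Commute n v)
    (hy0 : ¬ (y ∈ D.Q ∧ D.ν y = 0)) (hv0 : ¬ (v ∈ D.Q ∧ D.ν v = 0))
    (hw0 : ¬ (v * y ∈ D.Q ∧ D.ν (v * y) = 0)) : v ∈ D.Q ∧ y ∉ D.Q ∧ D.ν v ≠ 0 := by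
  have hw2 : v * y * (v * y) = 1 := by
    rw [show v * y * (v * y) = v * (y * v) * y by group, hyv.eq, ← mul_assoc, hv2, one_mul, hy2]
  have hwQ : v * y ∉ D.Q := D.not_mem_of_split hy hy2 hw2 hsp hw0 (by rw [mul_assoc, hy2, mul_one]; exact hv0) hy0
  have hyQ : y ∉ D.Q := fun hyQ => hwQ (D.Q.mul_mem (D.hyper hv hyQ hy2 fun n hn hny =>
    D.fixed_of_comm hv hn (hC n hny).symm) hyQ)
  have hvQ : v ∈ D.Q := by
    by_contra hvQ
    exact A.outside hy hv hy2 hv2 hyv hyQ hvQ hwQ hsp fun n _ => hC n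
  exact ⟨hvQ, hyQ, fun e => hv0 ⟨hvQ, e⟩⟩

/-- no second conjugate pair centralises the pair -/
theorem ModelA.one_pair {D : Data z z1 V} (A : ModelA D) (hfix : ∀ c, Commute c z → Commute c z1)
    (n1 : ¬ IsConj z z1) (n2 : ¬ IsConj z (z * z1)) (n3 : ¬ IsConj z1 (z * z1)) (hs : Split z (z * z1))
    (hno : ∀ c, Commute c z1 → c * z * c⁻¹ ∈ D.Q → c * z * c⁻¹ = z) {g : G} (hy : D.In0 (g * z * g⁻¹))
    (hv : D.In0 (g * z1 * g⁻¹)) : g * z1 * g⁻¹ = z1 := by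
  by_contra hne
  obtain ⟨y, hy_def⟩ : ∃ y, y = g * z * g⁻¹ := ⟨_, rfl⟩
  obtain ⟨v, hv_def⟩ : ∃ v, v = g * z1 * g⁻¹ := ⟨_, rfl⟩
  have hzz : Commute z z1 := D.cent1 z D.zQ
  have hw_def : v * y = g * (z * z1) * g⁻¹ := by rw [hzz.eq, hy_def, hv_def]; group
  rw [← hy_def] at hy
  rw [← hv_def] at hv hne
  have hy2 : y * y = 1 := hy_def ▸ (D.conj g).z2
  have hv2 : v * v = 1 := hv_def ▸ (D.conj g).w2
  have hy1 : y ≠ 1 := hy_def ▸ (D.conj g).zne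
  have hv1 : v ≠ 1 := hv_def ▸ (D.conj g).wne
  have hyv : Commute y v := hy_def ▸ hv_def ▸ hzz.map (MulAut.conj g).toMonoidHom
  have hw1 : v * y ≠ 1 := fun e => by
    have : v = y := (mul_eq_one_iff_eq_inv.mp e).trans (inv_eq_of_mul_eq_one_right hy2)
    exact (D.conj g).hne (hv_def.symm.trans (this.trans hy_def))
  have cy : IsConj z y := isConj_iff.mpr ⟨g, hy_def.symm⟩
  have cv : IsConj z1 v := isConj_iff.mpr ⟨g, hv_def.symm⟩
  have cw : IsConj (z * z1) (v * y) := isConj_iff.mpr ⟨g, hw_def.symm⟩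
  have hC : ∀ n, Commute n y → Commute n v := fun n hn => by
    have := (hfix _ (comm_back (hy_def ▸ hn : Commute n (g * z * g⁻¹)))).map (MulAut.conj g).toMonoidHom
    rw [hv_def]
    simpa [mul_assoc] using this
  have hyz : y ≠ z := fun e => hne (by
    have hg : Commute g z1 := hfix g (mul_inv_eq_iff_eq_mul.mp (hy_def.symm.trans e))
    rw [hv_def, hg.eq, mul_inv_cancel_right])
  have hwz : v * y ≠ z * z1 := fun e => hyz (by
    have hg : Commute g (z * z1) := mul_inv_eq_iff_eq_mul.mp (hw_def.symm.trans e)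
    rw [hy_def]
    exact hs.eq_of_commute D.z2 hg (hy_def ▸ hy.1))
  have hy0 : ¬ (y ∈ D.Q ∧ D.ν y = 0) := fun ⟨hQ, h0⟩ => by
    rcases (D.ν_zero y hQ).mp h0 with e | e | e | e
    exacts [hy1 e, hyz e, n1 (e ▸ cy), n2 (e ▸ cy)]
  have hv0 : ¬ (v ∈ D.Q ∧ D.ν v = 0) := fun ⟨hQ, h0⟩ => by
    rcases (D.ν_zero v hQ).mp h0 with e | e | e | e
    exacts [hv1 e, n1 (e ▸ cv).symm, hne e, n3 (e ▸ cv)]
  have hw0 : ¬ (v * y ∈ D.Q ∧ D.ν (v * y) = 0) := fun ⟨hQ, h0⟩ => by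
    rcases (D.ν_zero (v * y) hQ).mp h0 with e | e | e | e
    exacts [hw1 e, n2 (e ▸ cw).symm, n3 (e ▸ cw).symm, hwz e]
  have hsp : Split y (v * y) := hw_def ▸ hy_def ▸ hs.conj g
  obtain ⟨hvQ, hyQ, hvν⟩ := A.member hy hv hy2 hv2 hyv hsp hC hy0 hv0 hw0
  -- the other frame
  have hzero' : ∀ {x}, x ∈ (D.conj g).Q → (D.conj g).ν x = 0 → x = 1 ∨ x = y ∨ x = v ∨ x = v * y := fun {x} hQ h0 => by
    rcases ((D.conj g).ν_zero x hQ).mp h0 with e | e | e | e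
    · exact Or.inl e
    · exact Or.inr (Or.inl (e.trans hy_def.symm))
    · exact Or.inr (Or.inr (Or.inl (e.trans hv_def.symm)))
    · exact Or.inr (Or.inr (Or.inr (by rw [e, ← hy_def, ← hv_def, hyv.eq])))
  have hnot : ∀ x, x ∈ D.Q → D.ν x = 0 → x ≠ 1 → ¬ (x ∈ (D.conj g).Q ∧ (D.conj g).ν x = 0) := by
    rintro x hx hx0 hx1 ⟨hQ, h0⟩
    rcases hzero' hQ h0 with e | e | e | e
    exacts [hx1 e, hy0 ⟨e ▸ hx, e ▸ hx0⟩, hv0 ⟨e ▸ hx, e ▸ hx0⟩, hw0 ⟨e ▸ hx, e ▸ hx0⟩]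
  have hz1z : z1 * z ≠ 1 := fun e => D.hne ((mul_eq_one_iff_eq_inv.mp e).trans (inv_eq_of_mul_eq_one_right D.z2))
  obtain ⟨h1Q', -, -⟩ := (A.conj g).member (y := z) (v := z1)
    ⟨hy_def ▸ hy.1.symm, hv_def ▸ hv.1.symm⟩ ⟨hy_def ▸ hy.2.symm, hv_def ▸ hv.2.symm⟩ D.z2 D.w2 hzz
    (hzz.eq ▸ hs) hfix (hnot z D.zQ D.ν_z D.zne) (hnot z1 D.z1Q ((D.ν_zero z1 D.z1Q).mpr (Or.inr (Or.inr (Or.inl rfl)))) D.wne)
    (hnot (z1 * z) (D.Q.mul_mem D.z1Q D.zQ) ((D.ν_zero _ (D.Q.mul_mem D.z1Q D.zQ)).mpr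
      (Or.inr (Or.inr (Or.inr hzz.eq.symm)))) hz1z)
  refine A.inside hy hvQ hvν hy2 hv2 hyv hyQ hsp (fun n _ => hC n) fun m hm => ⟨fun e => n2 ?_, fun e => ?_⟩
  · refine cy.trans ((isConj_iff.mpr ⟨m, e⟩).trans cw.symm)
  · have hwQ' : v * y ∈ (D.conj g).Q :=
      (D.conj g).Q.mul_mem (hv_def ▸ (D.conj g).z1Q) (hy_def ▸ (D.conj g).zQ)
    have hc : Commute (g⁻¹ * m * g) z1 := comm_back (hv_def ▸ hm : Commute m (g * z1 * g⁻¹))
    have hmy : m * y * m⁻¹ ∈ (D.conj g).Q := e ▸ (D.conj g).Q.mul_mem hwQ' h1Q'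
    have e' : g⁻¹ * (m * y * m⁻¹) * g = g⁻¹ * m * g * z * (g⁻¹ * m * g)⁻¹ := by rw [hy_def]; group
    have hcz := hno _ hc (by
      rw [← e']
      refine (D.conj_mem (g := g)).mp ?_
      rwa [show g * (g⁻¹ * (m * y * m⁻¹) * g) * g⁻¹ = m * y * m⁻¹ by group])
    have hyy : m * y * m⁻¹ = y := by
      calc m * y * m⁻¹ = g * (g⁻¹ * (m * y * m⁻¹) * g) * g⁻¹ := by group
        _ = y := by rw [e', hcz, hy_def]
    rw [hyy, show v * y * z1 = y * (v * z1) by rw [← hyv.eq, mul_assoc], left_eq_mul] at e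
    exact hne ((mul_eq_one_iff_eq_inv.mp e).trans (inv_eq_of_mul_eq_one_right D.w2))

/-- the second involution is isolated -/
theorem ModelA.one_isolated [Finite G] {D : Data z z1 V} (A : ModelA D) (hfix : ∀ c, Commute c z → Commute c z1)
    (n1 : ¬ IsConj z z1) (n2 : ¬ IsConj z (z * z1)) (n3 : ¬ IsConj z1 (z * z1)) (hs : Split z (z * z1))
    (hno : ∀ c, Commute c z1 → c * z * c⁻¹ ∈ D.Q → c * z * c⁻¹ = z) (T : Sylow 2 G)
    (hT : (T : Subgroup G) ≤ Subgroup.centralizer ({z} : Set G)) {g : G} (hc : Commute z1 (g * z1 * g⁻¹)) :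
    g * z1 * g⁻¹ = z1 := by
  have hT' : ∀ x ∈ Subgroup.centralizer ({z} : Set G), Commute x z1 := fun x hx =>
    hfix x (Subgroup.mem_centralizer_singleton_iff.mp hx)
  have hv2 : g * z1 * g⁻¹ * (g * z1 * g⁻¹) = 1 := (D.conj g).w2
  -- into the centraliser of the first
  obtain ⟨c, hc1, hcz⟩ := conj_into T hT hT' (P := Subgroup.zpowers (g * z1 * g⁻¹))
    (IsPGroup.of_card (n := 1) (by rw [Nat.card_zpowers, pow_one]
                                   exact orderOf_eq_prime (by rw [pow_two]; exact hv2) (D.conj g).wne))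
    (fun x hx => by
      obtain ⟨k, rfl⟩ := Subgroup.mem_zpowers_iff.mp hx
      exact hc.symm.zpow_left k)
  have hvz : Commute (c * g * z1 * (c * g)⁻¹) z := by
    have := Subgroup.mem_centralizer_singleton_iff.mp (hcz _ (Subgroup.mem_zpowers _))
    rwa [show c * (g * z1 * g⁻¹) * c⁻¹ = c * g * z1 * (c * g)⁻¹ by group] at this
  obtain ⟨g', hg'⟩ : ∃ g', g' = c * g := ⟨_, rfl⟩
  rw [← hg'] at hvz
  have hv1 : Commute (g' * z1 * g'⁻¹) z1 := by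
    have h := hc.symm.map (MulAut.conj c).toMonoidHom
    rw [hg', show c * g * z1 * (c * g)⁻¹ = c * (g * z1 * g⁻¹) * c⁻¹ by group]
    simpa [hc1.eq] using h
  suffices h : g' * z1 * g'⁻¹ = z1 by
    calc g * z1 * g⁻¹ = c⁻¹ * (g' * z1 * g'⁻¹) * c := by rw [hg']; group
      _ = z1 := by rw [h, mul_assoc, ← hc1.eq, inv_mul_cancel_left]
  -- the pair into the centraliser of the conjugate
  obtain ⟨P, hP⟩ : ∃ P, P = (Subgroup.zpowers z ⊔ Subgroup.zpowers z1).map (MulAut.conj g'⁻¹).toMonoidHom :=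
    ⟨_, rfl⟩
  have hle : Subgroup.zpowers z ⊔ Subgroup.zpowers z1 ≤ D.Q :=
    sup_le (Subgroup.zpowers_le.mpr D.zQ) (Subgroup.zpowers_le.mpr D.z1Q)
  have hP2 : IsPGroup 2 P := hP ▸ ((D.two.to_le hle).map _)
  have hPc : ∀ x ∈ P, Commute x z1 := by
    intro x hx
    have hCle : P ≤ Subgroup.centralizer ({z1} : Set G) := by
      rw [hP, Subgroup.map_le_iff_le_comap, sup_le_iff, Subgroup.zpowers_le, Subgroup.zpowers_le]
      constructor <;> refine Subgroup.mem_centralizer_singleton_iff.mpr ?_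
      · simpa [mul_assoc] using (hvz.symm.map (MulAut.conj g'⁻¹).toMonoidHom).eq
      · simpa [mul_assoc] using (hv1.symm.map (MulAut.conj g'⁻¹).toMonoidHom).eq
    exact Subgroup.mem_centralizer_singleton_iff.mp (hCle hx)
  obtain ⟨d, hd1, hdP⟩ := conj_into T hT hT' hP2 hPc
  obtain ⟨k, hk⟩ : ∃ k, k = g' * d⁻¹ := ⟨_, rfl⟩
  have hkv : k * z1 * k⁻¹ = g' * z1 * g'⁻¹ := by
    rw [hk, show g' * d⁻¹ * z1 * (g' * d⁻¹)⁻¹ = g' * (d⁻¹ * z1 * d) * g'⁻¹ by group, hd1.inv_left.eq, mul_assoc z1,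
      inv_mul_cancel, mul_one]
  have hcomm : ∀ x ∈ P, Commute (k * z * k⁻¹) (g' * x * g'⁻¹) := fun x hx => by
    have h0 : Commute (d * x * d⁻¹) z := Subgroup.mem_centralizer_singleton_iff.mp (hdP x hx)
    have h := (h0.map (MulAut.conj k).toMonoidHom).symm
    simp only [MulEquiv.coe_toMonoidHom, MulAut.conj_apply] at h
    rwa [show k * (d * x * d⁻¹) * k⁻¹ = g' * x * g'⁻¹ by rw [hk]; group] at h
  have hyz : Commute (k * z * k⁻¹) z := by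
    have h := hcomm (g'⁻¹ * z * g') (hP ▸ ⟨z, Subgroup.mem_sup_left (Subgroup.mem_zpowers z), by simp⟩)
    rwa [show g' * (g'⁻¹ * z * g') * g'⁻¹ = z by group] at h
  have hy1 : Commute (k * z * k⁻¹) z1 := by
    have h := hcomm (g'⁻¹ * z1 * g') (hP ▸ ⟨z1, Subgroup.mem_sup_right (Subgroup.mem_zpowers z1), by simp⟩)
    rwa [show g' * (g'⁻¹ * z1 * g') * g'⁻¹ = z1 by group] at h
  rw [← hkv]
  exact A.one_pair hfix n1 n2 n3 hs hno ⟨hyz, hy1⟩ (hkv.symm ▸ ⟨hvz, hv1⟩)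

end Cfsg.Agent.Spor.FiTwo
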