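import Cfsg.Agent.Lib.Spor.FiTwo.Pairs
import Cfsg.Agent.Lib.Spor.FiTwo.OneIso
import Cfsg.Agent.Lib.Spor.FiTwo.Fusion
import Cfsg.Agent.Lib.Spor.FiTwo.CentOne
import Cfsg.Agent.Lib.Spor.FiTwo.CentOneB
import Cfsg.Agent.Lib.Spor.FiTwo.CaseU

/-!
The three outcomes for an involution centraliser of this shape.
-/

set_option autoImplicit false
set_option linter.unusedSectionVars false

namespace Cfsg.Agent.Spor.FiTwo

open Cfsg.Agent.Spor.CHZ Cfsg.Agent.Spor.SpFour Cfsg.Agent.Small.Unitary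

universe w v

variable {G : Type w} [Group G] [Finite G] {z z1 : G}

/-- the second involution is isolated -/
theorem isolated_one (D : CHZ.DCore z z1) (hfix : ∀ c, Commute c z → Commute c z1) (hns : ¬ Split z z1)
    (hs : Split z (z * z1)) {g : G} (hc : Commute z1 (g * z1 * g⁻¹)) : g * z1 * g⁻¹ = z1 := by
  obtain ⟨n1, n2, n3⟩ := fusion_fix D hfix
  rcases D.models with ⟨hB, -⟩ | ⟨D', hQ, ⟨A⟩⟩
  · exact absurd (split_of_caseB D hfix hB) hns
  · obtain ⟨T, hT⟩ := exists_sylow_centralizer D hfix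
    exact A.one_isolated hfix n1 n2 n3 hs
      (fun c h1 h2 => no_mem_of_unsplit D hfix hns h1 (hQ ▸ h2)) T hT hc

/-- the outcomes -/
theorem main (D : CHZ.DCore z z1) (hz : orderOf z = 2) {K : Type v} [Field K] [Fintype K]
    (hK : Fintype.card K = 4) :
    Subgroup.centralizer ({z} : Set G) ⊔ Cfsg.oddCore G = ⊤ ∨
      (∃ u, (u = z1 ∨ u = z1 * z) ∧ (Subgroup.zpowers u).Normal ∧
        ∃ (G₀ : Subgroup G) (_ : u ∈ G₀), G₀.index = 2 ∧
          ∃ hn : ((Subgroup.zpowers u).subgroupOf G₀).Normal,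
            Nonempty ((↥G₀ ⧸ (Subgroup.zpowers u).subgroupOf G₀) ≃* Cfsg.PSU 6 K 2)) ∨
      Cfsg.Spor.IsoFi22 G := by
  classical
  by_cases hfix : ∀ c, Commute c z → Commute c z1
  · obtain ⟨n1, n2, n3⟩ := fusion_fix D hfix
    by_cases s1 : Split z z1
    · by_cases s2 : Split z (z * z1)
      · rw [D.z_comm.eq] at s2 n2 n3
        exact Or.inl (top_of_both D hz s1 s2 n1 n2 (fun h => absurd h n3) (Or.inl hfix))
      · have hfix' : ∀ c, Commute c z → Commute c (z1 * z) := fun c hc => (hfix c hc).mul_right hc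
        have hs' : Split z (z * (z1 * z)) := by
          rwa [← D.z_comm.eq, ← mul_assoc, D.sqz, one_mul]
        have hns' : ¬ Split z (z1 * z) := by rwa [← D.z_comm.eq]
        exact Or.inr (Or.inl ⟨z1 * z, Or.inr rfl, central_of_isolated D.symm hfix' hns'
          (fun g hg => isolated_one D.symm hfix' hns' hs' hg) hK⟩)
    · exact Or.inr (Or.inl ⟨z1, Or.inl rfl, central_of_isolated D hfix s1
        (fun g hg => isolated_one D hfix s1 ((split_or D hfix).resolve_left s1) hg) hK⟩)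
  · push Not at hfix
    obtain ⟨h, hh, hh1⟩ := hfix
    have hs : h * z1 * h⁻¹ = z1 * z :=
      (D.conj_one hh).resolve_left fun e => hh1 (mul_inv_eq_iff_eq_mul.mp e)
    have n1 := fusion_swap D hh hs
    have n2 : ¬ IsConj z (z1 * z) := fun e => n1 (e.trans (isConj_iff.mpr ⟨h, hs⟩).symm)
    by_cases s1 : Split z z1
    · have s2 : Split z (z1 * z) := by
        have := s1.conj h
        rwa [hh.eq, mul_inv_cancel_right, hs] at this
      exact Or.inl (top_of_both D hz s1 s2 n1 n2 (fun _ => ⟨h, hh, hs⟩) (Or.inr ⟨h, hh, hs⟩))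
    · exact Or.inr (Or.inr (fi_of_swapped D hh hs n1 s1))

end Cfsg.Agent.Spor.FiTwo
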