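import Cfsg.Agent.Lib.Spor.FiTwo.Conj

/-!
An involution isolated modulo the cores in the centralisers of both other central involutions is isolated.
-/

set_option autoImplicit false
set_option linter.unusedSectionVars false

namespace Cfsg.Agent.Spor.FiTwo

universe w u

variable {G : Type w} [Group G] {z z1 : G} {M : Type u} [AddCommGroup M]

namespace Data

/-- the member of the first kind is not in the subgroup beside one of the second outside -/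
def StepP (D : Data z z1 M) : Prop :=
  ∀ y v, y ∈ D.Q → y * y = 1 → D.ν y ≠ 0 → D.In0 v → v * v = 1 → v ∉ D.Q → Split y v →
    (∀ n ∈ D.Q, Commute n y → n * v * n⁻¹ = v ∨ n * v * n⁻¹ = v * y) → False

/-- all three members outside the subgroup -/
theorem members (D : Data z z1 M) {y v : G} (hy : D.In0 y) (hv : D.In0 v) (hy2 : y * y = 1) (hv2 : v * v = 1)
    (hyv : Commute y v) (hspv : Split y v) (hspw : Split y (v * y)) (hy0 : ¬ (y ∈ D.Q ∧ D.ν y = 0))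
    (hv0 : ¬ (v ∈ D.Q ∧ D.ν v = 0)) (hw0 : ¬ (v * y ∈ D.Q ∧ D.ν (v * y) = 0))
    (hsw : ∀ n, Commute n y → n * v * n⁻¹ = v ∨ n * v * n⁻¹ = v * y)
    (hstep : (∀ n, Commute n y → Commute n v) ∨ D.StepP) : y ∉ D.Q ∧ v ∉ D.Q ∧ v * y ∉ D.Q := by
  have hw2 : v * y * (v * y) = 1 := by
    rw [show v * y * (v * y) = v * (y * v) * y by group, hyv.eq, ← mul_assoc, hv2, one_mul, hy2]
  have hvQ : v ∉ D.Q := D.not_mem_of_split hy hy2 hv2 hspv hv0 hw0 hy0
  have hwQ : v * y ∉ D.Q := D.not_mem_of_split hy hy2 hw2 hspw hw0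
    (by rw [mul_assoc, hy2, mul_one]; exact hv0) hy0
  refine ⟨fun hyQ => ?_, hvQ, hwQ⟩
  have hν : D.ν y ≠ 0 := fun e => hy0 ⟨hyQ, e⟩
  rcases hstep with h | h
  · exact hvQ (D.hyper hv hyQ hy2 fun n hn hny => D.fixed_of_comm hv hn (h n hny).symm)
  · exact h y v hyQ hy2 hν hv hv2 hvQ hspv fun n _ hny => hsw n hny

end Data

/-- the hypotheses when the involution is split from both others -/
structure Both (D : Data z z1 M) : Prop where
  s1 : Split z z1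
  s2 : Split z (z1 * z)
  n1 : ¬ IsConj z z1
  n2 : ¬ IsConj z (z1 * z)
  fuse : IsConj z1 (z1 * z) → ∃ h, Commute h z ∧ h * z1 * h⁻¹ = z1 * z
  perm : ∀ n, Commute n z → n * z1 * n⁻¹ = z1 ∨ n * z1 * n⁻¹ = z1 * z
  step : (∀ n, Commute n z → Commute n z1) ∨ ∀ g, (D.conj g).StepP
  faith : ∀ y, Commute y z → (∀ m ∈ D.Q, y * m * y⁻¹ = m ∨ y * m * y⁻¹ = m * z) → y ∈ D.Q
  out : ∀ g, D.In0 (g * z * g⁻¹) → D.In0 (g * z1 * g⁻¹) → g * z * g⁻¹ ∉ D.Q → g * z1 * g⁻¹ ∉ D.Q →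
    g * z1 * g⁻¹ * (g * z * g⁻¹) ∉ D.Q → z ∉ (D.conj g).Q → z1 ∉ (D.conj g).Q → z * z1 ∉ (D.conj g).Q →
    (∀ n ∈ D.Q, Commute n (g * z * g⁻¹) → Commute n (g * z1 * g⁻¹)) → False

namespace Both

variable {D : Data z z1 M} (P : Both D)
include P

theorem w0_sq : z1 * z * (z1 * z) = 1 := by
  rw [show z1 * z * (z1 * z) = z1 * (z * z1) * z by group, (D.cent z1 D.z1Q).symm.eq, ← mul_assoc, D.w2, one_mul,
    D.z2]

/-- a conjugate member equal to one of the two -/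
theorem eq_of_pair {g a b : G} (hsp : Split z a) (hga : g * a * g⁻¹ = b)
    (hb : a = b ∨ ∃ h, Commute h z ∧ h * a * h⁻¹ = b) (hc : Commute (g * z * g⁻¹) z) : g * z * g⁻¹ = z := by
  obtain ⟨h, hhz, hhb⟩ : ∃ h, Commute h z ∧ h * a * h⁻¹ = b :=
    hb.elim (fun e => ⟨1, Commute.one_left z, by rw [← e]; group⟩) id
  have hh : h⁻¹ * z * h = z := by rw [hhz.inv_left.eq, inv_mul_cancel_right]
  have e1 : Commute (h⁻¹ * g) a := by
    refine mul_inv_eq_iff_eq_mul.mp ?_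
    rw [show h⁻¹ * g * a * (h⁻¹ * g)⁻¹ = h⁻¹ * (g * a * g⁻¹) * h by group, hga, ← hhb]
    group
  have e2 : Commute (h⁻¹ * g * z * (h⁻¹ * g)⁻¹) z := by
    have := hc.map (MulAut.conj h⁻¹).toMonoidHom
    rw [show h⁻¹ * g * z * (h⁻¹ * g)⁻¹ = h⁻¹ * (g * z * g⁻¹) * h by group]
    simpa [hh] using this
  have e3 := hsp.eq_of_commute D.z2 e1 e2
  calc g * z * g⁻¹ = h * (h⁻¹ * g * z * (h⁻¹ * g)⁻¹) * h⁻¹ := by group
    _ = z := by rw [e3, hhz.eq, mul_inv_cancel_right]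

/-- two commuting pairs -/
theorem star {g : G} (hy : D.In0 (g * z * g⁻¹)) (hv : D.In0 (g * z1 * g⁻¹)) : g * z * g⁻¹ = z := by
  by_contra hne
  obtain ⟨y, hy_def⟩ : ∃ y, y = g * z * g⁻¹ := ⟨_, rfl⟩
  obtain ⟨v, hv_def⟩ : ∃ v, v = g * z1 * g⁻¹ := ⟨_, rfl⟩
  have hw_def : v * y = g * (z1 * z) * g⁻¹ := by rw [hy_def, hv_def]; group
  rw [← hy_def] at hy hne
  rw [← hv_def] at hv
  have hy2 : y * y = 1 := hy_def ▸ (D.conj g).z2
  have hv2 : v * v = 1 := hv_def ▸ (D.conj g).w2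
  have hyv : Commute y v := hy_def ▸ hv_def ▸ (D.cent1 z D.zQ).map (MulAut.conj g).toMonoidHom
  have hy1 : y ≠ 1 := hy_def ▸ (D.conj g).zne
  have hv1 : v ≠ 1 := hv_def ▸ (D.conj g).wne
  have hyv1 : v * y ≠ 1 := fun e => by
    have : v = y := (mul_eq_one_iff_eq_inv.mp e).trans (inv_eq_of_mul_eq_one_right hy2)
    exact (D.conj g).hne (hv_def.symm.trans (this.trans hy_def))
  have cy : IsConj z y := isConj_iff.mpr ⟨g, hy_def.symm⟩
  have cv : IsConj z1 v := isConj_iff.mpr ⟨g, hv_def.symm⟩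
  have cw : IsConj (z1 * z) (v * y) := isConj_iff.mpr ⟨g, hw_def.symm⟩
  have hzz : z * z1 = z1 * z := (D.cent1 z D.zQ).eq
  have hyz : Commute (g * z * g⁻¹) z := hy_def ▸ hy.1
  have hy0 : ¬ (y ∈ D.Q ∧ D.ν y = 0) := fun ⟨hQ, h0⟩ => by
    rcases (D.ν_zero y hQ).mp h0 with e | e | e | e
    exacts [hy1 e, hne e, P.n1 (e ▸ cy), P.n2 (hzz ▸ e ▸ cy)]
  have hv0 : ¬ (v ∈ D.Q ∧ D.ν v = 0) := fun ⟨hQ, h0⟩ => by
    rcases (D.ν_zero v hQ).mp h0 with e | e | e | e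
    · exact hv1 e
    · exact P.n1 (e ▸ cv).symm
    · exact hne (hy_def ▸ P.eq_of_pair P.s1 (hv_def.symm.trans e) (Or.inl rfl) hyz)
    · rw [hzz] at e
      exact hne (hy_def ▸ P.eq_of_pair P.s1 (hv_def.symm.trans e) (Or.inr (P.fuse (e ▸ cv))) hyz)
  have hw0 : ¬ (v * y ∈ D.Q ∧ D.ν (v * y) = 0) := fun ⟨hQ, h0⟩ => by
    rcases (D.ν_zero (v * y) hQ).mp h0 with e | e | e | e
    · exact hyv1 e
    · exact P.n2 (e ▸ cw).symm
    · refine hne (hy_def ▸ P.eq_of_pair P.s2 (hw_def.symm.trans e) (Or.inr ?_) hyz)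
      obtain ⟨h, hhz, hh⟩ := P.fuse (e ▸ cw).symm
      refine ⟨h, hhz, ?_⟩
      rw [show h * (z1 * z) * h⁻¹ = h * z1 * h⁻¹ * (h * z * h⁻¹) by group, hh, hhz.eq, mul_inv_cancel_right, mul_assoc,
        D.z2, mul_one]
    · rw [hzz] at e
      exact hne (hy_def ▸ P.eq_of_pair P.s2 (hw_def.symm.trans e) (Or.inl rfl) hyz)
  -- the other frame
  have hsw' : ∀ n, Commute n y → n * v * n⁻¹ = v ∨ n * v * n⁻¹ = v * y := fun n hn => by
    have hn' := comm_back (hy_def ▸ hn : Commute n (g * z * g⁻¹))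
    refine (P.perm _ hn').imp (fun e => ?_) fun e => ?_
    · rw [hv_def]
      calc n * (g * z1 * g⁻¹) * n⁻¹ = g * (g⁻¹ * n * g * z1 * (g⁻¹ * n * g)⁻¹) * g⁻¹ := by group
        _ = g * z1 * g⁻¹ := by rw [e]
    · rw [hw_def, hv_def]
      calc n * (g * z1 * g⁻¹) * n⁻¹ = g * (g⁻¹ * n * g * z1 * (g⁻¹ * n * g)⁻¹) * g⁻¹ := by group
        _ = _ := by rw [e]
  have hspv : Split y v := hy_def ▸ hv_def ▸ P.s1.conj g
  have hspw : Split y (v * y) := hw_def.symm ▸ hy_def ▸ P.s2.conj g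
  have hstep0 : (∀ n, Commute n y → Commute n v) ∨ D.StepP := by
    refine P.step.imp (fun h n hn => ?_) fun h => ?_
    · have := (h _ (comm_back (hy_def ▸ hn : Commute n (g * z * g⁻¹)))).map (MulAut.conj g).toMonoidHom
      rw [hv_def]
      simpa [mul_assoc] using this
    · have e : ∀ {x x' : G} (E : Data x x' M) (F : Data z z1 M), x = z → x' = z1 → E.Q = F.Q → E.ν = F.ν →
          E.StepP → F.StepP := by
        intro x x' E F ex ex' eQ eν hE y v hy hy2 hy0 hv hv2 hvQ hsp hsw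
        subst ex ex'
        exact hE y v (eQ ▸ hy) hy2 (eν ▸ hy0) hv hv2 (eQ ▸ hvQ) hsp (eQ ▸ hsw)
      refine e (D.conj 1) D (by group) (by group) (Subgroup.ext fun x => ?_) (funext fun x => ?_) (h 1)
      · exact ⟨fun ⟨t, ht, e⟩ => by simpa [← e] using ht, fun hx => ⟨x, hx, by simp⟩⟩
      · show D.ν (1⁻¹ * x * 1) = D.ν x
        simp
  obtain ⟨hyQ, hvQ, hwQ⟩ := D.members hy hv hy2 hv2 hyv hspv hspw hy0 hv0 hw0 hsw' hstep0
  let D' := D.conj g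
  have hz' : D'.In0 z := ⟨hyz.symm, hv_def ▸ hv.1.symm⟩
  have h1' : D'.In0 z1 := ⟨hy_def ▸ hy.2.symm, hv_def ▸ hv.2.symm⟩
  have hzero' : ∀ {x}, x ∈ D'.Q → D'.ν x = 0 → x = 1 ∨ x = y ∨ x = v ∨ x = v * y := fun {x} hQ h0 => by
    rw [hy_def, hv_def]
    rcases (D'.ν_zero x hQ).mp h0 with e | e | e | e
    · exact Or.inl e
    · exact Or.inr (Or.inl e)
    · exact Or.inr (Or.inr (Or.inl e))
    · exact Or.inr (Or.inr (Or.inr (e.trans (((D.cent1 z D.zQ).map (MulAut.conj g).toMonoidHom).eq))))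
  have hnot : ∀ x, x ∈ D.Q → D.ν x = 0 → x ≠ 1 → ¬ (x ∈ D'.Q ∧ D'.ν x = 0) := by
    rintro x hx hx0 hx1 ⟨hQ, h0⟩
    rcases hzero' hQ h0 with e | e | e | e
    exacts [hx1 e, hy0 ⟨e ▸ hx, e ▸ hx0⟩, hv0 ⟨e ▸ hx, e ▸ hx0⟩, hw0 ⟨e ▸ hx, e ▸ hx0⟩]
  have hz1z : z1 * z ≠ 1 := fun e => D.hne ((mul_eq_one_iff_eq_inv.mp e).trans D.z_inv)
  obtain ⟨hzQ', h1Q', hwQ'⟩ := D'.members hz' h1' D.z2 D.w2 (D.cent1 z D.zQ) P.s1 P.s2
    (hnot z D.zQ D.ν_z D.zne) (hnot z1 D.z1Q D.ν_z1 D.wne)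
    (hnot (z1 * z) (D.Q.mul_mem D.z1Q D.zQ) (by rw [D.ν_mul z1 D.z1Q z D.zQ, D.ν_z, D.ν_z1, add_zero]) hz1z)
    P.perm (P.step.imp id fun h => h g)
  refine P.out g (hy_def ▸ hy) (hv_def ▸ hv) (hy_def ▸ hyQ) (hv_def ▸ hvQ) (hy_def ▸ hv_def ▸ hwQ) hzQ' h1Q'
    (by rw [hzz]; exact hwQ') fun n hn hny => ?_
  rw [← hy_def] at hny
  rw [← hv_def]
  refine mul_inv_eq_iff_eq_mul.mp ((hsw' n hny).resolve_right fun e => hyQ ?_)
  have h := D.Q.mul_mem (D.normal v⁻¹ hv.1.inv_left n hn) (D.Q.inv_mem hn)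
  have e' : v⁻¹ * n * v⁻¹⁻¹ * n⁻¹ = y := by
    rw [inv_inv, show v⁻¹ * n * v * n⁻¹ = v⁻¹ * (n * v * n⁻¹) by group, e, inv_mul_cancel_left]
  exact e' ▸ h

/-- a conjugate centralising the pair -/
theorem in_pair {g : G} (hy : D.In0 (g * z * g⁻¹)) : g * z * g⁻¹ = z := by
  obtain ⟨y, hy_def⟩ : ∃ y, y = g * z * g⁻¹ := ⟨_, rfl⟩
  obtain ⟨v, hv_def⟩ : ∃ v, v = g * z1 * g⁻¹ := ⟨_, rfl⟩
  have hsw' : ∀ n, Commute n y → n * v * n⁻¹ = v ∨ n * v * n⁻¹ = v * y := fun n hn => by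
    have hn' := comm_back (hy_def ▸ hn : Commute n (g * z * g⁻¹))
    refine (P.perm _ hn').imp (fun e => ?_) fun e => ?_
    · rw [hv_def]
      calc n * (g * z1 * g⁻¹) * n⁻¹ = g * (g⁻¹ * n * g * z1 * (g⁻¹ * n * g)⁻¹) * g⁻¹ := by group
        _ = g * z1 * g⁻¹ := by rw [e]
    · rw [hy_def, hv_def]
      calc n * (g * z1 * g⁻¹) * n⁻¹ = g * (g⁻¹ * n * g * z1 * (g⁻¹ * n * g)⁻¹) * g⁻¹ := by group
        _ = _ := by rw [e]; group
  have hy2 : y * y = 1 := hy_def ▸ (D.conj g).z2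
  have hy1 : y ≠ 1 := hy_def ▸ (D.conj g).zne
  have hv2 : v * v = 1 := hv_def ▸ (D.conj g).w2
  have hvi : v⁻¹ = v := inv_eq_of_mul_eq_one_right hv2
  rw [← hy_def] at hy ⊢
  by_contra hne
  have hodd : ∀ {a}, Split z a → Commute v a → z * v * z⁻¹ = v * y → False := by
    intro a hsp hva e
    have h := hsp v hva
    rw [hvi, show v * z * v * z = v * (z * v * z) by group] at h
    rw [D.z_inv] at e
    rw [e, ← mul_assoc, hv2, one_mul, orderOf_eq_prime (by rw [pow_two]; exact hy2) hy1] at h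
    exact absurd h (by decide)
  have hzv : Commute z v := by
    refine mul_inv_eq_iff_eq_mul.mp ((hsw' z hy.1.symm).resolve_right fun e => ?_)
    rcases hsw' z1 hy.2.symm with e1 | e1
    · exact hodd P.s1 (mul_inv_eq_iff_eq_mul.mp e1).symm e
    · refine hodd P.s2 (mul_inv_eq_iff_eq_mul.mp ?_).symm e
      rw [show z1 * z * v * (z1 * z)⁻¹ = z1 * (z * v * z⁻¹) * z1⁻¹ by group, e,
        show z1 * (v * y) * z1⁻¹ = z1 * v * z1⁻¹ * (z1 * y * z1⁻¹) by group, e1, hy.2.symm.eq, mul_inv_cancel_right,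
        mul_assoc, hy2, mul_one]
  have hv : D.In0 v := by
    refine ⟨hzv.symm, ?_⟩
    rcases P.perm v hzv.symm with e | e
    · exact mul_inv_eq_iff_eq_mul.mp e
    · exfalso
      have e2 : z1 * v * z1⁻¹ = v * z := by
        rw [hvi] at e
        rw [inv_eq_of_mul_eq_one_right D.w2]
        calc z1 * v * z1 = v * (v * z1 * v) * z1 := by
              rw [show v * (v * z1 * v) * z1 = v * v * z1 * v * z1 by group, hv2, one_mul]
          _ = v * z := by rw [e, mul_assoc v, mul_assoc z1, ← (D.cent z1 D.z1Q).eq, ← mul_assoc z1, D.w2, one_mul]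
      rcases hsw' z1 hy.2.symm with h | h <;> rw [e2] at h
      · exact D.zne (mul_eq_left.mp h)
      · exact hne (mul_left_cancel h).symm
  exact hne (hy_def ▸ P.star (hy_def ▸ hy) (hv_def ▸ hv))

/-- the involution is isolated -/
theorem isolated {g : G} (hc : Commute z (g * z * g⁻¹)) : g * z * g⁻¹ = z := by
  obtain ⟨y, hy_def⟩ : ∃ y, y = g * z * g⁻¹ := ⟨_, rfl⟩
  obtain ⟨v, hv_def⟩ : ∃ v, v = g * z1 * g⁻¹ := ⟨_, rfl⟩
  rw [← hy_def] at hc ⊢
  by_cases hy1 : Commute y z1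
  · exact hy_def ▸ P.in_pair (hy_def ▸ ⟨hc.symm, hy1⟩)
  by_contra hne
  have hy2 : y * y = 1 := hy_def ▸ (D.conj g).z2
  have hyi : y⁻¹ = y := inv_eq_of_mul_eq_one_right hy2
  have hswap : y * z1 * y⁻¹ = z1 * z := (P.perm y hc.symm).resolve_left fun e => hy1 (mul_inv_eq_iff_eq_mul.mp e)
  -- a conjugate centralising the other pair equals it
  have hP' : ∀ b : G, Commute (b * z * b⁻¹) y → Commute (b * z * b⁻¹) v → b * z * b⁻¹ = y := by
    intro b h1 h2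
    have h1' := comm_back (g := g) (c := b * z * b⁻¹) (x := z) (hy_def ▸ h1)
    have h2' := comm_back (g := g) (c := b * z * b⁻¹) (x := z1) (hv_def ▸ h2)
    have e0 : g⁻¹ * b * z * (g⁻¹ * b)⁻¹ = g⁻¹ * (b * z * b⁻¹) * g := by group
    have h := P.in_pair (g := g⁻¹ * b) ⟨e0 ▸ h1', e0 ▸ h2'⟩
    rw [e0] at h
    calc b * z * b⁻¹ = g * (g⁻¹ * (b * z * b⁻¹) * g) * g⁻¹ := by group
      _ = y := by rw [h, hy_def]
  have hsw' : ∀ n, Commute n y → n * v * n⁻¹ = v ∨ n * v * n⁻¹ = v * y := fun n hn => by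
    have hn' := comm_back (hy_def ▸ hn : Commute n (g * z * g⁻¹))
    refine (P.perm _ hn').imp (fun e => ?_) fun e => ?_
    · rw [hv_def]
      calc n * (g * z1 * g⁻¹) * n⁻¹ = g * (g⁻¹ * n * g * z1 * (g⁻¹ * n * g)⁻¹) * g⁻¹ := by group
        _ = g * z1 * g⁻¹ := by rw [e]
    · rw [hy_def, hv_def]
      calc n * (g * z1 * g⁻¹) * n⁻¹ = g * (g⁻¹ * n * g * z1 * (g⁻¹ * n * g)⁻¹) * g⁻¹ := by group
        _ = _ := by rw [e]; group
  have hzv : ¬ Commute z v := fun h => hne (by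
    have e := hP' 1 (by simpa using hc) (by simpa using h)
    rw [← e]; group)
  have hsq : ∀ {n n' : G}, Commute n y → Commute n' y → n * v * n⁻¹ = v * y → n' * v * n'⁻¹ = v * y →
      Commute (n * n') v := by
    intro n n' hn _ e e'
    refine mul_inv_eq_iff_eq_mul.mp ?_
    rw [show n * n' * v * (n * n')⁻¹ = n * (n' * v * n'⁻¹) * n⁻¹ by group, e',
      show n * (v * y) * n⁻¹ = n * v * n⁻¹ * (n * y * n⁻¹) by group, e, hn.eq, mul_inv_cancel_right, mul_assoc, hy2,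
      mul_one]
  have hsq1 : ∀ {n}, n * n = z → Commute n y → False := fun {n} h hn => by
    refine hzv (h ▸ ?_)
    rcases hsw' n hn with e | e
    · have e' : Commute n v := mul_inv_eq_iff_eq_mul.mp e
      exact e'.mul_left e'
    · exact hsq hn hn e e
  -- squares of members fixed modulo the centre
  have hfix : ∀ n ∈ D.Q, (∃ ζ, ζ ∈ D.Q ∧ D.ν ζ = 0 ∧ y * n * y⁻¹ = n * ζ) → n * n = 1 := by
    rintro n hn ⟨ζ, hζ, hζ0, e⟩
    rcases D.sq n hn with h | h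
    · exact h
    exfalso
    have hnz1 : n * z1 * (n * z1) = z := by
      rw [show n * z1 * (n * z1) = n * (z1 * n) * z1 by group, ← (D.cent1 n hn).eq, ← mul_assoc, h, mul_assoc,
        D.w2, mul_one]
    have e2 : y * (n * ζ) * y⁻¹ = n := by
      rw [← e, hyi, show y * (y * n * y) * y = y * y * n * (y * y) by group, hy2, one_mul, mul_one]
    rcases (D.ν_zero ζ hζ).mp hζ0 with r | r | r | r <;> rw [r] at e e2
    · exact hsq1 h (mul_inv_eq_iff_eq_mul.mp (e.trans (mul_one n))).symm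
    · refine hsq1 hnz1 (mul_inv_eq_iff_eq_mul.mp ?_).symm
      rw [show y * (n * z1) * y⁻¹ = y * n * y⁻¹ * (y * z1 * y⁻¹) by group, e, hswap, mul_assoc n,
        ← mul_assoc z, (D.cent1 z D.zQ).eq, mul_assoc z1, D.z2, mul_one]
    · rw [show y * (n * z1) * y⁻¹ = y * n * y⁻¹ * (y * z1 * y⁻¹) by group, e, hswap, mul_assoc n, ← mul_assoc z1,
        D.w2, one_mul] at e2
      exact D.zne (mul_eq_left.mp e2)
    · rw [show y * (n * (z * z1)) * y⁻¹ = y * n * y⁻¹ * (y * z * y⁻¹) * (y * z1 * y⁻¹) by group, e, hswap,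
        hc.symm.eq, mul_inv_cancel_right, mul_assoc n, mul_assoc n,
        show z * z1 * z * (z1 * z) = z * (z1 * z) * (z1 * z) by group, mul_assoc z, P.w0_sq, mul_one] at e2
      exact D.zne (mul_eq_left.mp e2)
  obtain ⟨m, hm, hm1, hm2⟩ : ∃ m ∈ D.Q, y * m * y⁻¹ ≠ m ∧ y * m * y⁻¹ ≠ m * z := by
    by_contra hno
    push Not at hno
    refine hy1 (D.cent1 y (P.faith y hc.symm fun m hm => ?_))
    by_cases h : y * m * y⁻¹ = m
    exacts [Or.inl h, Or.inr (hno m hm h)]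
  obtain ⟨k, hk⟩ : ∃ k, k = y * m * y⁻¹ * m⁻¹ := ⟨_, rfl⟩
  have hkQ : k ∈ D.Q := hk ▸ D.Q.mul_mem (D.normal y hc.symm m hm) (D.Q.inv_mem hm)
  have hkinv : y * k * y⁻¹ = k⁻¹ := hk ▸ D.inverted hy2
  have hk2 : k * k = 1 := by
    rcases D.sq k hkQ with h | h
    · exact h
    · refine hfix k hkQ ⟨z, D.zQ, D.ν_z, ?_⟩
      rw [hkinv]
      refine inv_eq_of_mul_eq_one_right ?_
      rw [← mul_assoc, h, D.z2]
  have hky : Commute y k := by
    rw [inv_eq_of_mul_eq_one_right hk2] at hkinv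
    exact mul_inv_eq_iff_eq_mul.mp hkinv
  have e1 : m * y * m⁻¹ = y * k := by
    rw [hk, hyi, ← mul_assoc, ← mul_assoc, ← mul_assoc, hy2, one_mul]
  have e2 : m * z1 * y * (m * z1)⁻¹ = y * k * z := by
    have h : z1 * y * z1⁻¹ = y * z := by
      rw [hyi] at hswap
      rw [inv_eq_of_mul_eq_one_right D.w2]
      calc z1 * y * z1 = y * (y * z1 * y) * z1 := by
            rw [show y * (y * z1 * y) * z1 = y * y * z1 * y * z1 by group, hy2, one_mul]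
        _ = y * z := by rw [hswap, mul_assoc y, mul_assoc z1, (D.cent1 z D.zQ).eq, ← mul_assoc z1, D.w2, one_mul]
    rw [show m * z1 * y * (m * z1)⁻¹ = m * (z1 * y * z1⁻¹) * m⁻¹ by group, h,
      show m * (y * z) * m⁻¹ = m * y * m⁻¹ * (m * z * m⁻¹) by group, e1, (D.cent m hm).eq, mul_inv_cancel_right]
  have hne1 : k ≠ 1 := fun e => hm1 (mul_inv_eq_one.mp (hk.symm.trans e))
  have hne2 : k * z ≠ 1 := fun e => hm2 (by
    have e' : k = z := (mul_eq_one_iff_eq_inv.mp e).trans D.z_inv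
    rw [mul_inv_eq_iff_eq_mul.mp (hk.symm.trans e'), (D.cent m hm).eq])
  have hcy1 : Commute (y * k) y := (Commute.refl y).mul_left hky.symm
  have hcy2 : Commute (y * k * z) y := hcy1.mul_left hc
  have hsv : ∀ {b : G}, Commute (b * z * b⁻¹) y → b * z * b⁻¹ ≠ y →
      b * z * b⁻¹ * v * (b * z * b⁻¹)⁻¹ = v * y := fun {b} h hne' =>
    (hsw' _ h).resolve_left fun e => hne' (hP' b h (mul_inv_eq_iff_eq_mul.mp e))
  have a1 : m * g * z * (m * g)⁻¹ = y * k := by rw [← e1, hy_def]; group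
  have a2 : m * z1 * g * z * (m * z1 * g)⁻¹ = y * k * z := by rw [← e2, hy_def]; group
  have s1 := hsv (b := m * g) (a1 ▸ hcy1) (fun e => hne1 (mul_eq_left.mp (a1 ▸ e)))
  have s2 := hsv (b := m * z1 * g) (a2 ▸ hcy2) (fun e => hne2 (by
    rw [a2, mul_assoc] at e
    exact mul_eq_left.mp e))
  rw [a1] at s1
  rw [a2] at s2
  refine hzv ?_
  have h := hsq hcy1 hcy2 s1 s2
  rwa [show y * k * (y * k * z) = y * (k * y) * k * z by group, ← hky.eq, ← mul_assoc y, hy2, one_mul, hk2,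
    one_mul] at h

end Both

end Cfsg.Agent.Spor.FiTwo
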