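import Cfsg.Agent.Lib.Spor.FiTwo.Common
import Cfsg.Agent.Lib.Spor.FiTwo.FormA

/-!
The Hermitian model: a commuting pair beside the two central involutions with one split member.
-/

set_option autoImplicit false
set_option maxRecDepth 100000
set_option linter.unusedSectionVars false

namespace Cfsg.Agent.Spor.FiTwo

open Cfsg.Agent.Spor.CHZ Cfsg.Agent.Spor.SpFour Cfsg.Agent.Small.Unitary

universe w

/-- the Hermitian space as the module -/
structure ModelA {G : Type w} [Group G] {z z1 : G} (D : Data z z1 V) where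
  π : G → Equiv.Perm V
  π_act : ∀ c, D.In0 c → ∀ x, D.act c x = π c x
  π_semi : ∀ c, D.In0 c → Semi (π c)
  surj : ∀ g : L, ∃ c, D.In0 c ∧ ∀ x, π c x = sp g x
  sq_iff : ∀ n ∈ D.Q, (n * n = 1 ↔ herm (D.ν n) (D.ν n) = 0)
  B_iff : ∀ x y : V, D.b x y = 0 ↔ B x y = 0

theorem pick_sq' : ∀ l : F4, l ≠ 0 → ∀ a : F4, a ≠ 0 → (star a * l = a ↔ a = l * l) := by decide +kernel

namespace ModelA

variable {G : Type w} [Group G] {z z1 : G} {D : Data z z1 V} (A : ModelA D)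
include A

theorem π_mul {c d : G} (hc : D.In0 c) (hd : D.In0 d) : A.π (c * d) = A.π c * A.π d :=
  Equiv.ext fun x => by
    rw [Equiv.Perm.mul_apply, ← A.π_act _ (hc.mul D hd), ← A.π_act c hc, ← A.π_act d hd, D.act_mul hc hd]

theorem π_one : A.π 1 = 1 :=
  Equiv.ext fun x => by rw [← A.π_act 1 (D.in0_Q D.Q.one_mem), D.act_one]; rfl

theorem π_eq_one {c : G} (hc : D.In0 c) : A.π c = 1 ↔ c ∈ D.Q := by
  constructor
  · exact fun h => D.faithful c hc.1 hc.2 fun m => by rw [A.π_act c hc, h]; rfl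
  · exact fun h => Equiv.ext fun x => by rw [← A.π_act c hc, D.act_Q h]; rfl

theorem π_invol {c : G} (hc : D.In0 c) (hc2 : c * c = 1) : A.π c * A.π c = 1 := by
  rw [← A.π_mul hc hc, hc2, A.π_one]

theorem π_pow {c : G} (hc : D.In0 c) (n : ℕ) : D.In0 (c ^ n) ∧ A.π (c ^ n) = A.π c ^ n := by
  induction n with
  | zero => exact ⟨by rw [pow_zero]; exact D.in0_Q D.Q.one_mem, by rw [pow_zero, pow_zero, A.π_one]⟩
  | succ n ih => exact ⟨by rw [pow_succ]; exact ih.1.mul D hc, by rw [pow_succ, pow_succ, A.π_mul ih.1 hc, ih.2]⟩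

theorem π_fixed {c n : G} (hc : D.In0 c) : A.π c (D.ν n) = D.ν n ↔ D.act c (D.ν n) = D.ν n := by
  rw [A.π_act c hc]

/-- a lift of an element of order three -/
theorem lift_L {g : L} (hg : g * g * g = 1) :
    ∃ c, D.In0 c ∧ c * c * c ∈ D.Q ∧ ∀ x, D.act c x = sp g x := by
  obtain ⟨c, hc, hcg⟩ := A.surj g
  refine ⟨c, hc, (A.π_eq_one ((hc.mul D hc).mul D hc)).mp ?_, fun x => by rw [A.π_act c hc, hcg]⟩
  rw [A.π_mul (hc.mul D hc) hc, A.π_mul hc hc, show A.π c = sp g from Equiv.ext hcg, ← map_mul, ← map_mul, hg,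
    map_one]

theorem range_mem {c : G} (hc : D.In0 c) {x : V} :
    x ∈ (Set.range fun m => A.π c m + m) ↔ ∃ m, x = m + D.act c m := by
  constructor
  · rintro ⟨m, rfl⟩
    exact ⟨m, by rw [A.π_act c hc, add_comm]⟩
  · rintro ⟨m, rfl⟩
    exact ⟨m, by show A.π c m + m = _; rw [A.π_act c hc, add_comm]⟩

/-- commutator vectors are singular when everything fixed is centralised -/
theorem range_singular {c : G} (hc : D.In0 c) (hc2 : c * c = 1)
    (hfull : ∀ n ∈ D.Q, D.act c (D.ν n) = D.ν n → Commute n c) (m : V) :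
    herm (A.π c m + m) (A.π c m + m) = 0 := by
  obtain ⟨n, hn, e⟩ := D.ν_surj (m + D.act c m)
  rw [← A.π_act c hc, add_comm, ← e, ← A.sq_iff n hn]
  exact (D.range_fix hc hc2 hn e).mp (hfull n hn (D.fixed_of_range hc hc2 e)).symm

/-- an element of order three moving a commutator vector -/
theorem movable {c : G} (hc : D.In0 c) (hc2 : c * c = 1) (hcQ : c ∉ D.Q)
    (hfull : ∀ n ∈ D.Q, D.act c (D.ν n) = D.ν n → Commute n c) {x : V} (hx0 : x ≠ 0)
    (hx : ∃ m, x = m + D.act c m) :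
    ∃ g, D.In0 g ∧ g * g * g ∈ D.Q ∧ (∀ m, D.act g (D.act c m) = D.act c (D.act g m)) ∧ D.act g x ≠ x := by
  obtain ⟨m, hm⟩ := hx
  obtain ⟨g, hg3, hgc, hgx⟩ := exists_mover (A.π_semi c hc) (A.π_invol hc hc2)
    (fun e => hcQ ((A.π_eq_one hc).mp e)) (A.range_singular hc hc2 hfull) hx0
    ⟨m, by rw [hm, A.π_act c hc, add_comm]⟩
  obtain ⟨d, hd, hd3, hdg⟩ := A.lift_L hg3
  exact ⟨d, hd, hd3, fun p => by rw [hdg, hdg, A.π_act c hc, A.π_act c hc, hgc], fun e => hgx (hdg x ▸ e)⟩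

/-- fixed members are moved at most along the first involution -/
theorem fz_all {c : G} (hc : D.In0 c) (hc2 : c * c = 1) (hcQ : c ∉ D.Q) {n : G} (hn : n ∈ D.Q)
    (hfix : D.act c (D.ν n) = D.ν n) : D.Fz c n := by
  have hf : A.π c (D.ν n) = D.ν n := (A.π_fixed hc).mpr hfix
  rcases semi_types (A.π_semi c hc) (A.π_invol hc hc2) (fun e => hcQ ((A.π_eq_one hc).mp e)) with
    ⟨-, -, hr⟩ | ⟨u, hu0, huu, hfu⟩ | ⟨-, -, hr⟩
  · obtain ⟨m, hm⟩ := (A.range_mem hc).mp (hr ▸ hf : D.ν n ∈ Set.range fun m => A.π c m + m)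
    exact D.fz_range hc hc2 hn hm
  swap
  · obtain ⟨m, hm⟩ := (A.range_mem hc).mp (hr ▸ hf : D.ν n ∈ Set.range fun m => A.π c m + m)
    exact D.fz_range hc hc2 hn hm
  obtain ⟨g, hg3, hgu, hgh, hfree⟩ := tv_rot hu0 huu
  obtain ⟨d, hd, -, hdg⟩ := A.lift_L hg3
  let Φ : {y : V // herm u y = 0} → {y : V // herm u y = 0} := fun y => ⟨sp g y.1 + y.1, by
    rw [herm_add_right, hgh, y.2, mul_zero, add_zero]⟩
  have hinj : Function.Injective Φ := fun p q e => by
    have e' : sp g p.1 + p.1 = sp g q.1 + q.1 := congrArg Subtype.val e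
    refine Subtype.ext (add_cancel' (hfree _ ?_))
    rw [(sp_lin g).add]
    exact CHZ.swap_sum e'
  obtain ⟨⟨y, hy⟩, hy'⟩ := Finite.injective_iff_surjective.mp hinj ⟨D.ν n, (tv_fix hu0 hfu).mp hf⟩
  obtain ⟨p, hp, rfl⟩ := D.ν_surj y
  have hy'' : sp g (D.ν p) + D.ν p = D.ν n := congrArg Subtype.val hy'
  have hpf : D.act c (D.ν p) = D.ν p := (A.π_fixed hc).mp ((tv_fix hu0 hfu).mpr hy)
  have hmv := D.fz_move hc hd hp hpf fun m => by
    rw [hdg, hdg, A.π_act c hc, A.π_act c hc, hfu, hfu, (sp_lin g).add, (sp_lin g).smul, hgu, hgh, smul_smul,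
      mul_comm]
  have hQ : d * p * d⁻¹ * p⁻¹ ∈ D.Q := D.Q.mul_mem (D.normal d hd.1 p hp) (D.Q.inv_mem hp)
  refine D.fz_congr hc hQ hn ?_ hmv
  rw [(D.ν_comm_elem hd hp).2, hdg, add_comm, hy'']

/-- the member of the second kind never lies in the subgroup beside a member of the first -/
theorem stepY {y v : G} (hy : y ∈ D.Q) (hy2 : y * y = 1) (hy0 : D.ν y ≠ 0) (hv : D.In0 v) (hv2 : v * v = 1)
    (hvQ : v ∉ D.Q) (hsp : Split y v)
    (hsw : ∀ n ∈ D.Q, Commute n y → n * v * n⁻¹ = v ∨ n * v * n⁻¹ = v * y) : False := by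
  obtain ⟨hfull, hx, -⟩ := D.stepY_setting hy hy2 hy0 hv hv2 hvQ hsw
  obtain ⟨g, hg, hg3, hgv, hgx⟩ := A.movable hv hv2 hvQ hfull hy0 hx
  obtain ⟨c, hc, -, hcy, hact⟩ := D.split_lift (D.in0_Q hy) hv hy2 hv2 hsp hfull hg hg3 hgv fun m => by
    rw [D.act_Q hy, D.act_Q hy]
  exact hgx (by rw [← hact]; exact D.fixed_of_comm hc hy hcy)

/-- the vectors of the members centralising an element -/
def cs (_A : ModelA D) (y : G) : Set V := D.ν '' {n | n ∈ D.Q ∧ Commute n y}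

theorem cs_fix {y : G} (hy : D.In0 y) : A.cs y ⊆ fixS (A.π y) := by
  rintro _ ⟨n, ⟨hn, hc⟩, rfl⟩
  exact (A.π_fixed hy).mpr (D.fixed_of_comm hy hn hc.symm)

theorem cs_tv {c : G} (hc : D.In0 c) (hc2 : c * c = 1) (hcQ : c ∉ D.Q) {u : V} (hu0 : u ≠ 0)
    (huu : herm u u = 0) (hf : ∀ x, A.π c x = x + herm u x • u) : 32 ≤ (A.cs c).ncard := by
  classical
  have h64 : 64 ≤ (fixS (A.π c)).ncard := by
    have h := card_kernel_image (A.π_semi c hc)
    have hle : (Set.range fun x => A.π c x + x).ncard ≤ 4 := by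
      have hsub : (Set.range fun x => A.π c x + x) ⊆ Set.range fun a : F4 => a • u := by
        rintro _ ⟨x, rfl⟩
        exact ⟨herm u x, by show _ = A.π c x + x; rw [hf, add_comm x, add_assoc, CHZ.add_self, add_zero]⟩
      refine (Set.ncard_le_ncard hsub).trans ?_
      rw [← Set.image_univ]
      refine (Set.ncard_image_le (Set.toFinite _)).trans ?_
      rw [Set.ncard_univ, Nat.card_eq_fintype_card, F4.card]
    nlinarith
  by_cases hall : ∀ n ∈ D.Q, A.π c (D.ν n) = D.ν n → Commute n c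
  · have hsub : fixS (A.π c) ⊆ A.cs c := fun x hx => by
      obtain ⟨n, hn, rfl⟩ := D.ν_surj x
      exact ⟨n, ⟨hn, hall n hn hx⟩, rfl⟩
    have := Set.ncard_le_ncard hsub
    omega
  push Not at hall
  obtain ⟨p, hp, hpf, hpc⟩ := hall
  have hmoved : ∀ {n}, n ∈ D.Q → A.π c (D.ν n) = D.ν n → ¬ Commute n c → c * n * c⁻¹ = n * z :=
    fun hn hf hnc => (A.fz_all hc hc2 hcQ hn ((A.π_fixed hc).mp hf)).resolve_left
      fun e => hnc (mul_inv_eq_iff_eq_mul.mp e).symm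
  have hsub : fixS (A.π c) ⊆ A.cs c ∪ (· + D.ν p) '' A.cs c := fun x hx => by
    obtain ⟨n, hn, rfl⟩ := D.ν_surj x
    by_cases hnc : Commute n c
    · exact Or.inl ⟨n, ⟨hn, hnc⟩, rfl⟩
    refine Or.inr ⟨D.ν (n * p), ⟨n * p, ⟨D.Q.mul_mem hn hp, ?_⟩, rfl⟩, ?_⟩
    · refine (mul_inv_eq_iff_eq_mul.mp ?_).symm
      rw [show c * (n * p) * c⁻¹ = c * n * c⁻¹ * (c * p * c⁻¹) by group, hmoved hn hx hnc, hmoved hp hpf hpc,
        mul_assoc n z, ← mul_assoc z, (D.cent p hp).symm.eq, mul_assoc p, D.z2, mul_one]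
    · show D.ν (n * p) + D.ν p = D.ν n
      rw [D.ν_mul n hn p hp, add_assoc, D.self_add, add_zero]
  have := (Set.ncard_le_ncard hsub).trans (Set.ncard_union_le _ _)
  rw [Set.ncard_image_of_injective _ (add_left_injective _)] at this
  omega

theorem full_of_lin {c : G} (hc : D.In0 c) (hc2 : c * c = 1) (hl : Lin (A.π c))
    (hr : (Set.range fun x => A.π c x + x) = fixS (A.π c)) :
    ∀ n ∈ D.Q, D.act c (D.ν n) = D.ν n → Commute n c := fun n hn hfix => by
  have hf : A.π c (D.ν n) = D.ν n := (A.π_fixed hc).mpr hfix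
  obtain ⟨m, hm⟩ : D.ν n ∈ Set.range fun m => A.π c m + m := hr ▸ hf
  obtain ⟨m', hm'⟩ := (A.range_mem hc).mp ⟨m, hm⟩
  refine ((D.range_fix hc hc2 hn hm').mpr ((A.sq_iff n hn).mpr ?_)).symm
  have h := hl.herm_image_fix hf m
  rwa [show A.π c m + m = D.ν n from hm] at h

theorem anti_cs {c : G} (hc : D.In0 c) (hc2 : c * c = 1)
    (hr : (Set.range fun x => A.π c x + x) = fixS (A.π c)) :
    A.cs c = {x | A.π c x = x ∧ herm x x = 0} := by
  ext x
  obtain ⟨n, hn, rfl⟩ := D.ν_surj x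
  constructor
  · intro hx
    have hf : A.π c (D.ν n) = D.ν n := A.cs_fix hc hx
    obtain ⟨m, hm⟩ := (A.range_mem hc).mp (hr ▸ hf : D.ν n ∈ Set.range fun m => A.π c m + m)
    obtain ⟨p, ⟨hp, hpc⟩, hpν⟩ := hx
    rw [← hpν] at hf hm ⊢
    exact ⟨hf, (A.sq_iff p hp).mp ((D.range_fix hc hc2 hp hm).mp hpc.symm)⟩
  · rintro ⟨hf, hq⟩
    obtain ⟨m, hm⟩ := (A.range_mem hc).mp (hr ▸ hf : D.ν n ∈ Set.range fun m => A.π c m + m)
    exact ⟨n, ⟨hn, ((D.range_fix hc hc2 hn hm).mpr ((A.sq_iff n hn).mpr hq)).symm⟩, rfl⟩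

/-- no commuting pair outside the subgroup -/
theorem outside {y v : G} (hy : D.In0 y) (hv : D.In0 v) (hy2 : y * y = 1) (hv2 : v * v = 1)
    (hyv : Commute y v) (hyQ : y ∉ D.Q) (hvQ : v ∉ D.Q) (hwQ : v * y ∉ D.Q) (hsp : Split y (v * y))
    (hC : ∀ n ∈ D.Q, Commute n y → Commute n v) : False := by
  classical
  obtain ⟨w, hw⟩ : ∃ w, w = v * y := ⟨_, rfl⟩
  rw [← hw] at hsp hwQ
  have hw0 : D.In0 w := hw ▸ hv.mul D hy
  have hw2 : w * w = 1 := by
    rw [hw, show v * y * (v * y) = v * (y * v) * y by group, hyv.eq, ← mul_assoc, hv2, one_mul, hy2]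
  have hvw : v = w * y := by rw [hw, mul_assoc, hy2, mul_one]
  have hcs : A.cs w = A.cs y := Set.ext fun x => ⟨
    fun ⟨n, ⟨hn, hc⟩, e⟩ => ⟨n, ⟨hn, D.comm_of_split hy.1 hy2 hsp hn hc⟩, e⟩,
    fun ⟨n, ⟨hn, hc⟩, e⟩ => ⟨n, ⟨hn, hw ▸ (hC n hn hc).mul_right hc⟩, e⟩⟩
  obtain ⟨a, ha⟩ : ∃ a, a = A.π w := ⟨_, rfl⟩
  obtain ⟨b, hb⟩ : ∃ b, b = A.π y := ⟨_, rfl⟩
  obtain ⟨e, he⟩ : ∃ e, e = A.π v := ⟨_, rfl⟩
  have has : Semi a := ha ▸ A.π_semi w hw0
  have hbs : Semi b := hb ▸ A.π_semi y hy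
  have ha2 : a * a = 1 := ha ▸ A.π_invol hw0 hw2
  have hb2 : b * b = 1 := hb ▸ A.π_invol hy hy2
  have he2 : e * e = 1 := he ▸ A.π_invol hv hv2
  have ha1 : a ≠ 1 := fun h => hwQ ((A.π_eq_one hw0).mp (ha ▸ h))
  have hb1 : b ≠ 1 := fun h => hyQ ((A.π_eq_one hy).mp (hb ▸ h))
  have he1 : e ≠ 1 := fun h => hvQ ((A.π_eq_one hv).mp (he ▸ h))
  have hab : e = a * b := by rw [he, ha, hb, hvw, A.π_mul hw0 hy]
  have hne : a ≠ b := fun h => he1 (by rw [hab, h, hb2])
  have hSa : A.cs y ⊆ fixS a := hcs ▸ ha ▸ A.cs_fix hw0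
  have hSb : A.cs y ⊆ fixS b := hb ▸ A.cs_fix hy
  rcases semi_types has ha2 ha1 with ⟨hal, ha16, har⟩ | ⟨u, hu0, huu, hau⟩ | ⟨haa, ha16, har⟩
  swap
  · exact hne (tv_unique hu0 hau hbs hb2 hb1 hSa hSb (hcs ▸ A.cs_tv hw0 hw2 hwQ hu0 huu (ha ▸ hau))).symm
  all_goals rcases semi_types hbs hb2 hb1 with ⟨hbl, hb16, hbr⟩ | ⟨u, hu0, huu, hbu⟩ | ⟨hba, hb16, hbr⟩
  any_goals exact hne (tv_unique hu0 hbu has ha2 ha1 hSb hSa (A.cs_tv hy hy2 hyQ hu0 huu (hb ▸ hbu)))
  -- two of the first kind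
  · have hfull := A.full_of_lin hw0 hw2 (ha ▸ hal) (ha ▸ har)
    have hsub : fixS a ⊆ fixS b := fun x hx => by
      obtain ⟨n, hn, rfl⟩ := D.ν_surj x
      exact hSb (hcs ▸ ⟨n, ⟨hn, hfull n hn ((A.π_fixed hw0).mp (ha ▸ hx))⟩, rfl⟩)
    have heq : fixS a = fixS b := Set.eq_of_subset_of_ncard_le hsub (by omega) (Set.toFinite _)
    obtain ⟨h, hh⟩ := exists_frame hal ha2 ha16
    obtain ⟨g, hg⟩ : ∃ g, g = h * rotL * h⁻¹ := ⟨_, rfl⟩
    have hga : ∀ y, sp g (a y) = a (sp g y) := fun y => by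
      obtain ⟨y, rfl⟩ := (sp h).surjective y
      rw [hg, hh, conj_apply, conj_apply, hh, rot_comm]
    obtain ⟨d, hd, hd3, hdg⟩ := A.lift_L (hg ▸ conj_cube h : g * g * g = 1)
    obtain ⟨c, hc, hcw, hact⟩ := D.lift_three hw0 hw2 hfull hd hd3 fun m => by
      rw [hdg, hdg, A.π_act w hw0, A.π_act w hw0, ← ha, hga]
    have hπc : A.π c = sp g := Equiv.ext fun x => by rw [← A.π_act c hc, hact, hdg]
    have hπci : A.π c⁻¹ = (sp g)⁻¹ := eq_inv_of_mul_eq_one_left (by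
      rw [← hπc, ← A.π_mul (hc.inv D) hc, inv_mul_cancel, A.π_one])
    obtain ⟨u, hu⟩ : ∃ u, u = c * y * c⁻¹ * y := ⟨_, rfl⟩
    have hu0 : D.In0 u := hu ▸ ((hc.mul D hy).mul D (hc.inv D)).mul D hy
    have hπu : A.π u = sp g * b * (sp g)⁻¹ * b := by
      rw [hu, A.π_mul ((hc.mul D hy).mul D (hc.inv D)) hy, A.π_mul (hc.mul D hy) (hc.inv D), A.π_mul hc hy,
        hπc, hπci, ← hb]
    have hfixu : ∀ x, a x = x → A.π u x = x := fun x hx => by
      have hbx : b x = x := heq.subset hx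
      have hgx : a ((sp g)⁻¹ x) = (sp g)⁻¹ x := (sp g).injective (by
        rw [hga, Equiv.Perm.inv_def, Equiv.apply_symm_apply, hx])
      rw [hπu, Equiv.Perm.mul_apply, hbx, Equiv.Perm.mul_apply, Equiv.Perm.mul_apply,
        show b ((sp g)⁻¹ x) = (sp g)⁻¹ x from heq.subset hgx, Equiv.Perm.inv_def, Equiv.apply_symm_apply]
    have hu2 : A.π u * A.π u = 1 := fix_range_sq hal ha2 har
      (hπu ▸ (((sp_lin g).mul hbl).mul (sp_lin g).inv).mul hbl) hfixu
    obtain ⟨k, hk⟩ := hsp c hcw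
    have hu1 : A.π u = 1 := by
      have h := (A.π_pow hu0 (2 * k + 1)).2
      rw [← hu] at hk
      rw [← hk, pow_orderOf_eq_one, A.π_one, hk, pow_succ, pow_mul, pow_two, hu2, one_pow, one_mul] at h
      exact h.symm
    have hcomm : ∀ x, b (sp g x) = sp g (b x) := fun x => by
      have e := congrArg (fun f : Equiv.Perm V => f (b (sp g x))) (hπu.symm.trans hu1)
      simp only [Equiv.Perm.mul_apply, Equiv.Perm.one_apply] at e
      rw [← Equiv.Perm.mul_apply b b, hb2, Equiv.Perm.one_apply, Equiv.Perm.inv_def, Equiv.symm_apply_apply] at e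
      exact e.symm
    have happ : ∀ x, ((sp h)⁻¹ * b * sp h) x = tau0 x := by
      refine rot_only ((((sp_lin h).inv).mul hbl).mul (sp_lin h)) ?_ (fun x => ?_) (fun x => ?_)
      · rw [show (sp h)⁻¹ * b * sp h * ((sp h)⁻¹ * b * sp h) = (sp h)⁻¹ * (b * b) * sp h by group, hb2]
        group
      · rw [Equiv.Perm.mul_apply, Equiv.Perm.mul_apply, Equiv.Perm.inv_eq_iff_eq,
          show b (sp h x) = sp h x ↔ a (sp h x) = sp h x from Iff.symm (Set.ext_iff.mp heq _), hh]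
        exact (sp h).injective.eq_iff
      · rw [Equiv.Perm.mul_apply, Equiv.Perm.mul_apply, Equiv.Perm.mul_apply, Equiv.Perm.mul_apply]
        refine (sp h).injective ?_
        rw [← conj_apply, ← conj_apply, ← hg, hcomm, Equiv.Perm.inv_def, Equiv.apply_symm_apply, Equiv.apply_symm_apply]
    refine hne (Equiv.ext fun x => ?_)
    obtain ⟨x, rfl⟩ := (sp h).surjective x
    have e := happ x
    rw [Equiv.Perm.mul_apply, Equiv.Perm.mul_apply, Equiv.Perm.inv_eq_iff_eq] at e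
    rw [hh, e]
  -- one of each
  · have hfull := A.full_of_lin hw0 hw2 (ha ▸ hal) (ha ▸ har)
    obtain ⟨x, hx, hx0⟩ : ∃ x ∈ fixS a, x ≠ 0 := Set.exists_ne_of_one_lt_ncard (by omega) 0
    have hmem : ∀ {x}, a x = x → b x = x := fun {x} hx => by
      obtain ⟨n, hn, rfl⟩ := D.ν_surj x
      exact hSb (hcs ▸ ⟨n, ⟨hn, hfull n hn ((A.π_fixed hw0).mp (ha ▸ hx))⟩, rfl⟩)
    exact anti_no_line hba hx0 (hmem hx) (hmem (by rw [hal.smul, hx]))
  · have hfull := A.full_of_lin hy hy2 (hb ▸ hbl) (hb ▸ hbr)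
    obtain ⟨x, hx, hx0⟩ : ∃ x ∈ fixS b, x ≠ 0 := Set.exists_ne_of_one_lt_ncard (by omega) 0
    have hmem : ∀ {x}, b x = x → a x = x := fun {x} hx => by
      obtain ⟨n, hn, rfl⟩ := D.ν_surj x
      exact hSa ⟨n, ⟨hn, hfull n hn ((A.π_fixed hy).mp (hb ▸ hx))⟩, rfl⟩
    exact anti_no_line haa hx0 (hmem hx) (hmem (by rw [hbl.smul, hx]))
  -- two antilinear
  · have hSe : ∀ {x}, a x = x → herm x x = 0 → b x = x ∧ e x = x := fun {x} hx hq => by
      have hm : x ∈ A.cs w := by rw [A.anti_cs hw0 hw2 (ha ▸ har)]; exact ⟨ha ▸ hx, hq⟩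
      have hbx : b x = x := hSb (hcs ▸ hm)
      exact ⟨hbx, by rw [hab, Equiv.Perm.mul_apply, hbx, hx]⟩
    have hSab : ∀ {x}, b x = x → herm x x = 0 → a x = x := fun {x} hx hq => by
      have hm : x ∈ A.cs y := by rw [A.anti_cs hy hy2 (hb ▸ hbr)]; exact ⟨hb ▸ hx, hq⟩
      exact hSa hm
    have hel : Lin e := hab ▸ haa.mul hba
    have hspan := haa.span ha16
    by_cases hsing : ∀ x, a x = x → herm x x = 0
    · refine he1 (Equiv.ext fun x => ?_)
      obtain ⟨p, r, hp, hr, rfl⟩ := hspan x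
      rw [hel.add, hel.smul, (hSe hp (hsing p hp)).2, (hSe hr (hsing r hr)).2]
      rfl
    push Not at hsing
    obtain ⟨x1, hx1, hx1q⟩ := hsing
    obtain ⟨S0, hS0⟩ : ∃ S0, S0 = {x | a x = x ∧ herm x x = 0} := ⟨_, rfl⟩
    have h8 : 8 ≤ S0.ncard := by
      have hsub : fixS a ⊆ S0 ∪ (· + x1) '' S0 := fun x hx => by
        rcases q_cases x with hq | hq
        · exact Or.inl (hS0 ▸ ⟨hx, hq⟩)
        refine Or.inr ⟨x + x1, hS0 ▸ ⟨by rw [haa.add, show a x = x from hx, hx1], ?_⟩, ?_⟩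
        · rw [q_add, hq, (q_cases x1).resolve_left hx1q, B_eq]
          rcases anti_real haa hx hx1 with h | h <;> rw [h] <;> decide +kernel
        · show x + x1 + x1 = x
          rw [add_assoc, CHZ.add_self, add_zero]
      have := (Set.ncard_le_ncard hsub).trans (Set.ncard_union_le _ _)
      rw [Set.ncard_image_of_injective _ (add_left_injective _)] at this
      omega
    rcases semi_types (Or.inl hel) he2 he1 with ⟨-, h16, -⟩ | ⟨u0, hu00, huu0, heu0⟩ | ⟨hea, -, -⟩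
    · have hinj : Function.Injective fun p : ↥S0 × ↥S0 => (⟨(p.1 : V) + F4.w • (p.2 : V), by
          show e _ = _
          rw [hel.add, hel.smul, (hSe (hS0.subset p.1.2).1 (hS0.subset p.1.2).2).2,
            (hSe (hS0.subset p.2.2).1 (hS0.subset p.2.2).2).2]⟩ : ↥(fixS e)) := by
        rintro ⟨⟨p, hp⟩, ⟨r, hr⟩⟩ ⟨⟨p', hp'⟩, ⟨r', hr'⟩⟩ e'
        have e2 := CHZ.swap_sum (congrArg Subtype.val e' : p + F4.w • r = p' + F4.w • r')
        rw [← smul_add] at e2
        rw [hS0] at hp hr hp' hr'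
        have hrr : r + r' = 0 := by
          by_contra h0
          exact anti_no_line haa h0 (by rw [haa.add, hr.1, hr'.1]) (by rw [← e2, haa.add, hp.1, hp'.1])
        rw [hrr, smul_zero] at e2
        exact Prod.ext (Subtype.ext (add_cancel' e2)) (Subtype.ext (add_cancel' hrr))
      have h := Nat.card_le_card_of_injective _ hinj
      rw [Nat.card_prod, Nat.card_coe_set_eq, Nat.card_coe_set_eq, h16] at h
      nlinarith
    swap
    · exact hea.not_lin hel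
    have hcom : a * e = e * a := by
      rw [hab, ← mul_assoc, ha2, one_mul]
      have e2 : b * a = a * b := by
        calc b * a = b⁻¹ * a⁻¹ := by rw [inv_eq_of_mul_eq_one_right hb2, inv_eq_of_mul_eq_one_right ha2]
          _ = (a * b)⁻¹ := (mul_inv_rev _ _).symm
          _ = a * b := inv_eq_of_mul_eq_one_right (hab ▸ he2)
      rw [mul_assoc, e2, ← mul_assoc, ha2, one_mul]
    obtain ⟨t, ht⟩ := exists_herm_val hu00 1
    have hau : a u0 = herm u0 (a t) • u0 := by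
      have h := congrArg (fun f : Equiv.Perm V => f t) hcom
      simp only [Equiv.Perm.mul_apply] at h
      rw [heu0, heu0, haa.add, ht, one_smul] at h
      exact add_left_cancel h
    obtain ⟨l, hl⟩ : ∃ l, l = herm u0 (a t) := ⟨_, rfl⟩
    rw [← hl] at hau
    have hl0 : l ≠ 0 := fun h0 => hu00 (a.injective (by rw [hau, h0, zero_smul, Semi.zero (Or.inr haa)]))
    obtain ⟨u, hu⟩ : ∃ u, u = (l * l) • u0 := ⟨_, rfl⟩
    have hu0 : u ≠ 0 := hu ▸ smul_ne_zero (mul_ne_zero hl0 hl0) hu00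
    have hua : a u = u := by
      rw [hu, haa.smul, hau, smul_smul, (pick_sq' l hl0 (l * l) (mul_ne_zero hl0 hl0)).mpr rfl]
    have huu : herm u u = 0 := by rw [hu, q_smul _ (mul_ne_zero hl0 hl0), huu0]
    have heu : ∀ x, e x = x + herm u x • u := fun x => by
      rw [heu0, hu, herm_smul_left, smul_smul]
      congr 2
      have key : ∀ c a : F4, c ≠ 0 → a = star c * a * c := by decide +kernel
      exact key _ _ (mul_ne_zero hl0 hl0)
    obtain ⟨x, hxa, hux⟩ : ∃ x, a x = x ∧ herm u x = 1 := by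
      obtain ⟨m, hm⟩ := exists_herm_ne hu0
      obtain ⟨p, r, hp, hr, rfl⟩ := hspan m
      rw [herm_add_right, herm_smul_right] at hm
      by_cases h : herm u p = 0
      · rw [h, zero_add] at hm
        exact ⟨r, hr, (anti_real haa hua hr).resolve_left (right_ne_zero_of_mul hm)⟩
      · exact ⟨p, hp, (anti_real haa hua hp).resolve_left h⟩
    have hxq : herm x x = 1 := (q_cases x).resolve_left fun hq => by
      have h := (hSe hxa hq).2
      rw [tv_fix hu0 heu, hux] at h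
      exact one_ne_zero h
    obtain ⟨f, hf⟩ : ∃ f, f = x + F4.w • u := ⟨_, rfl⟩
    have hb' : b = a * e := by rw [hab, ← mul_assoc, ha2, one_mul]
    have huf : herm u f = 1 := by rw [hf, herm_add_right, herm_smul_right, huu, mul_zero, add_zero, hux]
    have hbf : b f = f := by
      rw [hb', Equiv.Perm.mul_apply, heu, huf, one_smul, hf, haa.add, haa.add, haa.smul, hxa, hua, add_assoc]
      congr 1
      nth_rewrite 2 [← one_smul F4 u]
      rw [← add_smul, show star F4.w + 1 = F4.w by decide +kernel]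
    have hfq : herm f f = 0 := by
      rw [hf, q_add, hxq, q_smul _ (by decide +kernel), huu, B_eq, herm_smul_right, ← star_herm, hux]
      decide +kernel
    have hfa := hSab hbf hfq
    rw [hf, haa.add, hxa, add_right_inj] at hfa
    exact anti_no_line haa hu0 hua hfa

/-- a member inside the subgroup -/
theorem inside {y v : G} (hy : D.In0 y) (hv : v ∈ D.Q) (hv0 : D.ν v ≠ 0) (hy2 : y * y = 1) (hv2 : v * v = 1)
    (hyv : Commute y v) (hyQ : y ∉ D.Q) (hsp : Split y (v * y)) (hC : ∀ n ∈ D.Q, Commute n y → Commute n v)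
    (hno : ∀ m, Commute m v → m * y * m⁻¹ ≠ v * y ∧ m * y * m⁻¹ ≠ v * y * z1) : False := by
  classical
  obtain ⟨w, hw⟩ : ∃ w, w = v * y := ⟨_, rfl⟩
  rw [← hw] at hsp
  have hv0' : D.In0 v := D.in0_Q hv
  have hw0 : D.In0 w := hw ▸ hv0'.mul D hy
  have hw2 : w * w = 1 := by
    rw [hw, show v * y * (v * y) = v * (y * v) * y by group, hyv.eq, ← mul_assoc, hv2, one_mul, hy2]
  have hwQ : w ∉ D.Q := fun h => hyQ (by
    rw [show y = v⁻¹ * w by rw [hw]; group]; exact D.Q.mul_mem (D.Q.inv_mem hv) h)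
  have hvw : v = w * y := by rw [hw, mul_assoc, hy2, mul_one]
  have hact : ∀ m, D.act w m = D.act y m := fun m => by rw [hw, D.act_mul hv0' hy, D.act_Q hv]
  have hcy : ∀ {n}, n ∈ D.Q → Commute n y → Commute n w := fun hn hc => hw ▸ (hC _ hn hc).mul_right hc
  have hcw : ∀ {n}, n ∈ D.Q → Commute n w → Commute n y := fun hn hc => D.comm_of_split hy.1 hy2 hsp hn hc
  have hfixv : ∀ {n}, n ∈ D.Q → D.act y (D.ν n) = D.ν n → Commute n v := by
    intro n hn hfix
    by_cases hny : Commute n y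
    · exact hC n hn hny
    have e1 := (A.fz_all hy hy2 hyQ hn hfix).resolve_left fun e => hny (mul_inv_eq_iff_eq_mul.mp e).symm
    have e2 := (A.fz_all hw0 hw2 hwQ hn (by rw [hact, hfix])).resolve_left
      fun e => hny (hcw hn (mul_inv_eq_iff_eq_mul.mp e).symm)
    refine (mul_inv_eq_iff_eq_mul.mp ?_).symm
    rw [hvw, show w * y * n * (w * y)⁻¹ = w * (y * n * y⁻¹) * w⁻¹ by group, e1,
      show w * (n * z) * w⁻¹ = w * n * w⁻¹ * (w * z * w⁻¹) by group, e2, hw0.1.eq, mul_inv_cancel_right, mul_assoc,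
      D.z2, mul_one]
  obtain ⟨m0, hx⟩ := D.perp_range hy hv fun n hn hfix => (hfixv hn hfix).symm
  obtain ⟨m, hm, rfl⟩ := D.ν_surj m0
  obtain ⟨hkQ, hkν⟩ := D.ν_comm_elem hy hm
  obtain ⟨ζ, hζ, hζ0, hvk⟩ := D.ν_eq hv hkQ (hx.trans hkν.symm)
  obtain ⟨k, hk⟩ : ∃ k, k = y * m * y⁻¹ * m⁻¹ := ⟨_, rfl⟩
  rw [← hk] at hkQ hvk
  have hζc : Commute k ζ := D.kernel_comm hζ hζ0 (D.in0_Q hkQ)
  have hζζ := D.kernel_sq hζ hζ0
  have hkv : k = v * ζ := by rw [hvk, mul_assoc, hζζ, mul_one]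
  have hk2 : k * k = 1 := by
    rw [hkv, show v * ζ * (v * ζ) = v * (ζ * v) * ζ by group, ← (D.kernel_comm hζ hζ0 hv0').eq, ← mul_assoc, hv2,
      one_mul, hζζ]
  have hkm : Commute m k := by
    have e1 : k * m * (k * m) = m * m := by
      rw [show k * m = y * m * y⁻¹ by rw [hk]; group,
        show y * m * y⁻¹ * (y * m * y⁻¹) = y * (m * m) * y⁻¹ by group, D.sq_conj hy.1 hm]
    have e2 : k * m * k = m := by
      calc k * m * k = k * m * (k * m) * m⁻¹ := by group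
        _ = m := by rw [e1, mul_assoc, mul_inv_cancel, mul_one]
    show m * k = k * m
    calc m * k = k * k * m * k := by rw [hk2, one_mul]
      _ = k * (k * m * k) := by group
      _ = k * m := by rw [e2]
  have hmv : Commute m v := hvk ▸ hkm.mul_right (D.kernel_comm hζ hζ0 (D.in0_Q hm))
  have hym : m * y * m⁻¹ = v * y * ζ := by
    calc m * y * m⁻¹ = y * k := by rw [hk, inv_eq_of_mul_eq_one_right hy2, ← mul_assoc, ← mul_assoc, ← mul_assoc, hy2, one_mul]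
      _ = v * y * ζ := by rw [hkv, ← mul_assoc, hyv.eq]
  by_cases hfull : ∀ n ∈ D.Q, D.act y (D.ν n) = D.ν n → Commute n y
  · have hfullw : ∀ n ∈ D.Q, D.act w (D.ν n) = D.ν n → Commute n w := fun n hn h =>
      hcy hn (hfull n hn (by rw [← hact]; exact h))
    obtain ⟨g, hg, hg3, hgw, hgx⟩ := A.movable hw0 hw2 hwQ hfullw hv0 ⟨D.ν m, by rw [hact]; exact hx⟩
    obtain ⟨c, hc, hcw', hcy', hca⟩ := D.split_lift hy hw0 hy2 hw2 hsp hfullw hg hg3 hgw fun p => by
      rw [← hact, hgw, hact]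
    exact hgx (by rw [← hca]; exact D.fixed_of_comm hc hv (hvw ▸ hcw'.mul_right hcy'))
  push Not at hfull
  obtain ⟨n, hn, hnfix, hny⟩ := hfull
  have hnv := hfixv hn hnfix
  have hnyz : n * y * n⁻¹ = y * z := by
    have e1 := (A.fz_all hy hy2 hyQ hn hnfix).resolve_left fun e => hny (mul_inv_eq_iff_eq_mul.mp e).symm
    refine mul_inv_eq_iff_eq_mul.mpr ?_
    have e2 : y * n = n * z * y := mul_inv_eq_iff_eq_mul.mp e1
    calc n * y = n * z * y * (y * z * y) := by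
          rw [show n * z * y * (y * z * y) = n * z * ((y * y) * (z * y)) by group, hy2, one_mul, mul_assoc n z,
            ← mul_assoc z z, D.z2, one_mul]
      _ = y * n * (y * y) * z := by
          rw [← e2, show y * z * y = y * y * z by rw [mul_assoc y z y, ← hy.1.eq, ← mul_assoc]]
          group
      _ = y * z * n := by rw [hy2, mul_one, mul_assoc, (D.cent n hn).eq, ← mul_assoc]
  have hswap : n * m * y * (n * m)⁻¹ = v * y * (z * ζ) := by
    rw [show n * m * y * (n * m)⁻¹ = n * (m * y * m⁻¹) * n⁻¹ by group, hym,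
      show n * (v * y * ζ) * n⁻¹ = n * v * n⁻¹ * (n * y * n⁻¹) * (n * ζ * n⁻¹) by group, hnv.eq, mul_inv_cancel_right,
      hnyz, (D.kernel_comm hζ hζ0 (D.in0_Q hn)).eq, mul_inv_cancel_right]
    group
  have hnmv : Commute (n * m) v := hnv.mul_left hmv
  rcases (D.ν_zero ζ hζ).mp hζ0 with e | e | e | e <;> rw [e] at hym hswap
  · exact (hno m hmv).1 (by rw [hym, mul_one])
  · exact (hno _ hnmv).1 (by rw [hswap, D.z2, mul_one])
  · exact (hno m hmv).2 hym
  · exact (hno _ hnmv).2 (by rw [hswap, ← mul_assoc z, D.z2, one_mul])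

end ModelA

end Cfsg.Agent.Spor.FiTwo
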