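import Cfsg.Agent.Lib.Spor.CHZ.InvB
import Cfsg.Agent.Lib.Spor.CHZ.NoLarge
import Cfsg.Agent.Lib.Spor.CHZ.GamTwo

/-!
The fixed plane with three planes: fixed vectors of involutions, totally singular subspaces of the three planes,
commutator maps into a plane, and two-groups of isometries with squares in a subgroup of order two.
-/

set_option autoImplicit false
set_option maxRecDepth 100000
set_option linter.unusedSectionVars false

namespace Cfsg.Agent.Spor.FiTwo

open Cfsg.Agent.Spor.CHZ Cfsg.Agent.Spor.SpFour Cfsg.Agent.Small.Unitary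

universe u

theorem exists_axis : ∃ a : A3, fn (kW 0) a ≠ 0 ∧ swA 0 a = a ∧ swA 0 (swA 2 a) = a := by decide +kernel

theorem exists_axis_one : ∃ a : A3, fn (kW 1) a ≠ 0 ∧ swA 0 a = a := by decide +kernel

theorem swA_zero_one : ∀ a, pf (kW 2) (swA 0 a) = pf (kW 1) a := by decide +kernel

theorem swA_zero_zero : ∀ a, pf (kW 0) (swA 0 a) = pf (kW 0) a := by decide +kernel

theorem swA_zero_base : ∀ a, pf 0 (swA 0 a) = pf 0 a := by decide +kernel

theorem outer_cent : ∀ k : Fin 64, Two.mu k (Two.frI k) = 0 →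
    ((Finset.univ : Finset (Fin 64)).filter fun m => Two.mu m k = Two.mu k (Two.frI m)).card ≤ 31 := by
  decide +kernel

theorem dg_order_three (a : A3) : dg a * dg a * dg a = 1 := by
  rw [← dg_add, ← dg_add, three_smul', dg_zero]

variable {M : Type u} [AddCommGroup M] [Module (ZMod 2) M] [Finite M] (R : CHZ.Rep M)

/-- conjugation in the sums over the diagonal group -/
theorem S_move {g : L} {σ : A3 → A3} (hσ : Function.Bijective σ) (hg : ∀ a, g * dg a = dg (σ a) * g)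
    {f f' : A3 → ZMod 2} (hf : ∀ a, f' (σ a) = f a) (x : M) : R.ρ g (R.S f x) = R.S f' (R.ρ g x) := by
  simp only [Rep.S, R.ρ_sum, R.ρ_smul, ← R.mul, hg]
  exact Fintype.sum_bijective σ hσ _ _ fun a => by rw [hf a]

theorem S_dg (f : A3 → ZMod 2) (a : A3) (x : M) : R.ρ (dg a) (R.S f x) = R.S f (R.ρ (dg a) x) :=
  S_move R (σ := id) Function.bijective_id (fun b => by rw [id, ← dg_add, ← dg_add, add_comm]) (fun _ => rfl) x

variable (hB : (∀ k : Fin 14, ((k : ℕ) = 0 ∨ 11 ≤ (k : ℕ)) → (R.piece k).ncard = 4) ∧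
      ∀ k : Fin 14, 1 ≤ (k : ℕ) → (k : ℕ) ≤ 10 → (R.piece k).ncard = 1)
include hB

theorem mem_U {v : M} (h : ∀ g, R.ρ g v = v) : v ∈ R.piece 0 := by
  have hz : ∀ j : Fin 3, R.S (pf (kW j)) v = 0 := by
    intro j
    obtain ⟨a, ha, -⟩ := kW_dual j
    refine R.free (kW_ne j) (b := a) (by rw [ha]; decide) (R.proj_mem _ v) ?_
    rw [S_dg R, h]
  show R.S (pf 0) v = v
  conv_rhs => rw [← R.split_sum hB v]
  simp [hz]

theorem U_ne {u u' : M} (hu : u ∈ R.piece 0) (hu' : u' ∈ R.piece 0) (hu0 : u ≠ 0) (hu'0 : u' ≠ 0)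
    (hne : u' ≠ u) : R.b u u' ≠ 0 := by
  intro h
  let E : AddSubgroup M :=
    { carrier := {x | x = 0 ∨ x = u}
      zero_mem' := Or.inl rfl
      add_mem' := by
        rintro a a' (rfl | rfl) (rfl | rfl)
        exacts [Or.inl (add_zero _), Or.inr (zero_add _), Or.inr (add_zero _), Or.inl (R.self_add _)]
      neg_mem' := by
        rintro a (rfl | rfl)
        exacts [Or.inl neg_zero, Or.inr (neg_eq_of_add_eq_zero_left (R.self_add _))] }
  rcases R.isotropic_U hB (E := E) (fun x hx y hy => by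
    rcases hx with rfl | rfl
    · exact R.b_zero_left y
    · rcases hy with rfl | rfl
      exacts [R.b_zero_right _, R.b_self _]) hu hu' (Or.inr rfl) hu0 h with e | e
  exacts [hu'0 e, hne e]

/-- orthogonal to the fixed plane: no part in it -/
theorem perp_U {x : M} : R.S (pf 0) x = 0 ↔ ∀ u ∈ R.piece 0, R.b u x = 0 := by
  constructor
  · intro h u hu
    rw [R.b_left_U hB hu, h, R.b_zero_right]
  · intro h
    by_contra hne
    obtain ⟨v, hv, hb⟩ := R.U_nondeg hB (R.proj_mem 0 x) hne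
    rw [R.b_comm, ← R.b_left_U hB hv, h v hv] at hb
    exact zero_ne_one hb

/-- the vectors fixed by an involution -/
theorem fix_span {i : L} (hi : i * i = 1) (hi1 : i ≠ 1) :
    ∃ a : L, i * a = a * i ∧ ∀ x, R.ρ i x = x →
      ∃ u ∈ R.piece 0, ∃ p, R.ρ i p = p ∧ ∃ m, x = u + (p + R.ρ a p) + (m + R.ρ i m) := by
  classical
  obtain ⟨h, hh⟩ := Two.involution_std hi hi1
  obtain ⟨b, hb0, hb1, hb2⟩ := exists_axis
  obtain ⟨j, hj⟩ : ∃ j, j = h * i * h⁻¹ := ⟨_, rfl⟩
  have hj2 : j * j = 1 := by rw [hj, show h * i * h⁻¹ * (h * i * h⁻¹) = h * (i * i) * h⁻¹ by group, hi]; group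
  have hj1 : j ≠ 1 := fun e => hi1 (conj_eq_one_iff.mp (hj ▸ e))
  obtain ⟨σ, hσb, hσ, hfn, hpf, hpf0, hbσ⟩ : ∃ σ : A3 → A3, Function.Bijective σ ∧
      (∀ a, j * dg a = dg (σ a) * j) ∧ (∀ a, fn (kW 0) (σ a) = fn (kW 0) a) ∧
      (∀ a, pf (kW 0) (σ a) = pf (kW 0) a) ∧ (∀ a, pf 0 (σ a) = pf 0 a) ∧ σ b = b := by
    rcases hh with e | e <;> rw [← hj] at e <;> rw [e]
    · exact ⟨swA 0, Function.Involutive.bijective (Rep.swA_invol 0), sw_dg 0, fn_sw0, swA_zero_zero, swA_zero_base, hb1⟩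
    · exact ⟨fun a => swA 0 (swA 2 a), (Function.Involutive.bijective (Rep.swA_invol 0)).comp
        (Function.Involutive.bijective (Rep.swA_invol 2)), sw02_dg, fun a => (fn_sw02 a).1, pf_sw02 0,
        fun a => by rw [sw_fix0, sw_fix0], hb2⟩
  have hmem : ∀ x ∈ R.piece (kW 0), R.ρ j x ∈ R.piece (kW 0) := fun x hx => R.move_mem hσb hσ hpf hx
  have hP : ∀ x ∈ R.piece (kW 0), R.ρ j x = x := fun x hx => R.plane_invol hB hj2 hσ hfn hmem hx
  have hU : ∀ m, R.S (pf 0) (m + R.ρ j m) = 0 := fun m => by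
    rw [R.S_add, R.proj_equivariant hB, R.self_add]
  have hW : ∀ m, R.S (pf (kW 0)) (m + R.ρ j m) = 0 := fun m => by
    rw [R.S_add, ← S_move R hσb hσ hpf, hP _ (R.proj_mem _ _), R.self_add]
  have hne : (0 : Fin 14) ≠ kW 0 := Ne.symm (kW_ne 0)
  let Φ : (↥(R.piece 0) × ↥(R.piece (kW 0))) × ↥(R.dI j).range → ↥(R.dI j).ker := fun t =>
    ⟨(t.1.1 : M) + t.1.2 + t.2, by
      rw [R.mem_ker_dI, R.add, R.add, R.fixed_u hB j t.1.1.2, hP _ t.1.2.2]
      obtain ⟨m, hm⟩ := t.2.2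
      rw [← hm, R.dI_apply, R.add, ← R.mul, hj2, R.one, add_comm (R.ρ j m)]⟩
  have hinj : Function.Injective Φ := by
    rintro ⟨⟨⟨u, hu⟩, ⟨p, hp⟩⟩, ⟨r, m, hm⟩⟩ ⟨⟨⟨u', hu'⟩, ⟨p', hp'⟩⟩, ⟨r', m', hm'⟩⟩ e
    have e' : u + p + r = u' + p' + r' := congrArg Subtype.val e
    have e0 := congrArg (R.S (pf 0)) e'
    have e1 := congrArg (R.S (pf (kW 0))) e'
    simp only [R.S_add] at e0 e1
    rw [show R.S (pf 0) u = u from hu, R.proj_other hne hp, ← hm, R.dI_apply, hU, show R.S (pf 0) u' = u' from hu',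
      R.proj_other hne hp', ← hm', R.dI_apply, hU] at e0
    rw [show R.S (pf (kW 0)) p = p from hp, R.proj_other hne.symm hu, ← hm, R.dI_apply, hW,
      show R.S (pf (kW 0)) p' = p' from hp', R.proj_other hne.symm hu', ← hm', R.dI_apply, hW] at e1
    simp only [add_zero, zero_add] at e0 e1
    subst e0 e1
    have e2 : r = r' := add_left_cancel e'
    subst e2
    rfl
  obtain ⟨hr4, hk64, -, -⟩ := R.involution_facts hB hj2 hj1
  have hbij : Function.Bijective Φ := (Nat.bijective_iff_injective_and_card _).mpr ⟨hinj, by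
    rw [Nat.card_prod, Nat.card_prod, hr4, hk64, Nat.card_coe_set_eq, Nat.card_coe_set_eq,
      hB.1 0 (Or.inl rfl), hB.1 _ (kW_high 0)]⟩
  have hbj : j * dg b = dg b * j := by rw [hσ, hbσ]
  let Ψ : ↥(R.piece (kW 0)) → ↥(R.piece (kW 0)) := fun p => ⟨(p : M) + R.ρ (dg b) p, R.add_mem p.2 (R.piece_dg b p.2)⟩
  have hΨ : Function.Surjective Ψ := Finite.injective_iff_surjective.mp fun p q e => by
    have e' : (p : M) + R.ρ (dg b) p = (q : M) + R.ρ (dg b) q := congrArg Subtype.val e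
    refine Subtype.ext ?_
    have h0 : (p : M) + q = 0 := by
      refine R.free (kW_ne 0) hb0 (R.add_mem p.2 q.2) ?_
      rw [R.add]
      calc R.ρ (dg b) p + R.ρ (dg b) q = (p : M) + ((p : M) + R.ρ (dg b) p) + R.ρ (dg b) q := by
            rw [← add_assoc (p : M), R.self_add, zero_add]
        _ = (p : M) + q + (R.ρ (dg b) q + R.ρ (dg b) q) := by rw [e']; abel
        _ = (p : M) + q := by rw [R.self_add, add_zero]
    calc (p : M) = (p : M) + ((q : M) + q) := by rw [R.self_add, add_zero]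
      _ = q := by rw [← add_assoc, h0, zero_add]
  refine ⟨h⁻¹ * dg b * h, ?_, fun x hx => ?_⟩
  · rw [show i = h⁻¹ * j * h by rw [hj]; group]
    calc h⁻¹ * j * h * (h⁻¹ * dg b * h) = h⁻¹ * (j * dg b) * h := by group
      _ = h⁻¹ * (dg b * j) * h := by rw [hbj]
      _ = h⁻¹ * dg b * h * (h⁻¹ * j * h) := by group
  have hi' : ∀ y, R.ρ i (R.ρ h⁻¹ y) = R.ρ h⁻¹ (R.ρ j y) := fun y => by
    rw [← R.mul, ← R.mul, hj]; congr 1; group
  obtain ⟨⟨⟨u, p⟩, r⟩, e⟩ := hbij.2 ⟨R.ρ h x, by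
    rw [R.mem_ker_dI, hj, ← R.mul, show h * i * h⁻¹ * h = h * i by group, R.mul, hx]⟩
  obtain ⟨q, hq⟩ := hΨ p
  obtain ⟨m, hm⟩ := r.2
  refine ⟨u, u.2, R.ρ h⁻¹ q, by rw [hi', hP _ q.2], R.ρ h⁻¹ m, ?_⟩
  have e' : R.ρ h x = (u : M) + ((q : M) + R.ρ (dg b) q) + (m + R.ρ j m) := by
    have h1 : (u : M) + (p : M) + (r : M) = R.ρ h x := congrArg Subtype.val e
    have h2 : (q : M) + R.ρ (dg b) q = p := congrArg Subtype.val hq
    have h3 : m + R.ρ j m = r := (R.dI_apply j m).symm.trans hm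
    rw [← h1, h2, h3]
  calc x = R.ρ h⁻¹ (R.ρ h x) := (R.inv_act h x).symm
    _ = _ := by
      rw [e', R.add, R.add, R.add, R.add, R.fixed_u hB h⁻¹ u.2, hi', ← R.mul h⁻¹ (dg b), ← R.mul _ h⁻¹,
        mul_inv_cancel_right]

/-- an element of order three beside an involution with singular commutators moves them -/
theorem exists_mover_B {i : L} (hi : i * i = 1) (hi1 : i ≠ 1) (hq : ∀ m, R.q (m + R.ρ i m) = 0) {x : M}
    (hx0 : x ≠ 0) (hx : ∃ m, x = m + R.ρ i m) :
    ∃ g : L, g * g * g = 1 ∧ g * i = i * g ∧ R.ρ g x ≠ x := by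
  obtain ⟨h, hh⟩ := Two.involution_std hi hi1
  obtain ⟨j, hj⟩ : ∃ j, j = h * i * h⁻¹ := ⟨_, rfl⟩
  have hmove : ∀ m, R.ρ h (m + R.ρ i m) = R.ρ h m + R.ρ j (R.ρ h m) := fun m => by
    rw [R.add, ← R.mul, ← R.mul, hj, inv_mul_cancel_right]
  have hj0 : j = sw 0 := by
    rw [hj]
    refine hh.resolve_right fun e => ?_
    have hσb : Function.Bijective fun a => swA 0 (swA 2 a) :=
      (Function.Involutive.bijective (Rep.swA_invol 0)).comp (Function.Involutive.bijective (Rep.swA_invol 2))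
    obtain ⟨r, hr, hr0, ⟨y, -, ey⟩, -⟩ := R.plane_anti hB sw02_sq sw02_dg
      (fun a => (fn_sw02 a).2 1 (by decide)) (fun x hx => R.move_mem hσb sw02_dg (pf_sw02 1) hx)
    have h1 := R.q_plane hB hr hr0
    rw [← ey, R.dI_apply, ← e, ← hj, ← R.act_inv h y, ← hmove, R.q_act, hq] at h1
    exact zero_ne_one h1
  obtain ⟨a, ha, haσ⟩ := exists_axis_one
  have hbj : j * dg a = dg a * j := by rw [hj0, sw_dg 0, haσ]
  refine ⟨h⁻¹ * dg a * h, ?_, ?_, fun e => hx0 ?_⟩
  · rw [show h⁻¹ * dg a * h * (h⁻¹ * dg a * h) * (h⁻¹ * dg a * h) = h⁻¹ * (dg a * dg a * dg a) * h by group,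
      dg_order_three]
    group
  · rw [show i = h⁻¹ * j * h by rw [hj]; group]
    calc h⁻¹ * dg a * h * (h⁻¹ * j * h) = h⁻¹ * (dg a * j) * h := by group
      _ = h⁻¹ * (j * dg a) * h := by rw [hbj]
      _ = h⁻¹ * j * h * (h⁻¹ * dg a * h) := by group
  obtain ⟨m, hm⟩ := hx
  obtain ⟨y, hy⟩ : ∃ y, y = R.ρ h x := ⟨_, rfl⟩
  have hy' : y = R.ρ h m + R.ρ (sw 0) (R.ρ h m) := by rw [hy, hm, hmove, hj0]
  generalize R.ρ h m = m' at hy'
  have hfix : R.ρ (dg a) y = y := by
    rw [hy]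
    conv_rhs => rw [← e]
    rw [← R.mul, ← R.mul]
    congr 1
    group
  have hb0 := Function.Involutive.bijective (Rep.swA_invol 0)
  have hmem : ∀ v ∈ R.piece (kW 0), R.ρ (sw 0) v ∈ R.piece (kW 0) := fun v hv =>
    R.move_mem hb0 (sw_dg 0) swA_zero_zero hv
  have z1 : R.S (pf (kW 1)) y = 0 := R.free (kW_ne 1) ha (R.proj_mem _ _) (by rw [S_dg R, hfix])
  have z2 : R.S (pf (kW 2)) y = 0 := by
    have hyfix : R.ρ (sw 0) y = y := by rw [hy', R.add, ← R.mul, sw_sq, R.one, add_comm]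
    rw [← hyfix, ← S_move R hb0 (sw_dg 0) swA_zero_one, z1, R.ρ_zero]
  have z0 : R.S (pf (kW 0)) y = 0 := by
    rw [hy', R.S_add, ← S_move R hb0 (sw_dg 0) swA_zero_zero,
      R.plane_invol hB (sw_sq 0) (sw_dg 0) fn_sw0 hmem (R.proj_mem _ _), R.self_add]
  have zU : R.S (pf 0) y = 0 := by rw [hy', R.S_add, R.proj_equivariant hB, R.self_add]
  have hy0 : y = 0 := by
    rw [← R.split_sum hB y, Fin.sum_univ_three, zU, z0, z1, z2, add_zero, add_zero, add_zero]
  exact R.ρ_inj h (hy ▸ hy0.trans (R.ρ_zero h).symm)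

/-- totally singular subgroups orthogonal to the fixed plane -/
theorem W_singular_le {E : AddSubgroup M} (hW : ∀ x ∈ E, R.S (pf 0) x = 0) (hq : ∀ x ∈ E, R.q x = 0) :
    Nat.card E ≤ 4 := by
  classical
  have hsum : ∀ x ∈ E, x = R.S (pf (kW 0)) x + R.S (pf (kW 1)) x + R.S (pf (kW 2)) x := fun x hx => by
    conv_lhs => rw [← R.split_sum hB x, hW x hx, Fin.sum_univ_three, zero_add]
  have hqx : ∀ x ∈ E, R.q (R.S (pf (kW 0)) x) + R.q (R.S (pf (kW 1)) x) + R.q (R.S (pf (kW 2)) x) = 0 := by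
    intro x hx
    have h := hq x hx
    rw [hsum x hx, R.q_add_eq hB, R.q_add_eq hB, R.b_add_left,
      R.orth_W (by decide) (R.proj_mem _ x) (R.proj_mem _ x),
      R.orth_W (by decide) (R.proj_mem _ x) (R.proj_mem _ x),
      R.orth_W (by decide) (R.proj_mem _ x) (R.proj_mem _ x), add_zero, add_zero, add_zero] at h
    exact h
  have hzero : ∀ x ∈ E, ∀ i j : Fin 3, i ≠ j → R.S (pf (kW i)) x = 0 → R.S (pf (kW j)) x = 0 → x = 0 := by
    intro x hx i j hij hi hj
    have h : ∑ l, R.q (R.S (pf (kW l)) x) = 0 := by rw [Fin.sum_univ_three]; exact hqx x hx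
    have key : ∀ l, R.S (pf (kW l)) x = 0 := by
      intro l
      by_contra hl
      have third : ∀ i j l k : Fin 3, i ≠ j → l ≠ i → l ≠ j → k ≠ l → k = i ∨ k = j := by decide
      have hli : l ≠ i := fun e => hl (e ▸ hi)
      have hlj : l ≠ j := fun e => hl (e ▸ hj)
      rw [Finset.sum_eq_single l (fun k _ hk => by
        rcases third i j l k hij hli hlj hk with rfl | rfl
        · rw [hi, R.q_zero]
        · rw [hj, R.q_zero]) (fun hn => absurd (Finset.mem_univ l) hn), R.q_plane hB (R.proj_mem _ x) hl] at h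
      exact one_ne_zero h
    rw [hsum x hx, key, key, key, add_zero, add_zero]
  let K : Fin 3 → AddSubgroup M := fun j =>
    { carrier := {x | x ∈ E ∧ R.S (pf (kW j)) x = 0}
      zero_mem' := ⟨E.zero_mem, R.S_zero _⟩
      add_mem' := fun ha hb => ⟨E.add_mem ha.1 hb.1, by rw [R.S_add, ha.2, hb.2, add_zero]⟩
      neg_mem' := fun {a} ha => by rw [show -a = a from neg_eq_of_add_eq_zero_left (R.self_add a)]; exact ha }
  have hle4 : ∀ i j : Fin 3, i ≠ j → Nat.card (K j) ≤ 4 := by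
    intro i j hij
    rw [← hB.1 (kW i) (kW_high i), ← Nat.card_coe_set_eq]
    refine Nat.card_le_card_of_injective (fun x : K j => (⟨R.S (pf (kW i)) (x : M), R.proj_mem _ _⟩ : ↥(R.piece (kW i))))
      fun x y e => ?_
    have e' : R.S (pf (kW i)) (x : M) = R.S (pf (kW i)) (y : M) := congrArg Subtype.val e
    have h0 : (x : M) + y = 0 := hzero _ (E.add_mem x.2.1 y.2.1) i j hij
      (by rw [R.S_add, e', R.self_add]) (by rw [R.S_add, x.2.2, y.2.2, add_zero])
    refine Subtype.ext ?_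
    calc (x : M) = (x : M) + ((y : M) + y) := by rw [R.self_add, add_zero]
      _ = y := by rw [← add_assoc, h0, zero_add]
  have hprod : ∀ i j : Fin 3, i ≠ j → Nat.card (K i) * Nat.card (K j) ≤ Nat.card E := by
    intro i j hij
    rw [← Nat.card_prod]
    refine Nat.card_le_card_of_injective (fun t : K i × K j => (⟨(t.1 : M) + t.2, E.add_mem t.1.2.1 t.2.2.1⟩ : E)) ?_
    rintro ⟨a, c⟩ ⟨a', c'⟩ e
    have e' : (a : M) + c = (a' : M) + c' := congrArg Subtype.val e
    have h0 : (a : M) + a' = (c : M) + c' := by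
      calc (a : M) + a' = (a : M) + c + a' + c := by
            rw [add_right_comm _ (a' : M) (c : M), add_assoc (a : M), R.self_add, add_zero]
        _ = (a' : M) + c' + a' + c := by rw [e']
        _ = (c : M) + c' + ((a' : M) + a') := by abel
        _ = (c : M) + c' := by rw [R.self_add, add_zero]
    have hz : (a : M) + a' = 0 := hzero _ (E.add_mem a.2.1 a'.2.1) i j hij
      (by rw [R.S_add, a.2.2, a'.2.2, add_zero]) (by rw [h0, R.S_add, c.2.2, c'.2.2, add_zero])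
    have ha : (a : M) = a' := by
      calc (a : M) = (a : M) + ((a' : M) + a') := by rw [R.self_add, add_zero]
        _ = a' := by rw [← add_assoc, hz, zero_add]
    rw [ha] at e'
    exact Prod.ext (Subtype.ext ha) (Subtype.ext (add_left_cancel e'))
  have hcov : (E : Set M) \ {0} ⊆
      ((K 0 : Set M) \ {0}) ∪ (((K 1 : Set M) \ {0}) ∪ ((K 2 : Set M) \ {0})) := by
    intro x ⟨hx, hx0⟩
    by_contra hno
    simp only [Set.mem_union, Set.mem_diff, not_or] at hno
    have n0 : R.S (pf (kW 0)) x ≠ 0 := fun e => hno.1 ⟨⟨hx, e⟩, hx0⟩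
    have n1 : R.S (pf (kW 1)) x ≠ 0 := fun e => hno.2.1 ⟨⟨hx, e⟩, hx0⟩
    have n2 : R.S (pf (kW 2)) x ≠ 0 := fun e => hno.2.2 ⟨⟨hx, e⟩, hx0⟩
    have h := hqx x hx
    rw [R.q_plane hB (R.proj_mem _ x) n0, R.q_plane hB (R.proj_mem _ x) n1, R.q_plane hB (R.proj_mem _ x) n2] at h
    exact absurd h (by decide)
  have hc := (Set.ncard_le_ncard hcov).trans
    ((Set.ncard_union_le _ _).trans (Nat.add_le_add_left (Set.ncard_union_le _ _) _))
  have hd : ∀ H : AddSubgroup M, ((H : Set M) \ {0}).ncard + 1 = Nat.card H := fun H => by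
    rw [Set.ncard_sdiff_singleton_add_one H.zero_mem]
    exact (Nat.card_coe_set_eq _).symm
  have := hd E
  have := hd (K 0)
  have := hd (K 1)
  have := hd (K 2)
  have a01 := hprod 0 1 (by decide)
  have a02 := hprod 0 2 (by decide)
  have a12 := hprod 1 2 (by decide)
  have b0 := hle4 1 0 (by decide)
  have b1 := hle4 0 1 (by decide)
  have b2 := hle4 0 2 (by decide)
  generalize Nat.card (K 0) = k0 at *
  generalize Nat.card (K 1) = k1 at *
  generalize Nat.card (K 2) = k2 at *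
  interval_cases k0 <;> interval_cases k1 <;> interval_cases k2 <;> omega

omit hB in
/-- a nonzero alternating symmetric map into a group of order four is unique -/
theorem map_unique {R0 : AddSubgroup M} (h4 : Nat.card R0 ≤ 4) {φ ψ : M → M}
    (hφm : ∀ x, φ x ∈ R0) (hψm : ∀ x, ψ x ∈ R0) (hφs : ∀ x y, R.b (φ x) y = R.b x (φ y))
    (hψs : ∀ x y, R.b (ψ x) y = R.b x (ψ y)) (hφ0 : ∀ x, R.b x (φ x) = 0) (hψ0 : ∀ x, R.b x (ψ x) = 0)
    (hφ : ∃ x, φ x ≠ 0) (hψ : ∃ x, ψ x ≠ 0) : φ = ψ := by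
  classical
  have hpair : ∀ {x r r'}, r ∈ R0 → r' ∈ R0 → r ≠ 0 → r' ≠ 0 → r ≠ r' → R.b x r = 0 → R.b x r' = 0 →
      ∀ s ∈ R0, R.b x s = 0 := by
    intro x r r' hr hr' r0 r0' hne br br' s hs
    have hne' : r + r' ≠ 0 := fun e => hne (by
      calc r = r + (r' + r') := by rw [R.self_add, add_zero]
        _ = r' := by rw [← add_assoc, e, zero_add])
    have h4' : (R0 : Set M).ncard ≤ 4 := (Nat.card_coe_set_eq (R0 : Set M)) ▸ h4
    have hsub : (({0, r, r', r + r'} : Finset M) : Set M) ⊆ R0 := by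
      intro v hv
      simp only [Finset.coe_insert, Finset.coe_singleton, Set.mem_insert_iff, Set.mem_singleton_iff] at hv
      rcases hv with rfl | rfl | rfl | rfl
      exacts [R0.zero_mem, hr, hr', R0.add_mem hr hr']
    have hc : (({0, r, r', r + r'} : Finset M) : Set M).ncard = 4 := by
      rw [Set.ncard_coe_finset, Finset.card_insert_of_notMem (by simp [Ne.symm r0, Ne.symm r0', Ne.symm hne']),
        Finset.card_insert_of_notMem (by simp [hne, r0']), Finset.card_insert_of_notMem (by simp [r0]),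
        Finset.card_singleton]
    have hs' : s ∈ (({0, r, r', r + r'} : Finset M) : Set M) := by
      rw [Set.eq_of_subset_of_ncard_le hsub (by rw [hc]; exact h4') (Set.toFinite _)]
      exact hs
    simp only [Finset.coe_insert, Finset.coe_singleton, Set.mem_insert_iff, Set.mem_singleton_iff] at hs'
    rcases hs' with rfl | rfl | rfl | rfl
    exacts [R.b_zero_right x, br, br', by rw [R.b_add_right, br, br', add_zero]]
  have hzero : ∀ {φ : M → M}, (∀ x, φ x ∈ R0) → (∀ x y, R.b (φ x) y = R.b x (φ y)) → (∀ x, R.b x (φ x) = 0) →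
      (∃ x, φ x ≠ 0) → ∀ x, φ x = 0 → ∀ s ∈ R0, R.b x s = 0 := by
    intro φ hm hsy h0 hex x hx
    have hperp : ∀ y, R.b x (φ y) = 0 := fun y => by rw [← hsy, hx, R.b_zero_left]
    obtain ⟨y0, hy0⟩ := hex
    by_cases hone : ∀ y, φ y = 0 ∨ φ y = φ y0
    · exfalso
      refine hy0 ?_
      by_contra hne
      obtain ⟨t, ht⟩ := R.nondeg (φ y0) hne
      change R.b (φ y0) t = 1 at ht
      rcases hone t with e | e
      · rw [hsy, e, R.b_zero_right] at ht
        exact zero_ne_one ht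
      · have h := h0 t
        rw [e, R.b_comm, ht] at h
        exact one_ne_zero h
    · push Not at hone
      obtain ⟨y1, h10, h11⟩ := hone
      exact hpair (hm y0) (hm y1) hy0 h10 (Ne.symm h11) (hperp y0) (hperp y1)
  funext x
  by_cases hall : ∀ s ∈ R0, R.b x s = 0
  · have hkill : ∀ {φ : M → M}, (∀ x, φ x ∈ R0) → (∀ x y, R.b (φ x) y = R.b x (φ y)) → φ x = 0 := by
      intro φ hm hsy
      by_contra hne
      obtain ⟨t, ht⟩ := R.nondeg (φ x) hne
      change R.b (φ x) t = 1 at ht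
      rw [hsy, hall _ (hm t)] at ht
      exact zero_ne_one ht
    rw [hkill hφm hφs, hkill hψm hψs]
  · by_contra hne
    refine hall (hpair (hφm x) (hψm x) (fun e => hall (hzero hφm hφs hφ0 hφ x e))
      (fun e => hall (hzero hψm hψs hψ0 hψ x e)) hne (hφ0 x) (hψ0 x))

end Cfsg.Agent.Spor.FiTwo
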