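import Cfsg.Agent.Lib.Spor.FiTwo.Common
import Cfsg.Agent.Lib.Spor.FiTwo.FormB
import Cfsg.Agent.Lib.Small.Unitary.Simple

/-!
The model of a fixed plane with three planes: a commuting pair beside the two central involutions.
-/

set_option autoImplicit false
set_option maxRecDepth 100000
set_option linter.unusedSectionVars false

namespace Cfsg.Agent.Spor.FiTwo

open Cfsg.Agent.Spor.CHZ Cfsg.Agent.Spor.SpFour Cfsg.Agent.Small.Unitary
open scoped commutatorElement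

universe w u

theorem L_commutator : commutator L = ⊤ :=
  commutator_eq_top hstar (by rw [hF]; norm_num) (by norm_num) (by norm_num)

/-- the module with a fixed plane -/
structure ModelB {G : Type w} [Group G] {z z1 : G} {M : Type u} [AddCommGroup M] [Module (ZMod 2) M]
    (D : Data z z1 M) where
  R : CHZ.Rep M
  caseB : (∀ k : Fin 14, ((k : ℕ) = 0 ∨ 11 ≤ (k : ℕ)) → (R.piece k).ncard = 4) ∧
      ∀ k : Fin 14, 1 ≤ (k : ℕ) → (k : ℕ) ≤ 10 → (R.piece k).ncard = 1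
  img : G → ↥Gam
  img_mul : ∀ c d, D.In0 c → D.In0 d → img (c * d) = img c * img d
  img_iff : ∀ c, D.In0 c → (img c = 1 ↔ c ∈ D.Q)
  act_lin : ∀ c, D.In0 c → ∀ g : L, img c = ι g → ∀ m, D.act c m = R.ρ g m
  surj : ∀ g : L, ∃ c, D.In0 c ∧ img c = ι g
  q_iff : ∀ n ∈ D.Q, (R.q (D.ν n) = 0 ↔ n * n = 1)
  b_eq : ∀ x y, D.b x y = R.b x y

namespace ModelB

variable {G : Type w} [Group G] {z z1 : G} {M : Type u} [AddCommGroup M] [Module (ZMod 2) M] [Finite M]
variable {D : Data z z1 M} (B : ModelB D)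
include B

theorem img_one : B.img 1 = 1 := (B.img_iff 1 (D.in0_Q D.Q.one_mem)).mpr D.Q.one_mem

theorem img_inv {c : G} (hc : D.In0 c) : B.img c⁻¹ = (B.img c)⁻¹ :=
  eq_inv_of_mul_eq_one_left (by rw [← B.img_mul _ _ (hc.inv D) hc, inv_mul_cancel, B.img_one])

theorem img_Q {x : G} (hx : x ∈ D.Q) : B.img x = 1 := (B.img_iff x (D.in0_Q hx)).mpr hx

/-- an involution with linear image -/
theorem invol_img {c : G} (hc : D.In0 c) (hc2 : c * c = 1) (hcQ : c ∉ D.Q) {i : L} (hi : B.img c = ι i) :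
    i * i = 1 ∧ i ≠ 1 :=
  ⟨ι_inj (by rw [map_mul, ← hi, ← B.img_mul c c hc hc, hc2, B.img_one, map_one]),
    fun e => hcQ ((B.img_iff c hc).mp (by rw [hi, e, map_one]))⟩

/-- lift of a linear element of order three -/
theorem lift_L {g : L} (hg : g * g * g = 1) :
    ∃ c, D.In0 c ∧ c * c * c ∈ D.Q ∧ B.img c = ι g := by
  obtain ⟨c, hc, hcg⟩ := B.surj g
  refine ⟨c, hc, (B.img_iff _ ((hc.mul D hc).mul D hc)).mp ?_, hcg⟩
  rw [B.img_mul _ _ (hc.mul D hc) hc, B.img_mul c c hc hc, hcg, ← map_mul, ← map_mul, hg, map_one]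

/-- members with vectors in the fixed plane -/
theorem U_fz {n : G} (hn : n ∈ D.Q) (hU : D.ν n ∈ B.R.piece 0) {c : G} (hc : D.In0 c) (hl : B.img c ∈ ι.range) :
    D.Fz c n := by
  have hq : ∀ {x}, x ∈ D.Q → D.Fz x n := fun hx => D.conj_eq hx hn
  have hzc : ∀ {a : G}, D.In0 a → a * z * a⁻¹ = z := fun ha => by rw [ha.1.eq, mul_inv_cancel_right]
  have hcomp : ∀ {a b}, D.In0 a → D.Fz a n → D.Fz b n → D.Fz (a * b) n := by
    intro a b ha h1 h2
    have e : a * b * n * (a * b)⁻¹ = a * (b * n * b⁻¹) * a⁻¹ := by group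
    rcases h2 with e2 | e2 <;> rw [Data.Fz, e, e2]
    · exact h1
    · rw [show a * (n * z) * a⁻¹ = a * n * a⁻¹ * (a * z * a⁻¹) by group, hzc ha]
      rcases h1 with e1 | e1 <;> rw [e1]
      · exact Or.inr rfl
      · exact Or.inl (by rw [mul_assoc, D.z2, mul_one])
  -- elements fixing the vector move it by central elements
  have hmv : ∀ {a g}, D.In0 a → B.img a = ι g → ∃ α ∈ D.Q, D.ν α = 0 ∧ a * n * a⁻¹ = n * α := by
    intro a g ha hg
    refine D.ν_eq (D.normal a ha.1 n hn) hn ?_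
    rw [← D.act_vec a ha.1 ha.2 n hn, B.act_lin a ha g hg, B.R.fixed_u B.caseB g hU]
  let N : Subgroup L :=
    { carrier := {g | ∀ a, D.In0 a → B.img a = ι g → D.Fz a n}
      one_mem' := fun a ha e => hq ((B.img_iff a ha).mp (by rw [e, map_one]))
      mul_mem' := fun {g h} hg hh a ha e => by
        obtain ⟨b, hb, hbh⟩ := B.surj h
        have h1 := hg (a * b⁻¹) (ha.mul D (hb.inv D)) (by
          rw [B.img_mul _ _ ha (hb.inv D), B.img_inv hb, e, hbh, map_mul, mul_inv_cancel_right])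
        have := hcomp (ha.mul D (hb.inv D)) h1 (hh b hb hbh)
        rwa [inv_mul_cancel_right] at this
      inv_mem' := fun {g} hg a ha e => by
        rcases hg a⁻¹ (ha.inv D) (by rw [B.img_inv ha, e, map_inv, inv_inv]) with h | h
        · left
          calc a * n * a⁻¹ = a * (a⁻¹ * n * a⁻¹⁻¹) * a⁻¹ := by rw [h]
            _ = n := by group
        · right
          calc a * n * a⁻¹ = a * (a⁻¹ * n * a⁻¹⁻¹ * z) * a⁻¹ := by rw [h, mul_assoc n z z, D.z2, mul_one]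
            _ = n * (a * z * a⁻¹) := by group
            _ = n * z := by rw [hzc ha] }
  have hN : (⊤ : Subgroup L) ≤ N := by
    rw [← L_commutator, commutator_def, Subgroup.commutator_le]
    intro g _ h _ c hc e
    obtain ⟨a, ha, hag⟩ := B.surj g
    obtain ⟨b, hb, hbh⟩ := B.surj h
    obtain ⟨α, hα, hα0, ea⟩ := hmv ha hag
    obtain ⟨β, hβ, hβ0, eb⟩ := hmv hb hbh
    have hαc : ∀ {t : G}, D.In0 t → t * α * t⁻¹ = α := fun ht => by
      rw [(D.kernel_comm hα hα0 ht).eq, mul_inv_cancel_right]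
    have hβc : ∀ {t : G}, D.In0 t → t * β * t⁻¹ = β := fun ht => by
      rw [(D.kernel_comm hβ hβ0 ht).eq, mul_inv_cancel_right]
    obtain ⟨k, hk⟩ : ∃ k, k = a * b * a⁻¹ * b⁻¹ := ⟨_, rfl⟩
    have hk0 : D.In0 k := hk ▸ ((ha.mul D hb).mul D (ha.inv D)).mul D (hb.inv D)
    have hkn : k * n * k⁻¹ = n := by
      have eab : a * b * n * (a * b)⁻¹ = n * (α * β) := by
        rw [show a * b * n * (a * b)⁻¹ = a * (b * n * b⁻¹) * a⁻¹ by group, eb,
          show a * (n * β) * a⁻¹ = a * n * a⁻¹ * (a * β * a⁻¹) by group, ea, hβc ha, mul_assoc]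
      have eba : b * a * n * (b * a)⁻¹ = n * (α * β) := by
        rw [show b * a * n * (b * a)⁻¹ = b * (a * n * a⁻¹) * b⁻¹ by group, ea,
          show b * (n * α) * b⁻¹ = b * n * b⁻¹ * (b * α * b⁻¹) by group, eb, hαc hb, mul_assoc,
          (D.kernel_comm hα hα0 (D.in0_Q hβ)).eq]
      have h3 : a⁻¹ * b⁻¹ * (n * (α * β)) * (a⁻¹ * b⁻¹)⁻¹ = n := by rw [← eba]; group
      have h4 : a⁻¹ * b⁻¹ * (α * β) * (a⁻¹ * b⁻¹)⁻¹ = α * β := by
        rw [(((D.kernel_comm hα hα0 ((ha.inv D).mul D (hb.inv D))).mul_right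
          (D.kernel_comm hβ hβ0 ((ha.inv D).mul D (hb.inv D))))).eq, mul_inv_cancel_right]
      have h5 : a⁻¹ * b⁻¹ * n * (a⁻¹ * b⁻¹)⁻¹ * (α * β) = n := by
        rw [← h4]
        calc a⁻¹ * b⁻¹ * n * (a⁻¹ * b⁻¹)⁻¹ * (a⁻¹ * b⁻¹ * (α * β) * (a⁻¹ * b⁻¹)⁻¹)
            = a⁻¹ * b⁻¹ * (n * (α * β)) * (a⁻¹ * b⁻¹)⁻¹ := by group
          _ = n := h3
      have h6 : a * b * (α * β) * (a * b)⁻¹ = α * β := by
        rw [(((D.kernel_comm hα hα0 (ha.mul D hb)).mul_right (D.kernel_comm hβ hβ0 (ha.mul D hb)))).eq,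
          mul_inv_cancel_right]
      have h7 : k * n * k⁻¹ * (α * β) = n * (α * β) := by
        rw [← eab]
        calc k * n * k⁻¹ * (α * β) = k * n * k⁻¹ * (a * b * (α * β) * (a * b)⁻¹) := by rw [h6]
          _ = a * b * (a⁻¹ * b⁻¹ * n * (a⁻¹ * b⁻¹)⁻¹ * (α * β)) * (a * b)⁻¹ := by rw [hk]; group
          _ = _ := by rw [h5]
      exact mul_right_cancel h7
    have hkimg : B.img k = ι ⁅g, h⁆ := by
      rw [hk, B.img_mul _ _ ((ha.mul D hb).mul D (ha.inv D)) (hb.inv D), B.img_mul _ _ (ha.mul D hb) (ha.inv D),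
        B.img_mul a b ha hb, B.img_inv ha, B.img_inv hb, hag, hbh, commutatorElement_def, map_mul, map_mul, map_mul,
        map_inv, map_inv]
    have hQ : k⁻¹ * c ∈ D.Q := (B.img_iff _ ((hk0.inv D).mul D hc)).mp (by
      rw [B.img_mul _ _ (hk0.inv D) hc, B.img_inv hk0, hkimg, e, inv_mul_cancel])
    have := hcomp hk0 (Or.inl hkn) (hq hQ)
    rwa [mul_inv_cancel_left] at this
  obtain ⟨g, hg⟩ := hl
  exact hN (Subgroup.mem_top g) c hc hg.symm

/-- fixed members are moved at most along the first involution -/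
theorem fz_all {c : G} (hc : D.In0 c) (hc2 : c * c = 1) (hcQ : c ∉ D.Q) {i : L} (hi : B.img c = ι i) {n : G}
    (hn : n ∈ D.Q) (hfix : D.act c (D.ν n) = D.ν n) : D.Fz c n := by
  obtain ⟨hi2, hi1⟩ := B.invol_img hc hc2 hcQ hi
  obtain ⟨a, hai, hspan⟩ := fix_span B.R B.caseB hi2 hi1
  have hact := B.act_lin c hc i hi
  obtain ⟨u, hu, p, hp, m, e⟩ := hspan (D.ν n) (by rw [← hact]; exact hfix)
  obtain ⟨nu, hnu, hνu⟩ := D.ν_surj u
  obtain ⟨np, hnp, hνp⟩ := D.ν_surj p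
  obtain ⟨nm, hnm, hνm⟩ := D.ν_surj m
  obtain ⟨d, hd, hda⟩ := B.surj a
  have hdact := B.act_lin d hd a hda
  obtain ⟨h1Q, h1ν⟩ := D.ν_comm_elem hd hnp
  obtain ⟨h2Q, h2ν⟩ := D.ν_comm_elem hc hnm
  have f1 : D.Fz c nu := B.U_fz hnu (hνu ▸ hu) hc ⟨i, hi.symm⟩
  have f2 : D.Fz c (d * np * d⁻¹ * np⁻¹) := D.fz_move hc hd hnp (by rw [hνp, hact, hp]) fun x => by
    rw [hact, hact, hdact, hdact, ← B.R.mul, ← B.R.mul, hai]
  have f3 : D.Fz c (c * nm * c⁻¹ * nm⁻¹) := D.fz_range hc hc2 h2Q h2ν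
  refine D.fz_congr hc (D.Q.mul_mem (D.Q.mul_mem hnu h1Q) h2Q) hn ?_ (D.fz_mul h2Q (D.fz_mul h1Q f1 f2) f3)
  rw [D.ν_mul _ (D.Q.mul_mem hnu h1Q) _ h2Q, D.ν_mul _ hnu _ h1Q, h1ν, h2ν, hνu, hνp, hνm, hdact, hact, e]

/-- an element of order three moving a commutator vector -/
theorem movable {c : G} (hc : D.In0 c) (hc2 : c * c = 1) (hcQ : c ∉ D.Q) {i : L} (hi : B.img c = ι i)
    (hfull : ∀ n ∈ D.Q, D.act c (D.ν n) = D.ν n → Commute n c) {x : M} (hx0 : x ≠ 0)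
    (hx : ∃ m, x = m + D.act c m) :
    ∃ g, D.In0 g ∧ g * g * g ∈ D.Q ∧ (∀ m, D.act g (D.act c m) = D.act c (D.act g m)) ∧ D.act g x ≠ x := by
  obtain ⟨hi2, hi1⟩ := B.invol_img hc hc2 hcQ hi
  have hact := B.act_lin c hc i hi
  obtain ⟨m, hm⟩ := hx
  obtain ⟨g, hg3, hgi, hgx⟩ := exists_mover_B B.R B.caseB hi2 hi1 (fun m => by
    obtain ⟨n, hn, e⟩ := D.ν_surj (m + D.act c m)
    rw [← hact, ← e, B.q_iff n hn]
    exact (D.range_fix hc hc2 hn e).mp (hfull n hn (D.fixed_of_range hc hc2 e)).symm) hx0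
    ⟨m, by rw [hm, hact]⟩
  obtain ⟨d, hd, hd3, hdg⟩ := B.lift_L hg3
  have hda := B.act_lin d hd g hdg
  exact ⟨d, hd, hd3, fun p => by rw [hact, hact, hda, hda, ← B.R.mul, ← B.R.mul, hgi], fun e => hgx (hda x ▸ e)⟩

/-- the member of the second kind never lies in the subgroup beside a member of the first -/
theorem stepY {y v : G} (hy : y ∈ D.Q) (hy2 : y * y = 1) (hy0 : D.ν y ≠ 0) (hv : D.In0 v) (hv2 : v * v = 1)
    (hvQ : v ∉ D.Q) {i : L} (hi : B.img v = ι i) (hsp : Split y v)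
    (hsw : ∀ n ∈ D.Q, Commute n y → n * v * n⁻¹ = v ∨ n * v * n⁻¹ = v * y) : False := by
  obtain ⟨hfull, hx, -⟩ := D.stepY_setting hy hy2 hy0 hv hv2 hvQ hsw
  obtain ⟨g, hg, hg3, hgv, hgx⟩ := B.movable hv hv2 hvQ hi hfull hy0 hx
  obtain ⟨c, hc, -, hcy, hact⟩ := D.split_lift (D.in0_Q hy) hv hy2 hv2 hsp hfull hg hg3 hgv fun m => by
    rw [D.act_Q hy, D.act_Q hy]
  exact hgx (by rw [← hact]; exact D.fixed_of_comm hc hy hcy)

/-- a two-group with a central four group and squares in one of its subgroups of order two is small -/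
theorem gam_small {P : Subgroup ↥Gam} (hP : IsPGroup 2 P) {a b : ↥Gam} (ha : a ∈ P)
    (ha2 : a * a = 1) (hb : b ∈ P) (hca : ∀ x ∈ P, x * a = a * x) (ha1 : a ≠ 1) (hab : a ≠ b)
    (hsq : ∀ x ∈ P, x * x = 1 ∨ x * x = b) : Nat.card P < 64 := by
  classical
  by_contra hlt
  push Not at hlt
  have hblin : b ∈ ι.range := by
    by_contra hb'
    have := Two.elementary_le' hP fun x hx => (hsq x hx).resolve_right fun e => hb' (e ▸ sq_mem_range x)
    omega
  obtain ⟨i, hi⟩ := hblin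
  have h32 : 32 ≤ Nat.card (P.comap ι) := by have := Two.card_le_two P; omega
  obtain ⟨-, hcen, -⟩ := Two.large_two (Two.isPGroup_comap hP) (i := i) (show ι i ∈ P from hi ▸ hb)
    (fun x hx => (hsq _ hx).imp (fun e => ι_inj (by rw [map_mul, e, map_one]))
      fun e => ι_inj (by rw [map_mul, e, hi])) h32
  have haout : a ∉ ι.range := fun ⟨a0, e⟩ => by
    rcases hcen a0 (show ι a0 ∈ P from e ▸ ha) (fun x hx => ι_inj (by
      rw [map_mul, map_mul, e, hca _ hx])) with h | h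
    · exact ha1 (by rw [← e, h, map_one])
    · exact hab (by rw [← e, h, hi])
  obtain ⟨g, hg⟩ := Two.exists_conj_le' hP
  obtain ⟨k, hk | hk⟩ := hg a ha
  · refine haout ?_
    obtain ⟨y, hy⟩ : ∃ y, y = g⁻¹ := ⟨_, rfl⟩
    rw [show a = y * (g * a * g⁻¹) * y⁻¹ by rw [hy]; group, hk]
    exact range_normal y _
  have hk0 : Two.mu k (Two.frI k) = 0 := Two.el_inj (ι_inj (by
    have e : g * a * g⁻¹ * (g * a * g⁻¹) = 1 := by
      rw [show g * a * g⁻¹ * (g * a * g⁻¹) = g * (a * a) * g⁻¹ by group, ha2]; group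
    rw [hk, mul_assoc (ι (Two.el k)), ← mul_assoc fr, fr_ι, Two.frL_el, mul_assoc _ fr fr, fr_sq, mul_one, ← map_mul,
      Two.el_mul] at e
    rw [Two.el_zero, map_one]; exact e))
  have hlin : ∀ x : P.comap ι, ∃ m : Fin 64, ι (Two.el m) = g * ι (x : L) * g⁻¹ := fun x => by
    obtain ⟨m, hm | hm⟩ := hg _ x.2
    · exact ⟨m, hm.symm⟩
    · exfalso
      have h : g * ι (x : L) * g⁻¹ ∈ ι.range := range_normal g _
      rw [hm, mul_mem_range] at h
      exact frP_anti.not_lin (mem_range_ι.mp (h.mp ⟨_, rfl⟩))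
  choose m hm using hlin
  have h := outer_cent k hk0
  have hle : Nat.card (P.comap ι) ≤ 31 := by
    refine le_trans ?_ h
    rw [Nat.card_eq_fintype_card, ← Finset.card_univ]
    refine Finset.card_le_card_of_injOn m (fun x _ => ?_) fun x _ y _ e => ?_
    · rw [Finset.mem_coe, Finset.mem_filter]
      refine ⟨Finset.mem_univ _, Two.el_inj (ι_inj ?_)⟩
      refine mul_right_cancel (b := fr) ?_
      rw [← Two.el_mul, ← Two.el_mul, map_mul, map_mul, mul_assoc (ι (Two.el (m x))), ← hk, mul_assoc (ι (Two.el k)),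
        ← Two.frL_el, ← fr_ι, ← mul_assoc (ι (Two.el k)), ← hk, hm,
        show g * ι (x : L) * g⁻¹ * (g * a * g⁻¹) = g * (ι (x : L) * a) * g⁻¹ by group, hca _ x.2]
      group
    · refine Subtype.ext (ι_inj ?_)
      have h := hm x
      rw [e, hm y] at h
      exact mul_left_cancel (mul_right_cancel h.symm)
  omega

/-- the commutator of two members centralised -/
theorem b_zero_of {n p : G} (hn : n ∈ D.Q) (hp : p ∈ D.Q) : B.R.b (D.ν n) (D.ν p) = 0 ↔ Commute n p := by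
  rw [← B.b_eq, ← D.comm_b n hn p hp]

theorem q_conj {c : G} (hc : D.In0 c) (x : M) : B.R.q (D.act c x) = B.R.q x := by
  obtain ⟨n, hn, rfl⟩ := D.ν_surj x
  have key : ∀ p q : ZMod 2, (p = 0 ↔ q = 0) → p = q := by decide
  refine key _ _ ?_
  rw [D.act_vec c hc.1 hc.2 n hn, B.q_iff _ (D.normal c hc.1 n hn), B.q_iff n hn,
    show c * n * c⁻¹ * (c * n * c⁻¹) = c * (n * n) * c⁻¹ by group]
  exact conj_eq_one_iff

theorem b_act {c : G} (hc : D.In0 c) (x y : M) : B.R.b (D.act c x) (D.act c y) = B.R.b x y := by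
  rw [← B.b_eq, ← B.b_eq, D.b_act hc]

theorem U_act {c : G} (hc : D.In0 c) {x : M} (hx : x ∈ B.R.piece 0) : D.act c x ∈ B.R.piece 0 := by
  refine mem_U B.R B.caseB fun g => ?_
  obtain ⟨d, hd, hdg⟩ := B.surj g
  rw [← B.act_lin d hd g hdg]
  obtain ⟨g', hg'⟩ : (B.img c)⁻¹ * ι g * ((B.img c)⁻¹)⁻¹ ∈ ι.range := range_normal _ g
  have h1 : D.In0 (c⁻¹ * d * c) := ((hc.inv D).mul D hd).mul D hc
  have himg : B.img (c⁻¹ * d * c) = ι g' := by
    rw [B.img_mul _ _ ((hc.inv D).mul D hd) hc, B.img_mul _ _ (hc.inv D) hd, B.img_inv hc, hdg, hg', inv_inv]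
  calc D.act d (D.act c x) = D.act (c * (c⁻¹ * d * c)) x := by
        rw [← D.act_mul hd hc]; congr 1; group
    _ = D.act c x := by rw [D.act_mul hc h1, B.act_lin _ h1 g' himg, B.R.fixed_u B.caseB g' hx]

/-- with singular commutators they avoid the fixed plane -/
theorem range_W {c : G} (hc : D.In0 c) (hs : ∀ m, B.R.q (m + D.act c m) = 0) (m : M) :
    B.R.S (pf 0) (m + D.act c m) = 0 := by
  have hU : ∀ u ∈ B.R.piece 0, D.act c u = u := by
    intro u hu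
    by_contra hne
    have hu0 : u ≠ 0 := fun e => hne (by
      rw [e]
      have := D.act_add hc 0 0
      rw [add_zero] at this
      exact left_eq_add.mp this)
    have hcu0 : D.act c u ≠ 0 := fun e => hu0 (by
      have h0 : D.act c⁻¹ 0 = 0 := by
        have := D.act_add (hc.inv D) 0 0
        rw [add_zero] at this
        exact left_eq_add.mp this
      rw [← D.act_inv' hc u, e, h0])
    refine U_ne B.R B.caseB hu (B.U_act hc hu) hu0 hcu0 hne ?_
    have h := hs u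
    rw [B.R.q_add_eq B.caseB, B.q_conj hc] at h
    rwa [CharTwo.add_self_eq_zero, zero_add] at h
  refine (perp_U B.R B.caseB).mpr fun u hu => ?_
  rw [B.R.b_add_right]
  conv_lhs => arg 2; rw [← hU u hu]
  rw [B.b_act hc, CharTwo.add_self_eq_zero]

/-- no commuting pair outside the subgroup -/
theorem outside [Finite G] {y v : G} (hy : D.In0 y) (hv : D.In0 v) (hy2 : y * y = 1) (hv2 : v * v = 1) (hyv : Commute y v)
    (hyQ : y ∉ D.Q) (hvQ : v ∉ D.Q) (hwQ : v * y ∉ D.Q) (hspv : Split y v) (hspw : Split y (v * y))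
    (hC : ∀ n ∈ D.Q, Commute n y → Commute n v) {D' : Data y v M} (B' : ModelB D')
    (hz' : z ∉ D'.Q) (h1' : z1 ∉ D'.Q) (h2' : z * z1 ∉ D'.Q) : False := by
  classical
  have hw2 : v * y * (v * y) = 1 := by
    rw [show v * y * (v * y) = v * (y * v) * y by group, hyv.eq, ← mul_assoc, hv2, one_mul, hy2]
  -- the three elements
  let T : G → Prop := fun e => D.In0 e ∧ e * e = 1 ∧ e ∉ D.Q ∧ ∀ n ∈ D.Q, (Commute n e ↔ Commute n y)
  have Ty : T y := ⟨hy, hy2, hyQ, fun n _ => Iff.rfl⟩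
  have Tv : T v := ⟨hv, hv2, hvQ, fun n hn => ⟨D.comm_of_split hy.1 hy2 hspv hn, hC n hn⟩⟩
  have Tw : T (v * y) := ⟨hv.mul D hy, hw2, hwQ, fun n hn =>
    ⟨D.comm_of_split hy.1 hy2 hspw hn, fun h => (hC n hn h).mul_right h⟩⟩
  obtain ⟨e0, T0, he0⟩ : ∃ e, T e ∧ B.img e ∈ ι.range := by
    by_cases h1 : B.img y ∈ ι.range
    · exact ⟨y, Ty, h1⟩
    by_cases h2 : B.img v ∈ ι.range
    · exact ⟨v, Tv, h2⟩
    exact ⟨v * y, Tw, by rw [B.img_mul v y hv hy, mul_mem_range]; exact iff_of_false h2 h1⟩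
  obtain ⟨i, hi⟩ := he0
  -- the vectors of the common centraliser
  let S : AddSubgroup M :=
    { carrier := D.ν '' {n | n ∈ D.Q ∧ Commute n y}
      zero_mem' := ⟨1, ⟨D.Q.one_mem, Commute.one_left y⟩, D.ν_one⟩
      add_mem' := by
        rintro _ _ ⟨n, ⟨hn, hc⟩, rfl⟩ ⟨p, ⟨hp, hc'⟩, rfl⟩
        exact ⟨n * p, ⟨D.Q.mul_mem hn hp, hc.mul_left hc'⟩, D.ν_mul n hn p hp⟩
      neg_mem' := by
        rintro a ha
        rwa [neg_eq_of_add_eq_zero_left (D.self_add a)] }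
  have hSfix : ∀ {e}, T e → ∀ x ∈ S, D.act e x = x := by
    rintro e Te _ ⟨n, ⟨hn, hc⟩, rfl⟩
    exact D.fixed_of_comm Te.1 hn ((Te.2.2.2 n hn).mpr hc).symm
  have hSperp : ∀ {e}, T e → ∀ m, ∀ x ∈ S, B.R.b x (m + D.act e m) = 0 := by
    intro e Te m x hx
    rw [B.R.b_add_right]
    conv_lhs => arg 2; rw [← hSfix Te x hx]
    rw [B.b_act Te.1, CharTwo.add_self_eq_zero]
  -- singular commutator vectors lie among them
  have hrS : ∀ {e}, T e → ∀ m, B.R.q (m + D.act e m) = 0 → m + D.act e m ∈ S := by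
    intro e Te m h
    obtain ⟨n, hn, hne⟩ := D.ν_surj (m + D.act e m)
    rw [← hne, B.q_iff n hn] at h
    exact ⟨n, ⟨hn, (Te.2.2.2 n hn).mp ((D.range_fix Te.1 Te.2.1 hn hne).mpr h).symm⟩, hne⟩
  have h32 : 32 ≤ Nat.card S := by
    obtain ⟨hi2, hi1⟩ := B.invol_img T0.1 T0.2.1 T0.2.2.1 hi.symm
    obtain ⟨-, hk64, -, -⟩ := B.R.involution_facts B.caseB hi2 hi1
    rw [show Nat.card S = (S : Set M).ncard from Nat.card_coe_set_eq _]
    have hact := B.act_lin e0 T0.1 i hi.symm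
    have hkset : ((B.R.dI i).ker : Set M).ncard = 64 := (Nat.card_coe_set_eq _).symm.trans hk64
    by_cases hall : ∀ n ∈ D.Q, B.R.ρ i (D.ν n) = D.ν n → Commute n e0
    · have hsub : ((B.R.dI i).ker : Set M) ⊆ S := fun x hx => by
        obtain ⟨n, hn, rfl⟩ := D.ν_surj x
        exact ⟨n, ⟨hn, (T0.2.2.2 n hn).mp (hall n hn (B.R.mem_ker_dI.mp hx))⟩, rfl⟩
      have := Set.ncard_le_ncard hsub
      omega
    push Not at hall
    obtain ⟨p, hp, hpf, hpc⟩ := hall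
    have hmoved : ∀ {n}, n ∈ D.Q → B.R.ρ i (D.ν n) = D.ν n → ¬ Commute n e0 → e0 * n * e0⁻¹ = n * z :=
      fun hn hf hnc => (B.fz_all T0.1 T0.2.1 T0.2.2.1 hi.symm hn (by rw [hact, hf])).resolve_left
        fun e => hnc (mul_inv_eq_iff_eq_mul.mp e).symm
    have hsub : ((B.R.dI i).ker : Set M) ⊆ (S : Set M) ∪ (· + D.ν p) '' (S : Set M) := fun x hx => by
      obtain ⟨n, hn, rfl⟩ := D.ν_surj x
      have hxf := B.R.mem_ker_dI.mp hx
      by_cases hnc : Commute n e0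
      · exact Or.inl ⟨n, ⟨hn, (T0.2.2.2 n hn).mp hnc⟩, rfl⟩
      refine Or.inr ⟨D.ν (n * p), ⟨n * p, ⟨D.Q.mul_mem hn hp, (T0.2.2.2 _ (D.Q.mul_mem hn hp)).mp ?_⟩, rfl⟩, ?_⟩
      · refine (mul_inv_eq_iff_eq_mul.mp ?_).symm
        rw [show e0 * (n * p) * e0⁻¹ = e0 * n * e0⁻¹ * (e0 * p * e0⁻¹) by group, hmoved hn hxf hnc,
          hmoved hp hpf hpc, mul_assoc n z, ← mul_assoc z, (D.cent p hp).symm.eq, mul_assoc p, D.z2, mul_one]
      · show D.ν (n * p) + D.ν p = D.ν n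
        rw [D.ν_mul n hn p hp, add_assoc, D.self_add, add_zero]
    have := (Set.ncard_le_ncard hsub).trans (Set.ncard_union_le _ _)
    rw [Set.ncard_image_of_injective _ (add_left_injective _)] at this
    omega
  have hperp8 : Nat.card (B.R.perp S) ≤ 8 := by
    have h := B.R.card_perp S
    nlinarith
  have hinS : ∀ {e}, T e → ∀ m, m + D.act e m ∈ B.R.perp S := fun Te m h hh => hSperp Te m h hh
  obtain ⟨E, hE⟩ : ∃ E, E = S ⊓ B.R.perp S := ⟨_, rfl⟩
  by_cases hsing : ∀ e, T e → ∀ m, B.R.q (m + D.act e m) = 0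
  · -- all ranges lie in one plane
    let E0 : AddSubgroup M :=
      { carrier := {x | x ∈ E ∧ B.R.q x = 0 ∧ B.R.S (pf 0) x = 0}
        zero_mem' := ⟨E.zero_mem, B.R.q_zero, B.R.S_zero _⟩
        add_mem' := fun {a c} ha hc => by
          refine ⟨E.add_mem ha.1 hc.1, ?_, by rw [B.R.S_add, ha.2.2, hc.2.2, add_zero]⟩
          have h1 := hE ▸ ha.1
          have h2 := hE ▸ hc.1
          rw [B.R.q_add_eq B.caseB, ha.2.1, hc.2.1, B.R.mem_perp.mp h2.2 a h1.1, add_zero, add_zero]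
        neg_mem' := fun {a} ha => by rwa [neg_eq_of_add_eq_zero_left (D.self_add a)] }
    have h4 : Nat.card E0 ≤ 4 := W_singular_le B.R B.caseB (fun x hx => hx.2.2) (fun x hx => hx.2.1)
    have hmem : ∀ {e}, T e → ∀ m, m + D.act e m ∈ E0 := fun Te m =>
      ⟨hE ▸ ⟨hrS Te m (hsing _ Te m), hinS Te m⟩, hsing _ Te m, B.range_W Te.1 (hsing _ Te) m⟩
    have hsym : ∀ {e}, T e → ∀ x t, B.R.b (x + D.act e x) t = B.R.b x (t + D.act e t) := fun {e} Te x t => by
      rw [B.R.b_add_left, B.R.b_add_right]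
      conv_lhs => arg 2; rw [← B.b_act Te.1, D.act_act Te.1 Te.2.1]
    have halt : ∀ {e}, T e → ∀ x, B.R.b x (x + D.act e x) = 0 := fun {e} Te x => by
      have h := hsing _ Te x
      rw [B.R.q_add_eq B.caseB, B.q_conj Te.1, CharTwo.add_self_eq_zero, zero_add] at h
      rw [B.R.b_add_right, B.R.b_self, h, add_zero]
    have hnz : ∀ {e}, T e → ∃ x, x + D.act e x ≠ 0 := fun {e} Te => by
      by_contra hall
      push Not at hall
      exact Te.2.2.1 (D.faithful e Te.1.1 Te.1.2 fun m => (D.eq_of_add (hall m)).symm)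
    have e1 := map_unique B.R h4 (hmem Ty) (hmem Tv) (hsym Ty) (hsym Tv) (halt Ty) (halt Tv) (hnz Ty) (hnz Tv)
    refine hwQ (D.faithful _ (hv.mul D hy).1 (hv.mul D hy).2 fun m => ?_)
    have h : D.act y m = D.act v m := add_left_cancel (congrFun e1 m : m + D.act y m = m + D.act v m)
    rw [D.act_mul hv hy, h, D.act_act hv hv2]
  push Not at hsing
  obtain ⟨e, Te, m, hq⟩ := hsing
  obtain ⟨r, hr⟩ : ∃ r, r = m + D.act e m := ⟨_, rfl⟩
  rw [← hr] at hq
  have hrP : r ∈ B.R.perp S := hr ▸ hinS Te m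
  have hrnS : r ∉ S := by
    rintro ⟨n, ⟨hn, hc⟩, hne⟩
    refine hq ?_
    rw [← hne, B.q_iff n hn]
    exact (D.range_fix Te.1 Te.2.1 hn (hne.trans hr)).mp ((Te.2.2.2 n hn).mpr hc).symm
  have hE2 : Nat.card E ≤ 2 := by
    by_contra hlt
    have hdvd : Nat.card E ∣ 256 := by rw [← B.R.card]; exact AddSubgroup.card_addSubgroup_dvd_card E
    have h4 : 4 ≤ Nat.card E := by
      by_contra h
      rw [show Nat.card E = 3 by omega] at hdvd
      norm_num at hdvd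
    rw [show Nat.card E = (E : Set M).ncard from Nat.card_coe_set_eq _] at h4
    have hsub : (E : Set M) ∪ (· + r) '' (E : Set M) ⊆ B.R.perp S := by
      rintro x (hx | ⟨x, hx, rfl⟩)
      · exact (hE ▸ hx : x ∈ S ⊓ B.R.perp S).2
      · exact (B.R.perp S).add_mem (hE ▸ hx : x ∈ S ⊓ B.R.perp S).2 hrP
    have hdis : Disjoint (E : Set M) ((· + r) '' (E : Set M)) := Set.disjoint_left.mpr (by
      rintro x hx ⟨t, ht, rfl⟩
      refine hrnS ?_
      have hr' : r = t + (t + r) := by rw [← add_assoc, D.self_add, zero_add]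
      rw [hr']
      exact S.add_mem (hE ▸ ht : t ∈ S ⊓ B.R.perp S).1 (hE ▸ hx : t + r ∈ S ⊓ B.R.perp S).1)
    have hcard : ((E : Set M) ∪ (· + r) '' (E : Set M)).ncard = 2 * (E : Set M).ncard := by
      rw [Set.ncard_union_eq hdis, Set.ncard_image_of_injective _ (add_left_injective _)]; ring
    have h8 : (B.R.perp S : Set M).ncard ≤ 8 := (Nat.card_coe_set_eq (B.R.perp S : Set M)) ▸ hperp8
    have heq := Set.eq_of_subset_of_ncard_le hsub (by rw [hcard]; omega) (Set.toFinite _)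
    refine hrnS (D.dperp S r fun t ht => ?_)
    rw [B.b_eq, B.R.b_comm]
    have htP : t ∈ B.R.perp S := fun s hs => by rw [← B.b_eq]; exact ht s hs
    obtain hx | ⟨x, hx, rfl⟩ := (heq ▸ htP : t ∈ (E : Set M) ∪ (· + r) '' (E : Set M))
    · exact B.R.mem_perp.mp hrP t (hE ▸ hx : t ∈ S ⊓ B.R.perp S).1
    · rw [B.R.b_add_left, B.R.mem_perp.mp hrP x (hE ▸ hx : x ∈ S ⊓ B.R.perp S).1, B.R.b_self, add_zero]
  -- the image in the other frame
  let C : Subgroup G := D.Q ⊓ Subgroup.centralizer ({y} : Set G)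
  have hCmem : ∀ {c}, c ∈ C ↔ c ∈ D.Q ∧ Commute c y := fun {c} =>
    Subgroup.mem_inf.trans (and_congr_right fun _ => Subgroup.mem_centralizer_singleton_iff)
  have hC0 : ∀ {c}, c ∈ C → D'.In0 c := fun {c} hc => ⟨(hCmem.mp hc).2, hC c (hCmem.mp hc).1 (hCmem.mp hc).2⟩
  have hzC : z ∈ C := hCmem.mpr ⟨D.zQ, hy.1.symm⟩
  have h1C : z1 ∈ C := hCmem.mpr ⟨D.z1Q, hy.2.symm⟩
  have hker : ∀ {ζ}, ζ ∈ D.Q → D.ν ζ = 0 → ζ ∈ C := fun hζ h0 => by
    rcases (D.ν_zero _ hζ).mp h0 with e | e | e | e <;> rw [e]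
    exacts [C.one_mem, hzC, h1C, C.mul_mem hzC h1C]
  let f : ↥C →* ↥Gam := MonoidHom.mk' (fun c => B'.img c) fun a c => B'.img_mul _ _ (hC0 a.2) (hC0 c.2)
  have hkd : ∀ c : ↥f.ker, (c : G) ∈ D'.Q := fun c => (B'.img_iff _ (hC0 (c : ↥C).2)).mp c.2
  have hD1 : Nat.card f.ker ≤ 2 := by
    refine le_trans (Nat.card_le_card_of_injective (fun c : ↥f.ker => (⟨D.ν (c : G), ?_⟩ : ↥E)) ?_) hE2
    · rw [hE]
      obtain ⟨hcQ, hcy⟩ := hCmem.mp (c : ↥C).2
      refine ⟨⟨(c : G), ⟨hcQ, hcy⟩, rfl⟩, ?_⟩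
      rintro _ ⟨n, ⟨hn, hny⟩, rfl⟩
      refine (B.b_zero_of hn hcQ).mpr ?_
      rcases D.conj_eq hn hcQ with e | e
      · exact mul_inv_eq_iff_eq_mul.mp e
      · exfalso
        refine hz' ?_
        rw [show z = (c : G)⁻¹ * ((c : G) * z) by group, ← e]
        exact D'.Q.mul_mem (D'.Q.inv_mem (hkd c)) (D'.normal n hny _ (hkd c))
    · intro a c e
      obtain ⟨ζ, hζ, hζ0, h⟩ := D.ν_eq (hCmem.mp (a : ↥C).2).1 (hCmem.mp (c : ↥C).2).1 (congrArg Subtype.val e)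
      have hζ' : ζ ∈ D'.Q := by
        rw [show ζ = (c : G)⁻¹ * a by rw [h]; group]
        exact D'.Q.mul_mem (D'.Q.inv_mem (hkd c)) (hkd a)
      have hζ1 : ζ = 1 := by
        rcases (D.ν_zero _ hζ).mp hζ0 with e' | e' | e' | e'
        exacts [e', absurd (e' ▸ hζ') hz', absurd (e' ▸ hζ') h1', absurd (e' ▸ hζ') h2']
      rw [hζ1, mul_one] at h
      exact Subtype.ext (Subtype.ext h)
  have hC128 : 128 ≤ Nat.card C := by
    have hrep : ∀ x : S, ∃ n, n ∈ C ∧ D.ν n = x := fun x => by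
      obtain ⟨n, hn, e⟩ := x.2
      exact ⟨n, hCmem.mpr hn, e⟩
    choose rp hrp hrpν using hrep
    let cz : Bool × Bool → G := fun t => (if t.1 then z else 1) * (if t.2 then z1 else 1)
    have hcz : ∀ t, cz t ∈ D.Q ∧ D.ν (cz t) = 0 := fun t => by
      have hm : cz t ∈ D.Q :=
        D.Q.mul_mem (by split_ifs <;> first | exact D.zQ | exact D.Q.one_mem)
          (by split_ifs <;> first | exact D.z1Q | exact D.Q.one_mem)
      refine ⟨hm, (D.ν_zero _ hm).mpr ?_⟩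
      obtain ⟨a, c⟩ := t
      cases a <;> cases c <;> simp [cz]
    have hinj : Function.Injective fun t : S × (Bool × Bool) =>
        (⟨rp t.1 * cz t.2, C.mul_mem (hrp t.1) (hker (hcz t.2).1 (hcz t.2).2)⟩ : C) := by
      rintro ⟨x, t⟩ ⟨x', t'⟩ e
      have e' : rp x * cz t = rp x' * cz t' := congrArg Subtype.val e
      have hx : x = x' := Subtype.ext (by
        have h := congrArg D.ν e'
        rwa [D.ν_mul _ (hCmem.mp (hrp x)).1 _ (hcz t).1, D.ν_mul _ (hCmem.mp (hrp x')).1 _ (hcz t').1,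
          (hcz t).2, (hcz t').2, add_zero, add_zero, hrpν, hrpν] at h)
      subst hx
      have e2 := mul_left_cancel e'
      have hz1z : z * z1 ≠ 1 := fun e => D.hne
        ((inv_eq_of_mul_eq_one_right e).symm.trans D.z_inv)
      obtain ⟨a, c⟩ := t
      obtain ⟨a', c'⟩ := t'
      cases a <;> cases a' <;> cases c <;> cases c' <;>
        simp [cz, D.zne, D.wne, D.hne, Ne.symm D.zne, Ne.symm D.wne, Ne.symm D.hne, hz1z, Ne.symm hz1z] at e2 ⊢
    have h := Nat.card_le_card_of_injective _ hinj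
    rw [Nat.card_prod, Nat.card_prod, Nat.card_eq_fintype_card (α := Bool), Fintype.card_bool] at h
    omega
  have h64 : 64 ≤ Nat.card f.range := by
    have h := f.ker.card_mul_index
    rw [Subgroup.index_ker] at h
    nlinarith
  have hfz : B'.img z ≠ 1 := fun e => hz' ((B'.img_iff z (hC0 hzC)).mp e)
  refine absurd h64 (not_le.mpr (B'.gam_small (P := f.range) (a := f ⟨z1, h1C⟩) (b := f ⟨z, hzC⟩) ?_ ⟨_, rfl⟩ ?_ ⟨_, rfl⟩ ?_ ?_ ?_ ?_))
  · exact (D.two.to_le inf_le_left).of_surjective f.rangeRestrict (MonoidHom.rangeRestrict_surjective f)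
  · rw [← map_mul, show (⟨z1, h1C⟩ : C) * ⟨z1, h1C⟩ = 1 from Subtype.ext D.w2, map_one]
  · rintro _ ⟨c, rfl⟩
    rw [← map_mul, ← map_mul]
    exact congrArg f (Subtype.ext (D.cent1 _ (hCmem.mp c.2).1).eq)
  · exact fun e => h1' ((B'.img_iff z1 (hC0 h1C)).mp e)
  · intro e
    refine h2' ((B'.img_iff _ (hC0 (C.mul_mem hzC h1C))).mp ?_)
    rw [B'.img_mul _ _ (hC0 hzC) (hC0 h1C), show B'.img z1 = B'.img z from e, ← B'.img_mul _ _ (hC0 hzC) (hC0 hzC),
      D.z2, B'.img_one]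
  · rintro _ ⟨c, rfl⟩
    rw [← map_mul]
    rcases D.sq _ (hCmem.mp c.2).1 with e | e
    · exact Or.inl (by rw [show c * c = 1 from Subtype.ext e, map_one])
    · exact Or.inr (congrArg f (Subtype.ext e))

end ModelB

end Cfsg.Agent.Spor.FiTwo
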