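import Cfsg.Agent.Lib.Spor.CHZ.DCore
import Cfsg.Agent.Lib.Spor.CHZ.NoLarge
import Cfsg.Agent.Lib.Spor.CHZ.XSetup
import Cfsg.Agent.Lib.Spor.FiTwo.ModelA
import Cfsg.Agent.Lib.Spor.FiTwo.ModelB

/-!
The vectors of the subgroup from the involution centraliser, and the two models.
-/

set_option autoImplicit false
set_option linter.unusedSectionVars false
set_option maxHeartbeats 800000

namespace Cfsg.Agent.Spor.FiTwo

open Cfsg.Agent.Spor.CHZ Cfsg.Agent.Spor.SpFour Cfsg.Agent.Small.Unitary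

universe w u v

/-- the data with renamed vectors -/
def Data.map {G : Type w} [Group G] {z z1 : G} {M : Type u} [AddCommGroup M] {M' : Type v} [AddCommGroup M']
    (D : Data z z1 M) (e : M ≃+ M') : Data z z1 M' where
  Q := D.Q
  ν x := e (D.ν x)
  act c m := e (D.act c (e.symm m))
  b a a' := D.b (e.symm a) (e.symm a')
  zQ := D.zQ
  z1Q := D.z1Q
  z2 := D.z2
  w2 := D.w2
  zne := D.zne
  wne := D.wne
  hne := D.hne
  cent := D.cent
  cent1 := D.cent1
  normal := D.normal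
  two := D.two
  self_add m := e.symm.injective (by rw [map_add, map_zero, D.self_add])
  ν_mul x hx y hy := by rw [D.ν_mul x hx y hy, map_add]
  ν_surj m := by
    obtain ⟨x, hx, h⟩ := D.ν_surj (e.symm m)
    exact ⟨x, hx, by rw [h, AddEquiv.apply_symm_apply]⟩
  ν_zero x hx := by rw [e.map_eq_zero_iff, D.ν_zero x hx]
  comm := D.comm
  sq := D.sq
  act_vec c hc hc1 x hx := by rw [AddEquiv.symm_apply_apply, D.act_vec c hc hc1 x hx]
  faithful c hc hc1 h := D.faithful c hc hc1 fun m => e.injective (by simpa using h (e m))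
  card := (Nat.card_congr e.symm.toEquiv).trans D.card
  comm_b x hx y hy := by rw [AddEquiv.symm_apply_apply, AddEquiv.symm_apply_apply, D.comm_b x hx y hy]
  b_add a a' m := by rw [map_add, D.b_add]
  dperp H x h := by
    have hm := D.dperp (H.comap e.toAddMonoidHom) (e.symm x) fun y hy => by
      have := h (e y) fun a ha => by
        rw [AddEquiv.symm_apply_apply]
        exact hy _ (show e (e.symm a) ∈ H by rwa [AddEquiv.apply_symm_apply])
      rwa [AddEquiv.symm_apply_apply] at this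
    simpa using hm

end Cfsg.Agent.Spor.FiTwo

namespace Cfsg.Agent.Spor.CHZ.DCore

open Cfsg.Agent.Spor.SpFour Cfsg.Agent.Small.Unitary Cfsg.Agent.Spor.FiTwo

universe w

variable {G : Type w} [Group G] [Finite G] {z z1 : G} (D : DCore z z1)

/-- the vector of an element -/
noncomputable def nu (x : G) : D.core.Sp :=
  haveI := _root_.Classical.dec (x ∈ D.lin)
  if h : x ∈ D.lin then D.core.vec (D.cls ⟨x, h⟩) else 0

theorem nu_eq {x : G} (hx : x ∈ D.lin) : D.nu x = D.core.vec (D.cls ⟨x, hx⟩) := dif_pos hx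

theorem cls_mul (a b : ↥D.lin) : D.cls (a * b) = D.cls a * D.cls b := map_mul _ a b

theorem cls_comm (c : ↥D.lin) : Commute (D.cls c) D.zb :=
  (show Commute c ⟨z, D.Q_le D.zQ⟩ from Subtype.ext c.2.1.eq).map _

theorem cls_mem {x : G} (hx : x ∈ D.Q) : D.cls ⟨x, D.Q_le hx⟩ ∈ D.core.Q :=
  (D.mem_Qb (x := ⟨x, D.Q_le hx⟩)).mpr hx

theorem cls_one : D.cls (1 : ↥D.lin) = 1 := map_one _

theorem nu_mul {x y : G} (hx : x ∈ D.Q) (hy : y ∈ D.Q) : D.nu (x * y) = D.nu x + D.nu y := by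
  rw [D.nu_eq (D.Q_le (D.Q.mul_mem hx hy)), D.nu_eq (D.Q_le hx), D.nu_eq (D.Q_le hy)]
  exact (congrArg D.core.vec (D.cls_mul ⟨x, D.Q_le hx⟩ ⟨y, D.Q_le hy⟩)).trans
    (D.core.vec_mul (D.cls_mem hx) (D.cls_mem hy))

theorem nu_zero {x : G} (hx : x ∈ D.Q) : D.nu x = 0 ↔ x = 1 ∨ x = z ∨ x = z1 ∨ x = z * z1 := by
  rw [D.nu_eq (D.Q_le hx), D.core.vec_eq_zero (D.cls_mem hx)]
  have e1 : D.cls ⟨x, D.Q_le hx⟩ = 1 ↔ (1 : G) = x ∨ (1 : G) = x * z1 := by
    rw [← D.cls_one]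
    exact D.cls_eq
  have e2 : D.cls ⟨x, D.Q_le hx⟩ = D.zb ↔ z = x ∨ z = x * z1 := D.cls_eq
  rw [e1, e2]
  constructor
  · rintro ((e | e) | (e | e))
    · exact Or.inl e.symm
    · exact Or.inr (Or.inr (Or.inl ((mul_eq_one_iff_eq_inv.mp e.symm).trans D.one_inv)))
    · exact Or.inr (Or.inl e.symm)
    · exact Or.inr (Or.inr (Or.inr (by rw [e, mul_assoc, D.sq1, mul_one])))
  · rintro (e | e | e | e)
    · exact Or.inl (Or.inl e.symm)
    · exact Or.inr (Or.inl e.symm)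
    · exact Or.inl (Or.inr (by rw [e, D.sq1]))
    · exact Or.inr (Or.inr (by rw [e, mul_assoc, D.sq1, mul_one]))

theorem nu_surj (m : D.core.Sp) : ∃ x ∈ D.Q, D.nu x = m := by
  obtain ⟨q, hq, e⟩ := D.core.vec_surj m
  obtain ⟨a, rfl⟩ := QuotientGroup.mk'_surjective D.Z1 q
  have ha : (a : G) ∈ D.Q := D.mem_Qb.mp hq
  exact ⟨a, ha, (D.nu_eq a.2).trans e⟩

theorem nu_W {x : G} (hx : x ∈ D.W) : D.nu x = 0 := by
  refine (D.nu_zero (D.W_le hx)).mpr ?_
  rcases D.mem_W.mp hx with e | e | e | e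
  exacts [Or.inl e, Or.inr (Or.inl e), Or.inr (Or.inr (Or.inl e)),
    Or.inr (Or.inr (Or.inr (e.trans D.z_comm.eq.symm)))]

theorem W_of_nu {x : G} (hx : x ∈ D.Q) (h : D.nu x = 0) : x ∈ D.W := by
  rcases (D.nu_zero hx).mp h with e | e | e | e
  exacts [Or.inl e, Or.inr (Or.inl e), Or.inr (Or.inr (Or.inl e)),
    Or.inr (Or.inr (Or.inr (e.trans D.z_comm.eq)))]

/-- equal vectors differ by the centre -/
theorem nu_diff {x y : G} (hx : x ∈ D.Q) (hy : y ∈ D.Q) (h : D.nu x = D.nu y) : ∃ ζ ∈ D.W, y = x * ζ := by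
  refine ⟨x⁻¹ * y, D.W_of_nu (D.Q.mul_mem (D.Q.inv_mem hx) hy) ?_, by group⟩
  have e := D.nu_mul (D.Q.inv_mem hx) hx
  rw [inv_mul_cancel, D.nu_W D.W.one_mem] at e
  rw [D.nu_mul (D.Q.inv_mem hx) hy, ← h, ← e]

theorem nu_conj {c : G} (hc : Commute c z) {x y : G} (hx : x ∈ D.Q) (hy : y ∈ D.Q) (h : D.nu x = D.nu y) :
    D.nu (c * x * c⁻¹) = D.nu (c * y * c⁻¹) := by
  obtain ⟨ζ, hζ, rfl⟩ := D.nu_diff hx hy h
  rw [show c * (x * ζ) * c⁻¹ = c * x * c⁻¹ * (c * ζ * c⁻¹) by group,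
    D.nu_mul (D.normal c hc x hx) (D.normal c hc ζ (D.W_le hζ)), D.nu_W (D.W_conj hc hζ), add_zero]

/-- only the subgroup fixes all vectors -/
theorem nu_faith {c : G} (hc : Commute c z) (h : ∀ x ∈ D.Q, D.nu (c * x * c⁻¹) = D.nu x) : c ∈ D.Q := by
  classical
  let N : Subgroup G :=
    { carrier := {a | Commute a z ∧ ∀ x ∈ D.Q, D.nu (a * x * a⁻¹) = D.nu x}
      one_mem' := ⟨Commute.one_left z, fun x _ => by rw [inv_one, mul_one, one_mul]⟩
      mul_mem' := fun {a b} ha hb => ⟨ha.1.mul_left hb.1, fun x hx => by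
        rw [show a * b * x * (a * b)⁻¹ = a * (b * x * b⁻¹) * a⁻¹ by group, ha.2 _ (D.normal b hb.1 x hx), hb.2 x hx]⟩
      inv_mem' := fun {a} ha => ⟨ha.1.inv_left, fun x hx => by
        have e := ha.2 _ (D.normal a⁻¹ ha.1.inv_left x hx)
        rw [show a * (a⁻¹ * x * a⁻¹⁻¹) * a⁻¹ = x by group] at e
        exact e.symm⟩ }
  have hN2 : IsPGroup 2 N := by
    intro a
    obtain ⟨b, hb⟩ : ∃ b : G, b = (a : G) * a := ⟨_, rfl⟩
    have hbN : b ∈ N := hb ▸ N.mul_mem a.2 a.2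
    have haz : Commute (a : G) z := a.2.1
    have hb1 : b * z1 * b⁻¹ = z1 := by
      rw [hb, show (a : G) * a * z1 * ((a : G) * a)⁻¹ = a * (a * z1 * (a : G)⁻¹) * (a : G)⁻¹ by group]
      rcases D.conj_one haz with e | e
      · rw [e, e]
      · rw [e, show (a : G) * (z1 * z) * (a : G)⁻¹ = a * z1 * (a : G)⁻¹ * (a * z * (a : G)⁻¹) by group, e, haz.eq,
          mul_inv_cancel_right, mul_assoc, D.sqz, mul_one]
    have hq : b * b ∈ D.Q := D.self _ (hbN.1.mul_left hbN.1) fun x hx => by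
      refine mul_inv_eq_iff_eq_mul.mp ?_
      obtain ⟨η, hη, e⟩ := D.nu_diff hx (D.normal b hbN.1 x hx) (hbN.2 x hx).symm
      have hbη : b * η * b⁻¹ = η := by
        rcases D.mem_W.mp hη with r | r | r | r <;> rw [r]
        · group
        · rw [hbN.1.eq, mul_inv_cancel_right]
        · exact hb1
        · rw [show b * (z1 * z) * b⁻¹ = b * z1 * b⁻¹ * (b * z * b⁻¹) by group, hb1, hbN.1.eq, mul_inv_cancel_right]
      have hη2 : η * η = 1 := by
        rcases D.mem_W.mp hη with r | r | r | r <;> rw [r]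
        exacts [one_mul 1, D.sqz, D.sq1, D.symm.sq1]
      rw [show b * b * x * (b * b)⁻¹ = b * (b * x * b⁻¹) * b⁻¹ by group, e,
        show b * (x * η) * b⁻¹ = b * x * b⁻¹ * (b * η * b⁻¹) by group, e, hbη, mul_assoc, hη2, mul_one]
    obtain ⟨k, hk⟩ := D.isPGroup_Q ⟨_, hq⟩
    refine ⟨k + 2, Subtype.ext ?_⟩
    rw [Subgroup.coe_pow, Subgroup.coe_one, show 2 ^ (k + 2) = 4 * 2 ^ k by ring, pow_mul,
      show (a : G) ^ 4 = b * b by rw [hb]; simp [pow_succ, mul_assoc]]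
    exact congrArg Subtype.val hk
  refine D.two_le hN2 (fun x hx => hx.1) (fun a ha x hx => ⟨(ha.1.mul_left hx.1).mul_left ha.1.inv_left,
    fun y hy => ?_⟩) ⟨hc, h⟩
  obtain ⟨y', hy'⟩ : ∃ y', y' = a⁻¹ * y * a := ⟨_, rfl⟩
  have hy'Q : y' ∈ D.Q := by
    have := D.normal a⁻¹ ha.1.inv_left y hy
    rwa [inv_inv, ← hy'] at this
  rw [show a * x * a⁻¹ * y * (a * x * a⁻¹)⁻¹ = a * (x * (a⁻¹ * y * a) * x⁻¹) * a⁻¹ by group, ← hy',
    D.nu_conj ha.1 (D.normal x hx.1 y' hy'Q) hy'Q (hx.2 y' hy'Q), hy']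
  congr 1
  group

/-- the representative -/
noncomputable def nrep (m : D.core.Sp) : G := (D.nu_surj m).choose

theorem nrep_mem (m : D.core.Sp) : D.nrep m ∈ D.Q := (D.nu_surj m).choose_spec.1

theorem nu_nrep (m : D.core.Sp) : D.nu (D.nrep m) = m := (D.nu_surj m).choose_spec.2

theorem nu_b {x y : G} (hx : x ∈ D.Q) (hy : y ∈ D.Q) : D.core.toRep.b (D.nu x) (D.nu y) = 0 ↔ Commute x y := by
  rw [D.nu_eq (D.Q_le hx), D.nu_eq (D.Q_le hy), D.core.b_zero (D.cls_mem hx) (D.cls_mem hy)]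
  constructor
  · intro h
    rcases D.comm x hx y hy with e | e
    · exact mul_inv_eq_iff_eq_mul.mp (mul_inv_eq_one.mp e)
    · exfalso
      refine D.core.z1 ?_
      show D.cls ⟨z, D.Q_le D.zQ⟩ = 1
      rw [show (⟨z, D.Q_le D.zQ⟩ : ↥D.lin) =
        ⟨x, D.Q_le hx⟩ * ⟨y, D.Q_le hy⟩ * (⟨x, D.Q_le hx⟩ : ↥D.lin)⁻¹ * (⟨y, D.Q_le hy⟩ : ↥D.lin)⁻¹ from
          Subtype.ext e.symm]
      simp only [cls, map_mul, map_inv]
      have h' : QuotientGroup.mk' D.Z1 (⟨x, D.Q_le hx⟩ : ↥D.lin) * QuotientGroup.mk' D.Z1 ⟨y, D.Q_le hy⟩ =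
          QuotientGroup.mk' D.Z1 ⟨y, D.Q_le hy⟩ * QuotientGroup.mk' D.Z1 ⟨x, D.Q_le hx⟩ := h.eq
      rw [h']
      group
  · intro h
    exact (show Commute (⟨x, D.Q_le hx⟩ : ↥D.lin) ⟨y, D.Q_le hy⟩ from Subtype.ext h.eq).map _

/-- the data of the vectors -/
noncomputable def data : Data z z1 D.core.Sp where
  Q := D.Q
  ν := D.nu
  act c m := D.nu (c * D.nrep m * c⁻¹)
  b := D.core.toRep.b
  zQ := D.zQ
  z1Q := D.oneQ
  z2 := D.sqz
  w2 := D.sq1
  zne := D.ne_one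
  wne := D.one_ne
  hne := D.ne_z
  cent := D.cent
  cent1 := D.cent1
  normal := D.normal
  two := D.isPGroup_Q
  self_add := D.core.add_self_Sp
  ν_mul _ hx _ hy := D.nu_mul hx hy
  ν_surj := D.nu_surj
  ν_zero _ hx := D.nu_zero hx
  comm := D.comm
  sq := D.sq
  act_vec _ hc _ _ hx := D.nu_conj hc (D.nrep_mem _) hx (D.nu_nrep _)
  faithful c hc _ h := D.nu_faith hc fun x hx =>
    (D.nu_conj hc (D.nrep_mem _) hx (D.nu_nrep _)).symm.trans (h (D.nu x))
  card := D.core.card_Sp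
  comm_b _ hx _ hy := (D.nu_b hx hy).symm
  b_add := D.core.toRep.b_add_left
  dperp H x h := by
    haveI : Finite D.core.Sp := inferInstanceAs (Finite (Additive (D.core.Q ⧸ D.core.N)))
    have hle : H ≤ D.core.toRep.perp (D.core.toRep.perp H) := fun a ha y hy => by
      rw [D.core.toRep.b_comm]
      exact hy a ha
    have h1 := D.core.toRep.card_perp H
    have h2 := D.core.toRep.card_perp (D.core.toRep.perp H)
    have e : Nat.card ↥(D.core.toRep.perp (D.core.toRep.perp H)) = Nat.card H :=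
      Nat.eq_of_mul_eq_mul_left Nat.card_pos (h2.trans ((mul_comm _ _).trans h1).symm)
    rw [AddSubgroup.eq_of_le_of_card_ge hle e.le]
    intro y hy
    rw [D.core.toRep.b_comm]
    exact h y hy

theorem data_Q : D.data.Q = D.Q := rfl

/-- only the subgroup moves every element along the involution -/
theorem faith {y : G} (hy : Commute y z) (h : ∀ m ∈ D.Q, y * m * y⁻¹ = m ∨ y * m * y⁻¹ = m * z) : y ∈ D.Q := by
  refine D.nu_faith hy fun x hx => ?_
  rcases h x hx with e | e <;> rw [e]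
  rw [D.nu_mul hx D.zQ, (D.nu_zero D.zQ).mpr (Or.inr (Or.inl rfl)), add_zero]

theorem act_cls {c x : G} (hc : c ∈ D.lin) (hx : x ∈ D.Q) :
    D.nu (c * x * c⁻¹) = D.core.vec (D.cls ⟨c, hc⟩ * D.cls ⟨x, D.Q_le hx⟩ * (D.cls ⟨c, hc⟩)⁻¹) := by
  rw [D.nu_eq (D.Q_le (D.normal c hc.1 x hx))]
  refine congrArg D.core.vec ?_
  simp only [cls, ← map_inv, ← map_mul]
  rfl

theorem core_img {c : G} (hc : c ∈ D.lin) : ι (D.core.img (D.cls ⟨c, hc⟩)) = D.img c := by
  rw [D.core.img_eq (D.cls_comm _)]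
  exact D.ι_qimg ⟨c, hc⟩

/-- the two models -/
theorem models :
    (D.core.toRep.CaseB ∧ ∃ B : ModelB D.data, B.img = D.img) ∨
      ∃ D' : Data z z1 V, D'.Q = D.Q ∧ Nonempty (ModelA D') := by
  classical
  haveI : Finite D.core.Sp := inferInstanceAs (Finite (Additive (D.core.Q ⧸ D.core.N)))
  rcases D.core.toRep.cases with hA | hB
  swap
  · left
    exact ⟨hB,
      { R := D.core.toRep
        caseB := hB
        img := D.img
        img_mul := fun c d hc hd => D.img_mul hc.1 hd.1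
        img_iff := fun c hc => D.img_eq_one hc.1
        act_lin := fun c hc g hg m => by
          have hl : c ∈ D.lin := ⟨hc.1, hg ▸ ⟨g, rfl⟩⟩
          have hx := D.nrep_mem m
          conv_rhs => rw [← D.nu_nrep m]
          show D.nu (c * D.nrep m * c⁻¹) = _
          rw [D.act_cls hl hx, D.nu_eq (D.Q_le hx), ← ι_inj ((D.core_img hl).trans hg),
            D.core.act_vec (D.cls_comm _) (D.cls_mem hx)]
        surj := fun g => by
          obtain ⟨c, hc, hcg⟩ := D.img_surj (ι g)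
          exact ⟨c, ⟨hc, D.lin_fix ⟨hc, hcg ▸ ⟨g, rfl⟩⟩⟩, hcg⟩
        q_iff := fun n hn => by
          show D.core.sqv (D.nu n) = 0 ↔ _
          rw [D.nu_eq (D.Q_le hn), D.core.sqv_vec (D.cls_mem hn)]
          constructor
          · intro h
            refine (D.sq n hn).resolve_right fun e => D.core.z1 ?_
            rw [← h, ← D.cls_mul]
            exact congrArg D.cls (Subtype.ext e.symm)
          · intro h
            rw [← D.cls_mul, ← D.cls_one]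
            exact congrArg D.cls (Subtype.ext h)
        b_eq := fun _ _ => rfl }, rfl⟩
  right
  obtain ⟨φ, hlin, hqφ⟩ := D.core.toRep.model hA
  obtain ⟨S, hfull, hSQ⟩ := D.core.exists_setup φ hlin hqφ
  have hmem : ∀ {q}, q ∈ D.core.Q → q ∈ S.Q := fun h => hSQ ▸ h
  have hadd : ∀ a b, S.ν (D.core.rep (a + b)) = S.ν (D.core.rep a) + S.ν (D.core.rep b) := by
    intro a b
    have h := (D.core.vec_iff (D.core.Q.mul_mem (D.core.rep_mem a) (D.core.rep_mem b)) (D.core.rep_mem (a + b))).mp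
      (by rw [D.core.vec_mul (D.core.rep_mem a) (D.core.rep_mem b), D.core.vec_rep, D.core.vec_rep, D.core.vec_rep])
    rw [← S.ν_mul _ (hmem (D.core.rep_mem a)) _ (hmem (D.core.rep_mem b))]
    rcases h with e | e <;> rw [e]
    exact S.ν_mulz (S.Q.mul_mem (hmem (D.core.rep_mem a)) (hmem (D.core.rep_mem b)))
  let f : D.core.Sp →+ V := AddMonoidHom.mk' (fun m => S.ν (D.core.rep m)) hadd
  have hf : Function.Bijective f := by
    refine ⟨fun a b e => ?_, fun v => ?_⟩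
    · rcases S.ν_eq (hmem (D.core.rep_mem a)) (hmem (D.core.rep_mem b)) e with h | h
      · rw [← D.core.vec_rep a, ← D.core.vec_rep b, h]
      · rw [← D.core.vec_rep a, ← D.core.vec_rep b, h]
        exact ((D.core.vec_iff (D.core.rep_mem b) (D.core.Q.mul_mem (D.core.rep_mem b) D.core.zQ)).mpr
          (Or.inr rfl)).symm
    · obtain ⟨q, hq, e⟩ := S.ν_surj v
      refine ⟨D.core.vec q, Eq.trans ?_ e⟩
      show S.ν (D.core.rep (D.core.vec q)) = S.ν q
      rcases (D.core.vec_iff (hSQ ▸ hq) (D.core.rep_mem _)).mp (D.core.vec_rep _).symm with h | h <;> rw [h]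
      exact S.ν_mulz hq
  let e : D.core.Sp ≃+ V := AddEquiv.ofBijective f hf
  have he : ∀ {q}, q ∈ D.core.Q → e (D.core.vec q) = S.ν q := fun {q} hq => by
    show S.ν (D.core.rep (D.core.vec q)) = S.ν q
    rcases (D.core.vec_iff hq (D.core.rep_mem _)).mp (D.core.vec_rep _).symm with h | h <;> rw [h]
    exact S.ν_mulz (hmem hq)
  have heν : ∀ {x} (hx : x ∈ D.Q), e (D.nu x) = S.ν (D.cls ⟨x, D.Q_le hx⟩) := fun hx => by
    rw [D.nu_eq (D.Q_le hx), he (D.cls_mem hx)]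
  obtain ⟨D', hD'⟩ : ∃ D' : Data z z1 V, D' = D.data.map e := ⟨_, rfl⟩
  have hQ' : D'.Q = D.Q := by rw [hD']; rfl
  have hν' : ∀ {x} (hx : x ∈ D.Q), D'.ν x = S.ν (D.cls ⟨x, D.Q_le hx⟩) := fun hx => by
    rw [hD']; exact heν hx
  have hsurj' : ∀ v, ∃ x ∈ D.Q, D'.ν x = v := fun v => hQ' ▸ D'.ν_surj v
  have hact : ∀ {c}, c ∈ D.lin → ∀ (hc : D'.In0 c) (hl : c ∈ D.lin) (v : V),
      D'.act c v = S.π (D.cls ⟨c, hl⟩) v := by
    intro c _ hc hl v
    obtain ⟨x, hx, rfl⟩ := hsurj' v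
    have hn := D.normal c hl.1 x hx
    rw [D'.act_vec c hc.1 hc.2 x (hQ' ▸ hx), hν' hn, hν' hx,
      ← S.ν_act _ (D.cls_comm _) _ (hmem (D.cls_mem hx))]
    refine congrArg S.ν ?_
    simp only [cls, ← map_inv, ← map_mul]
    rfl
  have hin : ∀ {c}, c ∈ D.lin → D'.In0 c := fun hc => ⟨hc.1, D.lin_fix hc⟩
  let π : G → Equiv.Perm V := fun c =>
    if hc : D'.In0 c then
      ⟨D'.act c, D'.act c⁻¹, fun v => D'.act_inv' hc v, fun v => D'.act_inv hc v⟩
    else 1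
  have hπ : ∀ {c}, D'.In0 c → ∀ v, π c v = D'.act c v := fun {c} hc v => by
    show (if hc : D'.In0 c then _ else (1 : Equiv.Perm V)) v = _
    rw [dif_pos hc]
    rfl
  have hsq : ∀ {n}, n ∈ D.Q → (n * n = 1 ↔ herm (D'.ν n) (D'.ν n) = 0) := fun {n} hn => by
    rw [hν' hn, ← S.ν_sq _ (hmem (D.cls_mem hn))]
    constructor
    · intro h
      rw [← D.cls_mul, ← D.cls_one]
      exact congrArg D.cls (Subtype.ext h)
    · intro h
      refine (D.sq n hn).resolve_right fun e => D.core.z1 ?_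
      rw [← h, ← D.cls_mul]
      exact congrArg D.cls (Subtype.ext e.symm)
  refine ⟨D', hQ', ⟨
    { π := π
      π_act := fun c hc v => (hπ hc v).symm
      π_semi := fun c hc => semi_of_normal
        (fun a b => by rw [hπ hc, hπ hc, hπ hc, D'.act_add hc]) (fun v => ?_) (fun g => ?_)
      surj := fun g => ?_
      sq_iff := fun n hn => hsq (hQ' ▸ hn)
      B_iff := fun a b => ?_ }⟩⟩
  · -- squares
    obtain ⟨x, hx, rfl⟩ := hsurj' v
    have hcx := D.normal c hc.1 x hx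
    have key : ∀ a b : F4, (a = 0 ∨ a = 1) → (b = 0 ∨ b = 1) → (a = 0 ↔ b = 0) → a = b := by decide +kernel
    refine key _ _ (q_cases _) (q_cases _) ?_
    rw [hπ hc, D'.act_vec c hc.1 hc.2 x (hQ' ▸ hx), ← hsq hcx, ← hsq hx,
      show c * x * c⁻¹ * (c * x * c⁻¹) = c * (x * x) * c⁻¹ by group]
    exact conj_eq_one_iff
  · -- the linear part is normalised
    obtain ⟨q, hq, hqg⟩ := S.π_surj g
    obtain ⟨d, rfl⟩ := QuotientGroup.mk'_surjective D.Z1 q
    have hd : (d : G) ∈ D.lin := d.2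
    have hm : c⁻¹ * (d : G) * c ∈ D.lin := ⟨(hc.1.inv_left.mul_left hd.1).mul_left hc.1, by
      rw [D.img_mul (hc.1.inv_left.mul_left hd.1) hc.1, D.img_mul hc.1.inv_left hd.1, D.img_inv hc.1]
      obtain ⟨g0, e0⟩ := hd.2
      rw [← e0]
      simpa using range_normal (D.img c)⁻¹ g0⟩
    obtain ⟨g', hg'⟩ := hfull (D.cls ⟨_, hm⟩) (D.cls_comm _)
    refine ⟨g', Equiv.ext fun v => ?_⟩
    rw [Equiv.Perm.mul_apply, Equiv.Perm.mul_apply, ← hg', ← hact hm (hin hm) hm, ← hqg, hπ hc, hπ hc]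
    rw [← D'.act_mul hc (hin hm)]
    show _ = S.π (D.cls ⟨(d : G), hd⟩) (D'.act c v)
    rw [← hact hd (hin hd) hd, ← D'.act_mul (hin hd) hc]
    congr 1
    group
  · obtain ⟨q, hq, hqg⟩ := S.π_surj g
    obtain ⟨d, rfl⟩ := QuotientGroup.mk'_surjective D.Z1 q
    refine ⟨(d : G), hin d.2, fun v => ?_⟩
    rw [hπ (hin d.2), hact d.2 (hin d.2) d.2, ← hqg]
    rfl
  · obtain ⟨x, hx, rfl⟩ := hsurj' a
    obtain ⟨y, hy, rfl⟩ := hsurj' b
    rw [← D'.comm_b x (hQ' ▸ hx) y (hQ' ▸ hy), hν' hx, hν' hy,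
      ← S.ν_comm _ (hmem (D.cls_mem hx)) _ (hmem (D.cls_mem hy)),
      ← D.core.b_zero (D.cls_mem hx) (D.cls_mem hy), ← D.nu_eq (D.Q_le hx), ← D.nu_eq (D.Q_le hy),
      D.nu_b hx hy]

end Cfsg.Agent.Spor.CHZ.DCore
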