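import Cfsg.Agent.Lib.Spor.FiTwo.CaseUQuot
import Cfsg.Agent.Lib.Small.Unitary.Simple
import Cfsg.Agent.S0280

/-!
A group with a central involution and simple unitary quotient: the derived group is perfect, and is simple when
it does not contain the involution.
-/

set_option autoImplicit false
set_option linter.unusedSectionVars false

namespace Cfsg.Agent.Spor.FiTwo.CaseU

open Cfsg.Agent.Spor.SpFour Cfsg.Agent.Small.Unitary Cfsg.Agent.Spor.CHZ

universe w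

variable {G : Type w} [Group G] [Finite G] {z z1 : G} (D : DCore z z1)
include D

theorem card_psu : Nat.card (Cfsg.PSU 6 F4 2) = 9196830720 := by
  have h := Cfsg.Agent.S0280.result (F := F4) (q := 2) (by rw [CHZ.hF]; norm_num) 6 (by norm_num)
  norm_num [Finset.prod_range_succ, Nat.even_iff] at h
  omega

/-- the derived group of the centraliser -/
structure Derived (U : Subgroup G) : Prop where
  le : ∀ u ∈ U, Commute u z1
  gen : ∀ x, Commute x z1 → x ∈ U ∨ x * z1 ∈ U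
  perf : ⁅U, U⁆ = U
  zU : z ∈ U
  linU : ⁅D.lin, D.lin⁆ ≤ U
  small : z1 ∉ U → Nat.card U = 9196830720 ∧
    ∀ M : Subgroup G, M ≤ U → (∀ u ∈ U, ∀ x ∈ M, u * x * u⁻¹ ∈ M) → M = ⊥ ∨ M = U

theorem derived (e : (↥(C1 z1) ⧸ NZ z1) ≃* Cfsg.PSU 6 F4 2)
    (hgen : ∀ c ∈ D.lin, c ∈ ⁅D.lin, D.lin⁆ ∨ c * z1 ∈ ⁅D.lin, D.lin⁆) :
    Derived D ⁅C1 z1, C1 z1⁆ := by
  haveI : IsSimpleGroup (Cfsg.PSU 6 F4 2) := psu_simple hstar (by rw [CHZ.hF]; norm_num) (by norm_num) (by norm_num)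
  haveI : IsSimpleGroup (↥(C1 z1) ⧸ NZ z1) := e.isSimpleGroup
  have hlinC : D.lin ≤ C1 z1 := fun c hc => mem_C1.mpr (D.lin_fix hc)
  have hlin : ⁅D.lin, D.lin⁆ ≤ ⁅C1 z1, C1 z1⁆ := Subgroup.commutator_mono hlinC hlinC
  obtain ⟨U, hU⟩ : ∃ U, U = ⁅C1 z1, C1 z1⁆ := ⟨_, rfl⟩
  rw [← hU] at hlin ⊢
  have hle : U ≤ C1 z1 := hU ▸ (Subgroup.commutator_le.mpr fun a ha b hb =>
    (C1 z1).mul_mem ((C1 z1).mul_mem ((C1 z1).mul_mem ha hb) ((C1 z1).inv_mem ha)) ((C1 z1).inv_mem hb))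
  -- the first involution is a commutator
  have hz : z ∈ ⁅D.lin, D.lin⁆ := by
    by_contra hno
    have hc : ∀ x ∈ D.Q, ∀ y ∈ D.Q, Commute x y := fun x hx y hy => by
      rcases D.comm x hx y hy with h | h
      · exact mul_inv_eq_iff_eq_mul.mp (mul_inv_eq_one.mp h)
      · exact absurd (Eq.subst (motive := fun w => w ∈ ⁅D.lin, D.lin⁆) h
          (Subgroup.commutator_mem_commutator (D.Q_le hx) (D.Q_le hy))) hno
    have hW : D.Q ≤ D.W := fun x hx => D.center x hx (hc x hx)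
    have := Subgroup.card_le_of_le hW
    rw [D.card, D.card_W] at this
    omega
  have hzC : z ∈ C1 z1 := hle (hlin hz)
  obtain ⟨M, hM⟩ : ∃ M, M = (U.subgroupOf (C1 z1)).map (QuotientGroup.mk' (NZ z1)) := ⟨_, rfl⟩
  haveI hMn : M.Normal := by
    rw [hM, hU]
    refine Subgroup.Normal.map ?_ _ (QuotientGroup.mk'_surjective _)
    refine ⟨fun n hn g => ?_⟩
    have : (Subgroup.map (MulAut.conj (g : G)).toMonoidHom ⁅C1 z1, C1 z1⁆) = ⁅C1 z1, C1 z1⁆ := by
      have hC : Subgroup.map (MulAut.conj (g : G)).toMonoidHom (C1 z1) = C1 z1 := by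
        refine Subgroup.eq_of_le_of_card_ge ?_
          (Subgroup.card_map_of_injective (MulAut.conj (g : G)).injective).ge
        rintro _ ⟨x, hx, rfl⟩
        exact (C1 z1).mul_mem ((C1 z1).mul_mem g.2 hx) ((C1 z1).inv_mem g.2)
      rw [Subgroup.map_commutator, hC]
    rw [Subgroup.mem_subgroupOf, ← this]
    exact ⟨_, hn, rfl⟩
  have hMtop : M = ⊤ := by
    refine hMn.eq_bot_or_eq_top.resolve_left fun hb => ?_
    have h1 : QuotientGroup.mk' (NZ z1) (⟨z, hzC⟩ : ↥(C1 z1)) ∈ M :=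
      hM ▸ Subgroup.mem_map_of_mem _ (Subgroup.mem_subgroupOf.mpr (hlin hz))
    rw [hb, Subgroup.mem_bot, ← map_one (QuotientGroup.mk' (NZ z1)), eq_comm, mk_eq D] at h1
    rcases h1 with h1 | h1
    · exact D.ne_one h1
    · exact D.ne_z (h1.trans (one_mul z1)).symm
  have hgenU : ∀ x, Commute x z1 → x ∈ U ∨ x * z1 ∈ U := by
    intro x hx
    obtain ⟨u, hu, hux⟩ := Subgroup.mem_map.mp
      (hM ▸ hMtop ▸ Subgroup.mem_top (QuotientGroup.mk' (NZ z1) (⟨x, mem_C1.mpr hx⟩ : ↥(C1 z1))))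
    rcases (mk_eq D).mp hux.symm with h1 | h1
    · exact Or.inl ((show (u : G) = x from h1) ▸ hu)
    · exact Or.inr ((show (u : G) = x * z1 from h1) ▸ hu)
  refine ⟨fun u hu => mem_C1.mp (hle hu), hgenU, ?_, hlin hz, hlin, fun h1U => ⟨?_, fun V hV hn => ?_⟩⟩
  · refine le_antisymm (Subgroup.commutator_le.mpr fun a ha b hb =>
      U.mul_mem (U.mul_mem (U.mul_mem ha hb) (U.inv_mem ha)) (U.inv_mem hb)) ?_
    conv_lhs => rw [hU]
    refine Subgroup.commutator_le.mpr fun a ha b hb => ?_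
    have hc : ∀ {y}, y ∈ C1 z1 → Commute z1 y := fun hy => (mem_C1.mp hy).symm
    obtain ⟨u, hu, ea⟩ : ∃ u ∈ U, a = u ∨ a = u * z1 := by
      rcases hgenU a (mem_C1.mp ha) with h1 | h1
      exacts [⟨a, h1, Or.inl rfl⟩, ⟨_, h1, Or.inr (by rw [mul_assoc, D.sq1, mul_one])⟩]
    obtain ⟨v, hv, eb⟩ : ∃ v ∈ U, b = v ∨ b = v * z1 := by
      rcases hgenU b (mem_C1.mp hb) with h1 | h1
      exacts [⟨b, h1, Or.inl rfl⟩, ⟨_, h1, Or.inr (by rw [mul_assoc, D.sq1, mul_one])⟩]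
    have e1 : a * b * a⁻¹ = u * b * u⁻¹ := by
      rcases ea with h1 | h1 <;> rw [h1]
      rw [mul_inv_rev, D.one_inv, mul_assoc u z1, (hc hb).eq, ← mul_assoc u, mul_assoc (u * b) z1, ← mul_assoc z1,
        D.sq1, one_mul]
    have e2 : u * b * u⁻¹ * b⁻¹ = u * v * u⁻¹ * v⁻¹ := by
      rcases eb with h1 | h1 <;> rw [h1]
      rw [mul_inv_rev, D.one_inv, ← mul_assoc u v z1, mul_assoc (u * v) z1, (hc ((C1 z1).inv_mem (hle hu))).eq,
        ← mul_assoc (u * v), mul_assoc (u * v * u⁻¹) z1, ← mul_assoc z1, D.sq1, one_mul]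
    have h2 : a * b * a⁻¹ * b⁻¹ ∈ ⁅U, U⁆ := by
      rw [e1, e2]
      exact Subgroup.commutator_mem_commutator hu hv
    exact h2
  · rw [← card_psu D, ← Nat.card_congr e.toEquiv]
    refine Nat.card_eq_of_bijective (fun u : U => QuotientGroup.mk' (NZ z1) (⟨(u : G), hle u.2⟩ : ↥(C1 z1)))
      ⟨fun a b hab => ?_, fun q => ?_⟩
    · rcases (mk_eq D).mp hab with h1 | h1
      · exact Subtype.ext h1.symm
      · exact absurd (by
          have := U.mul_mem (U.inv_mem a.2) b.2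
          rwa [show ((b : G)) = a * z1 from h1, inv_mul_cancel_left] at this) h1U
    · obtain ⟨c, rfl⟩ := QuotientGroup.mk'_surjective (NZ z1) q
      rcases hgenU c (mem_C1.mp c.2) with h1 | h1
      · exact ⟨⟨c, h1⟩, rfl⟩
      · exact ⟨⟨_, h1⟩, (mk_eq D).mpr (Or.inr (by show (c : G) = c * z1 * z1; rw [mul_assoc, D.sq1, mul_one]))⟩
  · obtain ⟨P, hP⟩ : ∃ P, P = (V.subgroupOf (C1 z1)).map (QuotientGroup.mk' (NZ z1)) := ⟨_, rfl⟩
    haveI hPn : P.Normal := by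
      rw [hP]
      refine Subgroup.Normal.map ⟨fun n hn' g => ?_⟩ _ (QuotientGroup.mk'_surjective _)
      rcases hgenU g (mem_C1.mp g.2) with h1 | h1
      · exact hn _ h1 _ hn'
      · have := hn _ h1 _ hn'
        rw [Subgroup.coe_subtype] at this
        show (g : G) * n * (g : G)⁻¹ ∈ V
        rwa [mul_inv_rev, D.one_inv, mul_assoc (g : G) z1, ← (mem_C1.mp n.2).eq, ← mul_assoc (g : G),
          mul_assoc _ z1, ← mul_assoc z1, D.sq1, one_mul] at this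
    have inj : ∀ {x}, x ∈ U → ∀ {y}, y ∈ U → (y = x ∨ y = x * z1) → y = x := fun {x} hx {y} hy hxy =>
      hxy.resolve_right fun e' => h1U (by
        have := U.mul_mem (U.inv_mem hx) hy
        rwa [e', inv_mul_cancel_left] at this)
    rcases hPn.eq_bot_or_eq_top with hb | hb
    · refine Or.inl ((Subgroup.eq_bot_iff_forall V).mpr fun x hx => ?_)
      have h1 : QuotientGroup.mk' (NZ z1) (⟨x, hle (hV hx)⟩ : ↥(C1 z1)) ∈ P :=
        hP ▸ Subgroup.mem_map_of_mem _ (Subgroup.mem_subgroupOf.mpr hx)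
      rw [hb, Subgroup.mem_bot, ← map_one (QuotientGroup.mk' (NZ z1)), eq_comm, mk_eq D] at h1
      exact inj U.one_mem (hV hx) h1
    · refine Or.inr (le_antisymm hV fun u hu => ?_)
      obtain ⟨p, hp, hpu⟩ := Subgroup.mem_map.mp
        (hP ▸ hb ▸ Subgroup.mem_top (QuotientGroup.mk' (NZ z1) (⟨u, hle hu⟩ : ↥(C1 z1))))
      rw [inj (hV hp) hu ((mk_eq D).mp hpu)]
      exact hp

end Cfsg.Agent.Spor.FiTwo.CaseU
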