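import Cfsg.Agent.Lib.Spor.FiTwo.CaseUDerived
import Cfsg.Agent.Lib.Spor.CHZ.XMain

/-!
A normal subgroup avoiding the second involution and containing the derived group of its centraliser: it has
the unitary group with index at most two, containing all perfect subgroups.
-/

set_option autoImplicit false
set_option linter.unusedSectionVars false
set_option maxHeartbeats 1600000

namespace Cfsg.Agent.Spor.FiTwo.CaseU

open Cfsg.Agent.Spor.SpFour Cfsg.Agent.Small.Unitary Cfsg.Agent.Spor.CHZ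

universe w u

/-- a perfect subgroup is inside any subgroup of index two -/
theorem perfect_le_index_two {G : Type u} [Group G] {T P : Subgroup G} (hT : ⁅T, T⁆ = T) (hP : P.index = 2) :
    T ≤ P := by
  conv_lhs => rw [← hT]
  refine Subgroup.commutator_le.mpr fun a _ b _ => ?_
  show a * b * a⁻¹ * b⁻¹ ∈ P
  rw [Subgroup.mul_mem_iff_of_index_two hP, Subgroup.mul_mem_iff_of_index_two hP,
    Subgroup.mul_mem_iff_of_index_two hP, inv_mem_iff, inv_mem_iff]
  tauto

variable {G : Type w} [Group G] [Finite G] {z z1 : G} (D : DCore z z1)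
include D

theorem card_cent : Nat.card (Subgroup.centralizer ({z} : Set G)) = 1024 * 51840 := by
  have hle : D.Q ≤ Subgroup.centralizer ({z} : Set G) := fun x hx =>
    Subgroup.mem_centralizer_singleton_iff.mpr (D.cent x hx).eq
  rw [← Subgroup.index_mul_card D.ψ.ker, Subgroup.index_ker, MonoidHom.range_eq_top.mpr D.ψ_surj,
    Subgroup.card_top, card_Gam, mul_comm]
  congr 1
  rw [← D.card]
  exact Nat.card_congr
    { toFun := fun c => ⟨((c : ↥(Subgroup.centralizer ({z} : Set G))) : G), (D.ψ_ker _).mp c.2⟩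
      invFun := fun x => ⟨⟨x, hle x.2⟩, (D.ψ_ker _).mpr x.2⟩
      left_inv := fun _ => rfl
      right_inv := fun _ => rfl }

theorem inner {U : Subgroup G} (hD : Derived D U) (h1U : z1 ∉ U)
    (hgen : ∀ c ∈ D.lin, c ∈ ⁅D.lin, D.lin⁆ ∨ c * z1 ∈ ⁅D.lin, D.lin⁆) {N : Subgroup G} [hNn : N.Normal]
    (h1N : z1 ∉ N) (hUN : U ≤ N) :
    ∃ E : Subgroup G, Nat.card E = 9196830720 ∧ ∀ T : Subgroup G, T ≤ N → ⁅T, T⁆ = T → T ≤ E := by
  classical
  obtain ⟨hcU, hsimple⟩ := hD.small h1U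
  have hzNm : z ∈ N := hUN hD.zU
  obtain ⟨zN, hzN⟩ : ∃ zN : ↥N, (zN : G) = z := ⟨⟨z, hzNm⟩, rfl⟩
  have hcm : ∀ {c : ↥N}, Commute c zN → Commute (c : G) z := fun {c} h => hzN ▸ congrArg Subtype.val h.eq
  have hcm' : ∀ {c : ↥N}, Commute (c : G) z → Commute c zN := fun {c} h => Subtype.ext (by
    show (c : G) * zN = zN * c
    rw [hzN]; exact h.eq)
  have hLN : ⁅D.lin, D.lin⁆ ≤ N := hD.linU.trans hUN
  have hQgen : ∀ x ∈ D.Q, x ∈ N ∨ x * z1 ∈ N := fun x hx => (hgen x (D.Q_le hx)).imp (@hLN _) (@hLN _)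
  obtain ⟨QN, hQN⟩ : ∃ QN : Subgroup ↥N, QN = D.Q.subgroupOf N := ⟨_, rfl⟩
  have hm : ∀ {x : ↥N}, x ∈ QN ↔ (x : G) ∈ D.Q := fun {x} => by rw [hQN, Subgroup.mem_subgroupOf]
  have hcard : Nat.card QN = 512 := by
    have hb : Function.Bijective (fun p : ↥QN × Bool =>
        (⟨((p.1 : ↥N) : G) * (if p.2 then z1 else 1),
          D.Q.mul_mem (hm.mp p.1.2) (by split_ifs; exacts [D.oneQ, D.Q.one_mem])⟩ : ↥D.Q)) := by
      refine ⟨?_, fun x => ?_⟩
      · rintro ⟨a, i⟩ ⟨b, j⟩ hab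
        have e : ((a : ↥N) : G) * (if i then z1 else 1) = ((b : ↥N) : G) * (if j then z1 else 1) :=
          congrArg Subtype.val hab
        have key : ∀ {a b : ↥N}, (a : G) * z1 ≠ b := fun {a b} e' => h1N (by
          have := N.mul_mem (N.inv_mem a.2) b.2
          rwa [← e', inv_mul_cancel_left] at this)
        cases i <;> cases j <;> simp only [Bool.false_eq_true, if_false, if_true, mul_one] at e
        · exact Prod.ext (Subtype.ext (Subtype.ext e)) rfl
        · exact absurd e.symm key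
        · exact absurd e key
        · exact Prod.ext (Subtype.ext (Subtype.ext (mul_right_cancel e))) rfl
      · rcases hQgen x x.2 with h | h
        · exact ⟨(⟨⟨x, h⟩, hm.mpr x.2⟩, false), Subtype.ext (mul_one _)⟩
        · exact ⟨(⟨⟨_, h⟩, hm.mpr (D.Q.mul_mem x.2 D.oneQ)⟩, true), Subtype.ext (by
            show (x : G) * z1 * z1 = x
            rw [mul_assoc, D.sq1, mul_one])⟩
    have h := Nat.card_eq_of_bijective _ hb
    rw [Nat.card_prod, D.card, Nat.card_eq_fintype_card (α := Bool), Fintype.card_bool] at h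
    omega
  have hN1 : zN ≠ 1 := fun e => D.ne_one (by rw [← hzN, e]; rfl)
  have hN2 : zN * zN = 1 := Subtype.ext (by show (zN : G) * zN = 1; rw [hzN]; exact D.sqz)
  have hcent : ∀ x ∈ QN, Commute x zN := fun x hx => hcm' (D.cent _ (hm.mp hx))
  have hnormal : ∀ c, Commute c zN → ∀ x ∈ QN, c * x * c⁻¹ ∈ QN := fun c hc x hx =>
    hm.mpr (D.normal _ (hcm hc) _ (hm.mp hx))
  have hzQ : zN ∈ QN := hm.mpr (hzN.symm ▸ D.zQ)
  have hcomm : ∀ x ∈ QN, ∀ y ∈ QN, x * y * x⁻¹ * y⁻¹ = 1 ∨ x * y * x⁻¹ * y⁻¹ = zN := fun x hx y hy =>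
    (D.comm _ (hm.mp hx) _ (hm.mp hy)).imp (fun e => Subtype.ext e) fun e => Subtype.ext (e.trans hzN.symm)
  have hsq : ∀ x ∈ QN, x * x = 1 ∨ x * x = zN := fun x hx =>
    (D.sq _ (hm.mp hx)).imp (fun e => Subtype.ext e) fun e => Subtype.ext (e.trans hzN.symm)
  have hext : ∀ {a : G}, Commute a z1 → (∀ y ∈ QN, Commute a ((y : ↥N) : G)) → ∀ y ∈ D.Q, Commute a y := by
    intro a ha hall y hy
    rcases hQgen y hy with h | h
    · exact hall ⟨y, h⟩ (hm.mpr hy)
    · have := (hall ⟨_, h⟩ (hm.mpr (D.Q.mul_mem hy D.oneQ))).mul_right ha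
      rwa [mul_assoc, D.sq1, mul_one] at this
  have hcenter : ∀ x ∈ QN, (∀ y ∈ QN, Commute x y) → x = 1 ∨ x = zN := by
    intro x hx h
    rcases D.center _ (hm.mp hx) (hext (D.cent1 _ (hm.mp hx)) fun y hy => congrArg Subtype.val (h y hy).eq) with
      e | e | e | e
    · exact Or.inl (Subtype.ext e)
    · exact Or.inr (Subtype.ext (e.trans hzN.symm))
    · exact absurd (e ▸ x.2) h1N
    · exact absurd (by
        have := N.mul_mem (e ▸ x.2 : z1 * z ∈ N) hzNm
        rwa [mul_assoc, D.sqz, mul_one] at this) h1N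
  have hθdef : ∀ c : ↥(Subgroup.centralizer ({zN} : Set ↥N)), Commute ((c : ↥N) : G) z := fun c =>
    hcm (Subgroup.mem_centralizer_singleton_iff.mp c.2)
  let θ : ↥(Subgroup.centralizer ({zN} : Set ↥N)) →* ↥Gam :=
    MonoidHom.mk' (fun c => D.img ((c : ↥N) : G)) fun a b => D.img_mul (hθdef a) (hθdef b)
  have hθker : ∀ c, θ c = 1 ↔ (c : ↥N) ∈ QN := fun c => (D.img_eq_one (hθdef c)).trans hm.symm
  have hθlin : ∀ g : L, ∃ c, θ c = ι g := by
    intro g
    obtain ⟨c, hc, hcg⟩ := D.img_surj (ι g)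
    rcases hgen c ⟨hc, hcg ▸ ⟨g, rfl⟩⟩ with h | h
    · exact ⟨⟨⟨c, hLN h⟩, Subgroup.mem_centralizer_singleton_iff.mpr (hcm' (c := ⟨c, hLN h⟩) hc).eq⟩, hcg⟩
    · refine ⟨⟨⟨c * z1, hLN h⟩, Subgroup.mem_centralizer_singleton_iff.mpr
        (hcm' (c := ⟨c * z1, hLN h⟩) (hc.mul_left (D.cent z1 D.oneQ))).eq⟩, ?_⟩
      show D.img (c * z1) = ι g
      rw [D.img_mul hc (D.cent z1 D.oneQ), D.img_Q D.oneQ, mul_one, hcg]
  have hself1 : ∀ {a : G}, Commute a z → Commute a z1 → (∀ y ∈ QN, Commute a ((y : ↥N) : G)) → a ∈ D.Q :=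
    fun ha ha1 h => D.self _ ha (hext ha1 h)
  have hself : ∀ c, Commute c zN → (∀ x ∈ QN, Commute c x) → c ∈ QN := by
    intro c hc h
    have hq : ∀ y ∈ QN, Commute (c : G) ((y : ↥N) : G) := fun y hy => congrArg Subtype.val (h y hy).eq
    refine hm.mpr (hself1 (hcm hc) ?_ hq)
    rcases D.conj_one (hcm hc) with e | e
    · exact mul_inv_eq_iff_eq_mul.mp e
    exfalso
    have h1 : D.img (c : G) = 1 := centralizes fun g => by
      obtain ⟨g', hg', hgimg⟩ := D.img_surj (ι g)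
      have hg1 : Commute g' z1 := D.lin_fix ⟨hg', hgimg ▸ ⟨g, rfl⟩⟩
      have hcg : Commute (g' * c * g'⁻¹) z := (hg'.mul_left (hcm hc)).mul_left hg'.inv_left
      have he : g' * c * g'⁻¹ * z1 * (g' * c * g'⁻¹)⁻¹ = z1 * z := by
        rw [show g' * c * g'⁻¹ * z1 * (g' * c * g'⁻¹)⁻¹ =
          g' * ((c : G) * (g'⁻¹ * z1 * g') * (c : G)⁻¹) * g'⁻¹ by group,
          mul_assoc g'⁻¹, ← hg1.eq, inv_mul_cancel_left, e, (hg1.mul_right hg').eq, mul_inv_cancel_right]
      have hd : (c : G)⁻¹ * (g' * c * g'⁻¹) ∈ D.Q := by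
        refine hself1 ((hcm hc).inv_left.mul_left hcg) (mul_inv_eq_iff_eq_mul.mp ?_) fun y hy =>
          (hq y hy).inv_left.mul_left ?_
        · calc (c : G)⁻¹ * (g' * c * g'⁻¹) * z1 * ((c : G)⁻¹ * (g' * c * g'⁻¹))⁻¹
              = (c : G)⁻¹ * (g' * c * g'⁻¹ * z1 * (g' * c * g'⁻¹)⁻¹) * c := by group
            _ = (c : G)⁻¹ * ((c : G) * z1 * (c : G)⁻¹) * c := by rw [he, e]
            _ = z1 := by group
        · -- the conjugated element still centralises the subgroup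
          have hy' : g'⁻¹ * (y : G) * g' ∈ N := by simpa using hNn.conj_mem _ y.2 g'⁻¹
          have hyQ : g'⁻¹ * (y : G) * g' ∈ D.Q := by simpa using D.normal _ hg'.inv_left _ (hm.mp hy)
          have := (hq ⟨_, hy'⟩ (hm.mpr hyQ)).map (MulAut.conj g').toMonoidHom
          simpa [mul_assoc] using this
      have e2 := (D.img_eq_one ((hcm hc).inv_left.mul_left hcg)).mpr hd
      rw [D.img_mul (hcm hc).inv_left hcg, D.img_mul (hg'.mul_left (hcm hc)) hg'.inv_left, D.img_mul hg' (hcm hc),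
        D.img_inv hg', D.img_inv (hcm hc), hgimg, inv_mul_eq_one] at e2
      exact mul_inv_eq_iff_eq_mul.mp e2.symm |>.symm
    rw [(D.cent1 _ ((D.img_eq_one (hcm hc)).mp h1)).eq, mul_inv_cancel_right] at e
    exact D.ne_one (mul_eq_left.mp e.symm)
  have hzo : orderOf zN = 2 := orderOf_eq_prime (by rw [pow_two]; exact hN2) hN1
  -- no odd extension
  have hsplit : ¬ Subgroup.centralizer ({zN} : Set ↥N) ⊔ Cfsg.oddCore ↥N = ⊤ := by
    intro e
    haveI hOn : (Cfsg.oddCore ↥N).Normal := Cfsg.pPrimeCore_normal 2 _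
    have hdisj : U ⊓ (Cfsg.oddCore ↥N).map N.subtype = ⊥ := by
      refine (hsimple _ inf_le_left fun u hu x hx => ⟨U.mul_mem (U.mul_mem hu hx.1) (U.inv_mem hu), ?_⟩).resolve_right
        fun e' => ?_
      · obtain ⟨o, ho, hox⟩ := hx.2
        exact ⟨⟨u, hUN hu⟩ * o * ⟨u, hUN hu⟩⁻¹, hOn.conj_mem o ho _, by rw [← hox]; rfl⟩
      · obtain ⟨o, ho, hoz⟩ := (inf_eq_left.mp e') hD.zU
        have e2 : o = zN := Subtype.ext (hoz.trans hzN.symm)
        subst e2
        have h2 := (Subgroup.orderOf_mk _ ho).symm ▸ orderOf_dvd_natCard (⟨o, ho⟩ : Cfsg.oddCore ↥N)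
        rw [hzo] at h2
        obtain ⟨j, hj⟩ := Char.card_oddCore_odd ↥N
        omega
    let η := QuotientGroup.mk' (Cfsg.oddCore ↥N)
    have hinj : Function.Injective fun u : U => η ⟨(u : G), hUN u.2⟩ := fun a b hab => by
      have h1 : ((a : G))⁻¹ * b ∈ U ⊓ (Cfsg.oddCore ↥N).map N.subtype :=
        ⟨U.mul_mem (U.inv_mem a.2) b.2, ⟨_, QuotientGroup.eq.mp hab, rfl⟩⟩
      rw [hdisj] at h1
      exact Subtype.ext (inv_mul_eq_one.mp (Subgroup.mem_bot.mp h1))
    have hsur : Function.Surjective fun c : ↥(Subgroup.centralizer ({zN} : Set ↥N)) => η c := fun b => by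
      obtain ⟨n, rfl⟩ := QuotientGroup.mk'_surjective _ b
      obtain ⟨c, hc, o, ho, rfl⟩ := Subgroup.mem_sup_of_normal_right.mp (e ▸ Subgroup.mem_top n)
      exact ⟨⟨c, hc⟩, by show η c = η (c * o); rw [map_mul, show η o = 1 from (QuotientGroup.eq_one_iff o).mpr ho, mul_one]⟩
    have hle : Nat.card (Subgroup.centralizer ({zN} : Set ↥N)) ≤ 1024 * 51840 := by
      rw [← card_cent D]
      exact Nat.card_le_card_of_injective (fun c => (⟨((c : ↥N) : G), Subgroup.mem_centralizer_singleton_iff.mpr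
        (hθdef c).eq⟩ : ↥(Subgroup.centralizer ({z} : Set G))))
        fun a b hab => Subtype.ext (Subtype.ext (Subtype.mk.inj hab))
    have := (Nat.card_le_card_of_injective _ hinj).trans ((Nat.card_le_card_of_surjective _ hsur).trans hle)
    omega
  by_cases hodd : ∀ c, θ c ∈ ι.range
  · let K' : CHZ.Core zN :=
      { Q := QN
        ψ := (MonoidHom.ofInjective ι_inj).symm.toMonoidHom.comp (θ.codRestrict ι.range hodd)
        ψ_surj := fun g => by
          obtain ⟨c, hc⟩ := hθlin g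
          refine ⟨c, ?_⟩
          rw [MonoidHom.comp_apply, MulEquiv.coe_toMonoidHom, MulEquiv.symm_apply_eq]
          exact Subtype.ext hc
        ψ_ker := fun c => by
          rw [MonoidHom.comp_apply, MulEquiv.coe_toMonoidHom, MulEquiv.map_eq_one_iff, ← hθker]
          exact ⟨fun e => congrArg Subtype.val e, fun e => Subtype.ext e⟩
        z1 := hN1, z2 := hN2, cent := hcent, normal := hnormal, zQ := hzQ
        card := hcard, comm := hcomm, sq := hsq, center := hcenter, self := hself }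
    obtain ⟨e⟩ := (CHZ.main_core K' hzo CHZ.hF).resolve_right hsplit
    exact ⟨N, by rw [← card_psu D]; exact Nat.card_congr e.toEquiv, fun T hT _ => hT⟩
  · push Not at hodd
    obtain ⟨c0, hc0⟩ := hodd
    let X : CHZ.XCore zN :=
      { Q := QN
        ψ := θ
        ψ_surj := fun f => by
          by_cases hf : f ∈ ι.range
          · obtain ⟨g, rfl⟩ := hf; exact hθlin g
          · obtain ⟨g, hg⟩ : f * (θ c0)⁻¹ ∈ ι.range :=
              CHZ.mul_mem_range.mpr (by rw [inv_mem_iff]; exact iff_of_false hf hc0)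
            obtain ⟨c, hc⟩ := hθlin g
            exact ⟨c * c0, by rw [map_mul, hc, hg, inv_mul_cancel_right]⟩
        ψ_ker := hθker
        z1 := hN1, z2 := hN2, cent := hcent, normal := hnormal, zQ := hzQ
        card := hcard, comm := hcomm, sq := hsq, center := hcenter, self := hself }
    obtain ⟨G0, hidx, ⟨e⟩, -⟩ := (CHZ.main_xcore X hzo CHZ.hF).resolve_right hsplit
    refine ⟨G0.map N.subtype, ?_, fun T hT hTp => ?_⟩
    · rw [Subgroup.card_map_of_injective N.subtype_injective, ← card_psu D]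
      exact Nat.card_congr e.toEquiv
    · intro x hx
      have hT' : ⁅T.subgroupOf N, T.subgroupOf N⁆ = T.subgroupOf N := by
        apply Subgroup.map_injective N.subtype_injective
        rw [Subgroup.map_commutator, Subgroup.map_subgroupOf_eq_of_le hT, hTp]
      exact ⟨⟨x, hT hx⟩, perfect_le_index_two hT' hidx hx, rfl⟩

end Cfsg.Agent.Spor.FiTwo.CaseU
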