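import Cfsg.Agent.Lib.Spor.FiTwo.CaseUTools
import Cfsg.Agent.Lib.Spor.FiTwo.Data

/-!
The centraliser of the second involution when the first centraliser does not fix it: its quotient by the
involution is the unitary group, and the linear part is its derived group with that involution.
-/

set_option autoImplicit false
set_option linter.unusedSectionVars false
set_option maxHeartbeats 800000

namespace Cfsg.Agent.Spor.FiTwo.CaseU

open Cfsg.Agent.Spor.SpFour Cfsg.Agent.Small.Unitary Cfsg.Agent.Spor.CHZ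

universe w

variable {G : Type w} [Group G]

/-- the centraliser of an element -/
abbrev C1 (a : G) : Subgroup G := Subgroup.centralizer ({a} : Set G)

/-- its cyclic subgroup inside -/
abbrev NZ (a : G) : Subgroup ↥(C1 a) := (Subgroup.zpowers a).subgroupOf (C1 a)

theorem mem_C1 {a c : G} : c ∈ C1 a ↔ Commute c a := Subgroup.mem_centralizer_singleton_iff

instance NZ_normal (a : G) : (NZ a).Normal := ⟨fun n hn g => by
  obtain ⟨k, hk⟩ := Subgroup.mem_zpowers_iff.mp (Subgroup.mem_subgroupOf.mp hn)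
  have e : g * n * g⁻¹ = n := Subtype.ext (by
    show (g : G) * n * (g : G)⁻¹ = n
    rw [← hk, ((mem_C1.mp g.2).zpow_right k).eq, mul_inv_cancel_right])
  rwa [e]⟩

variable [Finite G] {z z1 : G} (D : DCore z z1)
include D

theorem mk_eq {x y : ↥(C1 z1)} :
    QuotientGroup.mk' (NZ z1) x = QuotientGroup.mk' (NZ z1) y ↔ (y : G) = x ∨ (y : G) = x * z1 := by
  rw [QuotientGroup.mk'_apply, QuotientGroup.mk'_apply, QuotientGroup.eq]
  show ((x⁻¹ * y : ↥(C1 z1)) : G) ∈ Subgroup.zpowers z1 ↔ _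
  rw [D.mem_zp1, Subgroup.coe_mul, Subgroup.coe_inv]
  exact or_congr (inv_mul_eq_one.trans eq_comm) inv_mul_eq_iff_eq_mul

variable {h : G} (hh : Commute h z) (hsw : h * z1 * h⁻¹ = z1 * z)
include hh hsw

theorem lin_eq {c : G} : c ∈ D.lin ↔ Commute c z ∧ Commute c z1 := by
  refine ⟨fun hc => ⟨hc.1, D.lin_fix hc⟩, fun ⟨hc, hc1⟩ => ⟨hc, ?_⟩⟩
  by_contra hn
  have hne : h ∉ D.lin := fun hl => D.ne_one (mul_eq_left.mp (hsw.symm.trans
    (by rw [(D.lin_fix hl).eq, mul_inv_cancel_right])))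
  have hm : h * c ∈ D.lin := ⟨hh.mul_left hc, by
    rw [D.img_mul hh hc]
    exact mul_mem_range.mpr (iff_of_false (fun hl => hne ⟨hh, hl⟩) hn)⟩
  have h1 : Commute h z1 := by
    have := (D.lin_fix hm).mul_left hc1.inv_left
    rwa [mul_inv_cancel_right] at this
  exact D.ne_one (mul_eq_left.mp (hsw.symm.trans (by rw [h1.eq, mul_inv_cancel_right])))

theorem not_conj (hn1 : ¬ IsConj z z1) : ¬ IsConj z (z1 * z) := fun e =>
  hn1 (e.trans (IsConj.symm (isConj_iff.mpr ⟨h, hsw⟩)))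

/-- the inclusion of the quotient of the linear part -/
noncomputable def jL : D.LQ →* ↥(C1 z1) ⧸ NZ z1 :=
  QuotientGroup.map D.Z1 (NZ z1) (Subgroup.inclusion fun c hc => mem_C1.mpr ((lin_eq D hh hsw).mp hc).2)
    fun c hc => hc

theorem jL_cls (c : ↥D.lin) : jL D hh hsw (D.cls c) =
    QuotientGroup.mk' (NZ z1) ⟨(c : G), mem_C1.mpr ((lin_eq D hh hsw).mp c.2).2⟩ := rfl

theorem jL_inj : Function.Injective (jL D hh hsw) := fun a b e => by
  obtain ⟨x, rfl⟩ := QuotientGroup.mk'_surjective D.Z1 a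
  obtain ⟨y, rfl⟩ := QuotientGroup.mk'_surjective D.Z1 b
  exact D.cls_eq.mpr ((mk_eq D).mp e)

theorem jL_cent (hn1 : ¬ IsConj z z1) (b : ↥(C1 z1) ⧸ NZ z1) (hb : Commute b (jL D hh hsw D.zb)) :
    b ∈ (jL D hh hsw).range := by
  obtain ⟨c, rfl⟩ := QuotientGroup.mk'_surjective (NZ z1) b
  have hz : z ∈ C1 z1 := mem_C1.mpr D.z_comm
  have e : QuotientGroup.mk' (NZ z1) (c * ⟨z, hz⟩ * c⁻¹) = QuotientGroup.mk' (NZ z1) ⟨z, hz⟩ := by
    rw [map_mul, map_mul, map_inv]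
    exact mul_inv_eq_iff_eq_mul.mpr hb.eq
  have hc1 : Commute (c : G) z1 := mem_C1.mp c.2
  have hcl : (c : G) ∈ D.lin := by
    refine (lin_eq D hh hsw).mpr ⟨?_, hc1⟩
    rcases (mk_eq D).mp e.symm with h1 | h1
    · exact mul_inv_eq_iff_eq_mul.mp h1
    · refine absurd (isConj_iff.mpr ⟨(c : G), ?_⟩) (not_conj D hh hsw hn1)
      exact h1.trans D.z_comm.eq
  exact ⟨D.cls ⟨_, hcl⟩, rfl⟩

/-- the quotient is the unitary group and the linear part is nearly perfect -/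
theorem quot (hn1 : ¬ IsConj z z1) (hns : ¬ Split z z1) :
    Nonempty ((↥(C1 z1) ⧸ NZ z1) ≃* Cfsg.PSU 6 F4 2) ∧
      ∀ c ∈ D.lin, c ∈ ⁅D.lin, D.lin⁆ ∨ c * z1 ∈ ⁅D.lin, D.lin⁆ := by
  classical
  let K := mapCore D.core (jL D hh hsw) (jL_inj D hh hsw) (jL_cent D hh hsw hn1)
  have hz : z ∈ C1 z1 := mem_C1.mpr D.z_comm
  have hzo : orderOf (jL D hh hsw D.zb) = 2 := orderOf_eq_prime (by rw [pow_two]; exact K.z2) K.z1
  have hzval : jL D hh hsw D.zb = QuotientGroup.mk' (NZ z1) ⟨z, hz⟩ := rfl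
  have hnot : Subgroup.centralizer ({jL D hh hsw D.zb} : Set (↥(C1 z1) ⧸ NZ z1)) ⊔
      Cfsg.oddCore (↥(C1 z1) ⧸ NZ z1) ≠ ⊤ := by
    intro e
    refine hns fun c hc => ?_
    obtain ⟨q, hq⟩ : ∃ q, q = QuotientGroup.mk' (NZ z1) (⟨c, mem_C1.mpr hc⟩ : ↥(C1 z1)) := ⟨_, rfl⟩
    haveI hOn : (Cfsg.oddCore (↥(C1 z1) ⧸ NZ z1)).Normal := Cfsg.pPrimeCore_normal 2 _
    obtain ⟨o, ho, k, hk, hok⟩ := Subgroup.mem_sup_of_normal_left.mp
      (show q ∈ Cfsg.oddCore (↥(C1 z1) ⧸ NZ z1) ⊔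
        Subgroup.centralizer ({jL D hh hsw D.zb} : Set (↥(C1 z1) ⧸ NZ z1)) by
        rw [sup_comm, e]; exact Subgroup.mem_top q)
    obtain ⟨t, ht⟩ : ∃ t, t = jL D hh hsw D.zb := ⟨_, rfl⟩
    have ht2 : t * t = 1 := ht ▸ K.z2
    have hkt : k * t = t * k := by rw [ht]; exact Subgroup.mem_centralizer_singleton_iff.mp hk
    have hm : q * t * q⁻¹ * t ∈ Cfsg.oddCore (↥(C1 z1) ⧸ NZ z1) := by
      rw [← hok, show o * k * t * (o * k)⁻¹ * t = o * (k * t * k⁻¹) * o⁻¹ * t by group, hkt, mul_inv_cancel_right,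
        mul_assoc (o * t) o⁻¹ t, mul_assoc o t]
      refine mul_mem ho ?_
      have h' := hOn.conj_mem _ (inv_mem ho) t
      rwa [inv_eq_of_mul_eq_one_right ht2, mul_assoc] at h'
    obtain ⟨m, hmc, hmodd⟩ : ∃ m, (q * t * q⁻¹ * t) ^ m = 1 ∧ Odd m :=
      ⟨_, orderOf_dvd_iff_pow_eq_one.mp
        ((Subgroup.orderOf_mk _ hm).symm ▸ orderOf_dvd_natCard (⟨_, hm⟩ : Cfsg.oddCore (↥(C1 z1) ⧸ NZ z1))),
        Char.card_oddCore_odd _⟩
    obtain ⟨x, hx⟩ : ∃ x, x = c * z * c⁻¹ := ⟨_, rfl⟩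
    rw [← hx]
    have hxm : x * z ∈ C1 z1 := hx ▸ (C1 z1).mul_mem ((C1 z1).mul_mem ((C1 z1).mul_mem (mem_C1.mpr hc) hz)
      ((C1 z1).inv_mem (mem_C1.mpr hc))) hz
    have e1 : QuotientGroup.mk' (NZ z1) (⟨x * z, hxm⟩ : ↥(C1 z1)) = q * t * q⁻¹ * t := by
      rw [hq, ht, hzval, ← map_inv, ← map_mul, ← map_mul, ← map_mul]
      exact congrArg (QuotientGroup.mk' (NZ z1)) (Subtype.ext (by show x * z = c * z * c⁻¹ * z; rw [hx]))
    rw [← e1, ← map_pow, ← map_one (QuotientGroup.mk' (NZ z1)), eq_comm, mk_eq D] at hmc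
    rcases hmc with e2 | e2
    · refine Odd.of_dvd_nat hmodd (orderOf_dvd_of_pow_eq_one ?_)
      simpa using e2
    · exfalso
      obtain ⟨j, hj⟩ := hmodd
      have hx2 : x * x = 1 := by
        rw [hx, show c * z * c⁻¹ * (c * z * c⁻¹) = c * (z * z) * c⁻¹ by group, D.sqz]; group
      have e3 : (x * z) ^ (2 * j + 1) = z1 := by simpa [← hj] using e2
      have e4 : (x * z) ^ j * x * ((x * z) ^ j)⁻¹ = z1 * z := by
        rw [dih_conj hx2 D.sqz]
        have : (x * z) ^ (2 * j) = z1 * (x * z)⁻¹ := by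
          rw [← e3, pow_succ, mul_inv_cancel_right]
        rw [this, mul_inv_rev, inv_eq_of_mul_eq_one_right hx2, D.z_inv, mul_assoc, mul_assoc, hx2, mul_one]
      exact not_conj D hh hsw hn1 ((hx ▸ isConj_iff.mpr ⟨c, rfl⟩ : IsConj z x).trans
        (isConj_iff.mpr ⟨_, e4⟩))
  refine ⟨(main_core K hzo CHZ.hF).resolve_right hnot, fun c hc => ?_⟩
  obtain ⟨S, hS⟩ := setup_of_not_split K hzo hnot
  have hperf := perfect_cent S hS
  have hrange : Subgroup.centralizer ({jL D hh hsw D.zb} : Set (↥(C1 z1) ⧸ NZ z1)) = (jL D hh hsw).range := by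
    refine le_antisymm (fun b hb => jL_cent D hh hsw hn1 b (Subgroup.mem_centralizer_singleton_iff.mp hb)) ?_
    rintro _ ⟨a, rfl⟩
    obtain ⟨a, rfl⟩ := QuotientGroup.mk'_surjective D.Z1 a
    rw [Subgroup.mem_centralizer_singleton_iff, ← map_mul, ← map_mul]
    exact congrArg _ ((show Commute a ⟨z, D.Q_le D.zQ⟩ from Subtype.ext a.2.1.eq).map _).eq
  rw [hrange, MonoidHom.range_eq_map, ← Subgroup.map_commutator] at hperf
  have hm : D.cls ⟨c, hc⟩ ∈ ⁅(⊤ : Subgroup D.LQ), (⊤ : Subgroup D.LQ)⁆ := by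
    have := Subgroup.mem_map_of_mem (jL D hh hsw) (Subgroup.mem_top (D.cls ⟨c, hc⟩))
    rw [← hperf] at this
    exact (Subgroup.mem_map_iff_mem (jL_inj D hh hsw)).mp this
  rw [← Subgroup.map_top_of_surjective (QuotientGroup.mk' D.Z1) (QuotientGroup.mk'_surjective _),
    ← Subgroup.map_commutator] at hm
  obtain ⟨l, hl, hlc⟩ := Subgroup.mem_map.mp hm
  have hl' : (l : G) ∈ ⁅D.lin, D.lin⁆ := by
    rw [← Subgroup.map_subtype_commutator D.lin]
    exact Subgroup.mem_map_of_mem _ hl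
  rcases (D.cls_eq (x := ⟨c, hc⟩) (y := l)).mp hlc.symm with e | e
  · exact Or.inl (by rwa [show ((l : G)) = c from e] at hl')
  · exact Or.inr (by rwa [show ((l : G)) = c * z1 from e] at hl')

end Cfsg.Agent.Spor.FiTwo.CaseU
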