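import Cfsg.Agent.Lib.Spor.CHZ.MainCore
import Cfsg.Agent.Lib.Spor.CHZ.DCore

/-!
Tools for the case of a unitary centraliser: transport of the structure along an embedding, perfection of a
centraliser with the structure in the Hermitian case, and the conjugation into an isolated position.
-/

set_option autoImplicit false
set_option linter.unusedSectionVars false

namespace Cfsg.Agent.Spor.FiTwo.CaseU

open Cfsg.Agent.Spor.SpFour Cfsg.Agent.Small.Unitary Cfsg.Agent.Spor.CHZ
open scoped commutatorElement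

universe w u

/-- the structure transported along an embedding keeping the centraliser -/
noncomputable def mapCore {A : Type u} [Group A] {a : A} (K : CHZ.Core a) {B : Type w} [Group B] (j : A →* B)
    (hj : Function.Injective j) (hc : ∀ b, Commute b (j a) → b ∈ j.range) : CHZ.Core (j a) :=
  have hb : ∀ {c : A}, Commute (j c) (j a) → Commute c a := fun {c} h =>
    hj (by rw [map_mul, map_mul]; exact h.eq)
  let e0 : ↥(Subgroup.centralizer ({j a} : Set B)) → A := fun c =>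
    (hc c (Subgroup.mem_centralizer_singleton_iff.mp c.2)).choose
  have he0 : ∀ c : ↥(Subgroup.centralizer ({j a} : Set B)), j (e0 c) = c := fun c =>
    (hc c (Subgroup.mem_centralizer_singleton_iff.mp c.2)).choose_spec
  let e : ↥(Subgroup.centralizer ({j a} : Set B)) →* ↥(Subgroup.centralizer ({a} : Set A)) :=
    MonoidHom.mk' (fun c => ⟨e0 c, Subgroup.mem_centralizer_singleton_iff.mpr (hb (by
        rw [he0]; exact Subgroup.mem_centralizer_singleton_iff.mp c.2)).eq⟩) fun c d => Subtype.ext (hj (by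
      show j (e0 (c * d)) = j (e0 c * e0 d)
      rw [map_mul, he0, he0, he0]
      rfl))
  have he : ∀ c : ↥(Subgroup.centralizer ({j a} : Set B)), j (e c : A) = c := fun c => he0 c
  { Q := K.Q.map j
    ψ := K.ψ.comp e
    ψ_surj := fun g => by
      obtain ⟨c, hc'⟩ := K.ψ_surj g
      refine ⟨⟨j c, Subgroup.mem_centralizer_singleton_iff.mpr ?_⟩, ?_⟩
      · rw [← map_mul, ← map_mul, Subgroup.mem_centralizer_singleton_iff.mp c.2]
      · rw [MonoidHom.comp_apply, ← hc']
        exact congrArg K.ψ (Subtype.ext (hj (he _)))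
    ψ_ker := fun c => by
      rw [MonoidHom.comp_apply, K.ψ_ker, ← he c, Subgroup.mem_map_iff_mem hj]
    z1 := fun h => K.z1 (hj (h.trans (map_one j).symm))
    z2 := by rw [← map_mul, K.z2, map_one]
    cent := by rintro _ ⟨x, hx, rfl⟩; exact (K.cent x hx).map j
    normal := by
      rintro c hcz _ ⟨x, hx, rfl⟩
      obtain ⟨c, rfl⟩ := hc c hcz
      exact ⟨c * x * c⁻¹, K.normal c (hb hcz) x hx, by rw [map_mul, map_mul, map_inv]⟩
    zQ := Subgroup.mem_map_of_mem j K.zQ
    card := by rw [Subgroup.card_map_of_injective hj, K.card]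
    comm := by
      rintro _ ⟨x, hx, rfl⟩ _ ⟨y, hy, rfl⟩
      rw [← map_inv, ← map_inv, ← map_mul, ← map_mul, ← map_mul]
      exact (K.comm x hx y hy).imp (fun e => by rw [e, map_one]) fun e => by rw [e]
    sq := by
      rintro _ ⟨x, hx, rfl⟩
      rw [← map_mul]
      exact (K.sq x hx).imp (fun e => by rw [e, map_one]) fun e => by rw [e]
    center := by
      rintro _ ⟨x, hx, rfl⟩ h
      refine (K.center x hx fun y hy => hj ?_).imp (fun e => by rw [e, map_one]) fun e => by rw [e]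
      rw [map_mul, map_mul]
      exact (h _ (Subgroup.mem_map_of_mem j hy)).eq
    self := by
      intro c hcz h
      obtain ⟨c, rfl⟩ := hc c hcz
      refine Subgroup.mem_map_of_mem j (K.self c (hb hcz) fun x hx => hj ?_)
      rw [map_mul, map_mul]
      exact (h _ (Subgroup.mem_map_of_mem j hx)).eq }

variable {G : Type w} [Group G] [Finite G] {z : G}

/-- in the Hermitian case the centraliser is perfect -/
theorem perfect_cent (S : CHZ.Setup z) (hS : CHZ.Full S) :
    ⁅Subgroup.centralizer ({z} : Set G), Subgroup.centralizer ({z} : Set G)⁆ =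
      Subgroup.centralizer ({z} : Set G) := by
  set C := Subgroup.centralizer ({z} : Set G)
  have hmem : ∀ {c}, Commute c z → c ∈ C := fun h => Subgroup.mem_centralizer_singleton_iff.mpr h.eq
  have hle : ⁅C, C⁆ ≤ C := Subgroup.commutator_le.mpr fun a ha b hb =>
    C.mul_mem (C.mul_mem (C.mul_mem ha hb) (C.inv_mem ha)) (C.inv_mem hb)
  -- every vector is a commutator with a map moving all vectors
  obtain ⟨g, hgz, hg⟩ := S.π_surj rotL
  have hQ : S.Q ≤ ⁅C, C⁆ := by
    have hrot : ∀ v : CHZ.V, ∃ w, rot w + w = v := by decide +kernel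
    intro x hx
    obtain ⟨w, hw⟩ := hrot (S.ν x)
    obtain ⟨y, hy, rfl⟩ := S.ν_surj w
    have hk : g * y * g⁻¹ * y⁻¹ ∈ ⁅C, C⁆ :=
      Subgroup.commutator_mem_commutator (hmem hgz) (hmem (S.cent y hy))
    have hzc : z ∈ ⁅C, C⁆ := by
      obtain ⟨p, hp, q, hq, hpq⟩ : ∃ p ∈ S.Q, ∃ q ∈ S.Q, ¬ Commute p q := by
        obtain ⟨a, b, hab⟩ : ∃ a b : CHZ.V, B a b ≠ 0 := by decide +kernel
        obtain ⟨p, hp, rfl⟩ := S.ν_surj a
        obtain ⟨q, hq, rfl⟩ := S.ν_surj b
        exact ⟨p, hp, q, hq, fun h => hab ((S.ν_comm p hp q hq).mp h)⟩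
      have hk' : p * q * p⁻¹ * q⁻¹ ∈ ⁅C, C⁆ :=
        Subgroup.commutator_mem_commutator (hmem (S.cent p hp)) (hmem (S.cent q hq))
      have hkQ : p * q * p⁻¹ * q⁻¹ ∈ S.Q :=
        S.Q.mul_mem (S.normal p (S.cent p hp) q hq) (S.Q.inv_mem hq)
      have hν : S.ν (p * q * p⁻¹ * q⁻¹) = 0 := by
        rw [S.ν_mul _ (S.normal p (S.cent p hp) q hq) _ (S.Q.inv_mem hq), S.ν_act p (S.cent p hp) q hq,
          (S.π_iff p (S.cent p hp)).mpr hp]
        show S.ν q + S.ν q⁻¹ = 0
        rw [← S.ν_mul q hq _ (S.Q.inv_mem hq), mul_inv_cancel, S.ν_one]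
      rcases (S.ν_zero _ hkQ).mp hν with e | e
      · exact absurd (mul_inv_eq_iff_eq_mul.mp (mul_inv_eq_one.mp e)) hpq
      · exact e ▸ hk'
    have hkQ : g * y * g⁻¹ * y⁻¹ ∈ S.Q := S.Q.mul_mem (S.normal g hgz y hy) (S.Q.inv_mem hy)
    have hyi : S.ν y⁻¹ = S.ν y := by
      have h0 : S.ν y + S.ν y⁻¹ = 0 := by rw [← S.ν_mul y hy _ (S.Q.inv_mem hy), mul_inv_cancel, S.ν_one]
      exact (CHZ.add_cancel' h0).symm
    have hkν : S.ν ((g * y * g⁻¹ * y⁻¹)⁻¹ * x) = 0 := by
      have e : S.ν (g * y * g⁻¹ * y⁻¹) = S.ν x := by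
        rw [S.ν_mul _ (S.normal g hgz y hy) _ (S.Q.inv_mem hy), S.ν_act g hgz y hy, hg, hyi, sp_rot, hw]
      have h0 : S.ν (g * y * g⁻¹ * y⁻¹) + S.ν (g * y * g⁻¹ * y⁻¹)⁻¹ = 0 := by
        rw [← S.ν_mul _ hkQ _ (S.Q.inv_mem hkQ), mul_inv_cancel, S.ν_one]
      rw [S.ν_mul _ (S.Q.inv_mem hkQ) _ hx, ← CHZ.add_cancel' h0, e, CHZ.add_self]
    rw [show x = g * y * g⁻¹ * y⁻¹ * ((g * y * g⁻¹ * y⁻¹)⁻¹ * x) by group]
    refine mul_mem hk ?_
    rcases (S.ν_zero _ (S.Q.mul_mem (S.Q.inv_mem hkQ) hx)).mp hkν with e | e <;> rw [e]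
    exacts [one_mem _, hzc]
  refine le_antisymm hle fun c hc => ?_
  have hcz : Commute c z := Subgroup.mem_centralizer_singleton_iff.mp hc
  obtain ⟨k, hk⟩ := hS c hcz
  -- elements all whose lifts are commutators
  let M : Subgroup L :=
    { carrier := {k | ∀ a, Commute a z → S.π a = sp k → a ∈ ⁅C, C⁆}
      one_mem' := fun a ha e => hQ ((S.π_iff a ha).mp (by rw [e, map_one]))
      mul_mem' := fun {k l} hk hl a ha e => by
        obtain ⟨b, hb, hbl⟩ := S.π_surj l
        rw [show a = a * b⁻¹ * b by group]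
        refine mul_mem (hk _ (ha.mul_left hb.inv_left) ?_) (hl b hb hbl)
        rw [S.π_mul _ _ ha hb.inv_left, S.π_inv hb, e, hbl, map_mul, mul_inv_cancel_right]
      inv_mem' := fun {k} hk a ha e => by
        rw [← inv_inv a]
        exact inv_mem (hk _ ha.inv_left (by rw [S.π_inv ha, e, map_inv, inv_inv])) }
  suffices hM : M = ⊤ from (hM ▸ Subgroup.mem_top k : k ∈ M) c hcz hk
  rw [eq_top_iff, ← L_perfect, commutator_def, Subgroup.commutator_le]
  intro k1 _ k2 _ a ha e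
  obtain ⟨b, hb, hbk⟩ := S.π_surj k1
  obtain ⟨d, hd, hdk⟩ := S.π_surj k2
  have hbd : Commute (b * d * b⁻¹ * d⁻¹) z := ((hb.mul_left hd).mul_left hb.inv_left).mul_left hd.inv_left
  rw [show a = b * d * b⁻¹ * d⁻¹ * ((b * d * b⁻¹ * d⁻¹)⁻¹ * a) by group]
  refine mul_mem (Subgroup.commutator_mem_commutator (hmem hb) (hmem hd)) (hQ ((S.π_iff _
    (hbd.inv_left.mul_left ha)).mp ?_))
  rw [S.π_mul _ _ hbd.inv_left ha, S.π_inv hbd, S.π_mul _ _ ((hb.mul_left hd).mul_left hb.inv_left) hd.inv_left,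
    S.π_mul _ _ (hb.mul_left hd) hb.inv_left, S.π_mul _ _ hb hd, S.π_inv hb, S.π_inv hd, e, hbk, hdk,
    commutatorElement_def, map_mul, map_mul, map_mul, map_inv, map_inv, inv_mul_cancel]

/-- without an odd extension the Hermitian case occurs at the involution -/
theorem setup_of_not_split (K : CHZ.Core z) (hz : orderOf z = 2)
    (hns : Subgroup.centralizer ({z} : Set G) ⊔ Cfsg.oddCore G ≠ ⊤) : ∃ S : CHZ.Setup z, CHZ.Full S := by
  obtain ⟨g, hg⟩ : ∃ g, ¬ (K.conj g).toRep.CaseB := by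
    by_contra hall
    push Not at hall
    refine hns (sup_eq_top_of_isolated hz fun g hc => ?_)
    by_contra hne
    refine CHZ.Core.no_commuting_conjugate (z₀ := z) (fun x hx => ?_) (IsConj.refl z) (isConj_iff.mpr ⟨g, rfl⟩)
      hc.symm hne
    obtain ⟨a, rfl⟩ := isConj_iff.mp hx
    exact ⟨K.conj a, hall a⟩
  obtain ⟨S, hS⟩ := (CHZ.setup_or_caseB (K.conj g)).resolve_right hg
  have key : ∀ {x : G} (T : CHZ.Setup x), CHZ.Full T → x = z → ∃ T : CHZ.Setup z, CHZ.Full T := by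
    intro x T hT e
    subst e
    exact ⟨T, hT⟩
  exact key (S.conj g⁻¹) (hS.conj g⁻¹) (by group)

end Cfsg.Agent.Spor.FiTwo.CaseU
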