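import Cfsg.Agent.Lib.Spor.FiTwo.Data
import Mathlib.Data.Set.Card

/-!
A commuting pair beside the two central involutions: the steps not depending on the module.
-/

set_option autoImplicit false
set_option linter.unusedSectionVars false

namespace Cfsg.Agent.Spor.FiTwo.Data

universe w u

variable {G : Type w} [Group G] {z z1 : G} {M : Type u} [AddCommGroup M] (D : Data z z1 M)
include D

/-- the element moves a member of the subgroup at most along the first involution -/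
def Fz (_D : Data z z1 M) (c n : G) : Prop := c * n * c⁻¹ = n ∨ c * n * c⁻¹ = n * z

theorem z_inv : z⁻¹ = z := inv_eq_of_mul_eq_one_right D.z2

theorem act_one (m : M) : D.act 1 m = m := D.act_Q D.Q.one_mem m

theorem ν_z1 : D.ν z1 = 0 := (D.ν_zero z1 D.z1Q).mpr (Or.inr (Or.inr (Or.inl rfl)))

theorem sq_conj {c : G} (hc : Commute c z) {n : G} (hn : n ∈ D.Q) : c * (n * n) * c⁻¹ = n * n := by
  rcases D.sq n hn with e | e <;> rw [e]
  · group
  · rw [hc.eq, mul_inv_cancel_right]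

theorem act_act {c : G} (hc : D.In0 c) (hc2 : c * c = 1) (m : M) : D.act c (D.act c m) = m := by
  rw [← D.act_mul hc hc, hc2, D.act_one]

theorem fixed_of_range {c : G} (hc : D.In0 c) (hc2 : c * c = 1) {x m : M} (h : x = m + D.act c m) :
    D.act c x = x := by
  rw [h, D.act_add hc, D.act_act hc hc2, add_comm]

theorem fixed_of_comm {c n : G} (hc : D.In0 c) (hn : n ∈ D.Q) (h : Commute c n) :
    D.act c (D.ν n) = D.ν n := by
  rw [D.act_vec c hc.1 hc.2 n hn, h.eq, mul_inv_cancel_right]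

/-- members with vectors in the range are inverted -/
theorem range_inv {c n : G} (hc : D.In0 c) (hc2 : c * c = 1) (hn : n ∈ D.Q) {m : M}
    (h : D.ν n = m + D.act c m) : c * n * c⁻¹ = n⁻¹ := by
  obtain ⟨p, hp, rfl⟩ := D.ν_surj m
  obtain ⟨hkQ, hkν⟩ := D.ν_comm_elem hc hp
  obtain ⟨ζ, hζ, hζ0, e⟩ := D.ν_eq hn hkQ (h.trans hkν.symm)
  rw [e, show c * (c * p * c⁻¹ * p⁻¹ * ζ) * c⁻¹ = c * (c * p * c⁻¹ * p⁻¹) * c⁻¹ * (c * ζ * c⁻¹) by group,
    D.inverted hc2, (D.kernel_comm hζ hζ0 hc).eq, mul_inv_cancel_right]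
  generalize c * p * c⁻¹ * p⁻¹ = k at hkQ
  rw [mul_inv_rev, inv_eq_of_mul_eq_one_right (D.kernel_sq hζ hζ0),
    (D.kernel_comm hζ hζ0 (D.in0_Q (D.Q.inv_mem hkQ))).eq]

/-- members with singular vectors in the range are centralised -/
theorem range_fix {c n : G} (hc : D.In0 c) (hc2 : c * c = 1) (hn : n ∈ D.Q) {m : M}
    (h : D.ν n = m + D.act c m) : Commute c n ↔ n * n = 1 := by
  have e := D.range_inv hc hc2 hn h
  constructor
  · intro hcn
    rw [hcn.eq, mul_inv_cancel_right] at e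
    conv_lhs => arg 1; rw [e]
    exact inv_mul_cancel n
  · intro h2
    rw [inv_eq_of_mul_eq_one_right h2] at e
    exact mul_inv_eq_iff_eq_mul.mp e

/-- they are moved at most along the first involution -/
theorem fz_range {c n : G} (hc : D.In0 c) (hc2 : c * c = 1) (hn : n ∈ D.Q) {m : M}
    (h : D.ν n = m + D.act c m) : D.Fz c n := by
  have e := D.range_inv hc hc2 hn h
  rcases D.sq n hn with h2 | h2
  · exact Or.inl (by rw [e, inv_eq_of_mul_eq_one_right h2])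
  · refine Or.inr (by rw [e]; refine inv_eq_of_mul_eq_one_right ?_; rw [← mul_assoc, h2, D.z2])

theorem fz_mul {c n p : G} (hp : p ∈ D.Q) (h1 : D.Fz c n) (h2 : D.Fz c p) : D.Fz c (n * p) := by
  have e : c * (n * p) * c⁻¹ = c * n * c⁻¹ * (c * p * c⁻¹) := by group
  have hpz : z * p = p * z := (D.cent p hp).eq.symm
  rcases h1 with e1 | e1 <;> rcases h2 with e2 | e2 <;> rw [Fz, e, e1, e2]
  · exact Or.inl rfl
  · exact Or.inr (by rw [mul_assoc])
  · exact Or.inr (by rw [mul_assoc n z, hpz, ← mul_assoc])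
  · exact Or.inl (by rw [mul_assoc n z, ← mul_assoc z, hpz, mul_assoc p, D.z2, mul_one])

theorem fz_congr {c n p : G} (hc : D.In0 c) (hn : n ∈ D.Q) (hp : p ∈ D.Q) (h : D.ν n = D.ν p) (hf : D.Fz c n) :
    D.Fz c p := by
  obtain ⟨ζ, hζ, hζ0, e⟩ := D.ν_eq hp hn h.symm
  rw [e]
  exact D.fz_mul hζ hf (Or.inl (by rw [(D.kernel_comm hζ hζ0 hc).eq, mul_inv_cancel_right]))

/-- invariance of the movement under elements commuting in the action -/
theorem fz_move {c g n : G} (hc : D.In0 c) (hg : D.In0 g) (hn : n ∈ D.Q) (hfix : D.act c (D.ν n) = D.ν n)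
    (hgc : ∀ m, D.act g (D.act c m) = D.act c (D.act g m)) : D.Fz c (g * n * g⁻¹ * n⁻¹) := by
  obtain ⟨j, hj⟩ : ∃ j, j = c⁻¹ * (g * c * g⁻¹) := ⟨_, rfl⟩
  have hj0 : D.In0 j := hj ▸ (hc.inv D).mul D ((hg.mul D hc).mul D (hg.inv D))
  have hjQ : j ∈ D.Q := D.faithful j hj0.1 hj0.2 fun m => by
    rw [hj, D.act_mul (hc.inv D) ((hg.mul D hc).mul D (hg.inv D)), D.act_mul (hg.mul D hc) (hg.inv D),
      D.act_mul hg hc, hgc, D.act_inv hg, D.act_inv' hc]
  obtain ⟨n', hn'⟩ : ∃ n', n' = g * n * g⁻¹ := ⟨_, rfl⟩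
  have hn'Q : n' ∈ D.Q := hn' ▸ D.normal g hg.1 n hn
  rw [D.act_vec c hc.1 hc.2 n hn] at hfix
  obtain ⟨ζ, hζ, hζ0, e⟩ := D.ν_eq (D.normal c hc.1 n hn) hn hfix
  have hζc : ∀ {a : G}, D.In0 a → a * ζ * a⁻¹ = ζ := fun ha => by
    rw [(D.kernel_comm hζ hζ0 ha).eq, mul_inv_cancel_right]
  -- the conjugate element moves the conjugate member in the same way
  have e1 : g * c * g⁻¹ * n' * (g * c * g⁻¹)⁻¹ = n' * ζ := by
    rw [hn', show g * c * g⁻¹ * (g * n * g⁻¹) * (g * c * g⁻¹)⁻¹ = g * (c * n * c⁻¹) * g⁻¹ by group, e,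
      show g * (n * ζ) * g⁻¹ = g * n * g⁻¹ * (g * ζ * g⁻¹) by group, hζc hg]
  have e2 : c * (j * n' * j⁻¹) * c⁻¹ = n' * ζ := by
    rw [← e1, hj]; group
  have e3 : c * n' * c⁻¹ = n' * ζ ∨ c * n' * c⁻¹ = n' * ζ * z := by
    rcases D.conj_eq hjQ hn'Q with h | h <;> rw [h] at e2
    · exact Or.inl e2
    · refine Or.inr ?_
      rw [← e2, show c * (n' * z) * c⁻¹ * z = c * n' * (z * c⁻¹) * z by group, ← hc.1.inv_left.eq,
        show c * n' * (c⁻¹ * z) * z = c * n' * c⁻¹ * (z * z) by group, D.z2, mul_one]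
  have hninv : c * n⁻¹ * c⁻¹ = ζ⁻¹ * n⁻¹ := by
    rw [show c * n⁻¹ * c⁻¹ = (c * n * c⁻¹)⁻¹ by group, e, mul_inv_rev]
  have hζn : ζ⁻¹ * n⁻¹ = n⁻¹ * ζ⁻¹ :=
    ((D.kernel_comm hζ hζ0 (D.in0_Q hn)).inv_left.inv_right).symm.eq
  have hζn2 : ζ * n⁻¹ = n⁻¹ * ζ := ((D.kernel_comm hζ hζ0 (D.in0_Q hn)).inv_left).symm.eq
  have hzn : z * n⁻¹ = n⁻¹ * z := (D.cent n⁻¹ (D.Q.inv_mem hn)).symm.eq
  rw [← hn', Fz, show c * (n' * n⁻¹) * c⁻¹ = c * n' * c⁻¹ * (c * n⁻¹ * c⁻¹) by group, hninv, hζn]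
  rcases e3 with h | h <;> rw [h]
  · exact Or.inl (by rw [mul_assoc n', ← mul_assoc ζ, hζn2, mul_assoc n⁻¹, mul_inv_cancel, mul_one])
  · refine Or.inr ?_
    rw [mul_assoc (n' * ζ), ← mul_assoc z, hzn, mul_assoc n⁻¹, ← mul_assoc (n' * ζ), mul_assoc n' ζ, hζn2,
      mul_assoc n', mul_assoc n', mul_assoc n⁻¹, (D.cent ζ⁻¹ (D.Q.inv_mem hζ)).symm.eq, ← mul_assoc ζ,
      mul_inv_cancel, one_mul]

/-- of a split pair neither member of the second kind lies in the subgroup -/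
theorem not_mem_of_split {y v : G} (hy : D.In0 y) (hy2 : y * y = 1) (hv2 : v * v = 1) (hsp : Split y v)
    (hv0 : ¬ (v ∈ D.Q ∧ D.ν v = 0)) (hyv0 : ¬ (v * y ∈ D.Q ∧ D.ν (v * y) = 0))
    (hy0 : ¬ (y ∈ D.Q ∧ D.ν y = 0)) : v ∉ D.Q := by
  intro hv
  rcases D.split_mem hy hy2 hsp hv hv2 with h | ⟨hyQ, h | h⟩
  · exact hv0 ⟨hv, h⟩
  · exact hy0 ⟨hyQ, h⟩
  · exact hyv0 ⟨D.Q.mul_mem hv hyQ, by rw [D.ν_mul v hv y hyQ, h, D.self_add]⟩

/-- lifting an element of order three to the centraliser of a split pair -/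
theorem split_lift {y v g : G} (hy : D.In0 y) (hv : D.In0 v) (hy2 : y * y = 1) (hv2 : v * v = 1)
    (hsp : Split y v) (hfull : ∀ n ∈ D.Q, D.act v (D.ν n) = D.ν n → Commute n v) (hg : D.In0 g)
    (hg3 : g * g * g ∈ D.Q) (hgv : ∀ m, D.act g (D.act v m) = D.act v (D.act g m))
    (hgy : ∀ m, D.act g (D.act y m) = D.act y (D.act g m)) :
    ∃ c, D.In0 c ∧ Commute c v ∧ Commute c y ∧ ∀ m, D.act c m = D.act g m := by
  obtain ⟨c, hc0, hcv, hact⟩ := D.lift_three hv hv2 hfull hg hg3 hgv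
  refine ⟨c, hc0, hcv, comm_of_one hy2 (eq_one_of_odd D.two ?_ (hsp c hcv)), hact⟩
  have h0 : D.In0 (c * y * c⁻¹) := (hc0.mul D hy).mul D (hc0.inv D)
  refine D.faithful _ (h0.mul D hy).1 (h0.mul D hy).2 fun m => ?_
  rw [D.act_mul h0 hy, D.act_mul (hc0.mul D hy) (hc0.inv D), D.act_mul hc0 hy, hact, hgy,
    ← hact (D.act c⁻¹ _), D.act_inv hc0, D.act_act hy hy2]

/-- a member in the subgroup whose centraliser there is larger: the vector is a commutator, the fixed vectors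
are many and all centralised -/
theorem stepY_setting {y v : G} (hy : y ∈ D.Q) (hy2 : y * y = 1) (hy0 : D.ν y ≠ 0) (hv : D.In0 v)
    (hv2 : v * v = 1) (hvQ : v ∉ D.Q)
    (hsw : ∀ n ∈ D.Q, Commute n y → n * v * n⁻¹ = v ∨ n * v * n⁻¹ = v * y) :
    (∀ n ∈ D.Q, D.act v (D.ν n) = D.ν n → Commute n v) ∧ (∃ m, D.ν y = m + D.act v m) ∧
      64 ≤ {m | D.act v m = m}.ncard := by
  classical
  have hvi : v⁻¹ = v := inv_eq_of_mul_eq_one_right hv2
  obtain ⟨n0, hn0, hn0y, hn0v⟩ : ∃ n0 ∈ D.Q, Commute n0 y ∧ n0 * v * n0⁻¹ = v * y := by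
    by_contra hno
    push Not at hno
    refine hvQ (D.hyper hv hy hy2 fun n hn hny => D.fixed_of_comm hv hn ?_)
    exact (mul_inv_eq_iff_eq_mul.mp ((hsw n hn hny).resolve_right (hno n hn hny))).symm
  obtain ⟨hkQ, hkν⟩ := D.ν_comm_elem hv hn0
  have hk : v * n0 * v⁻¹ * n0⁻¹ = y := by
    rw [hvi, show v * n0 * v * n0⁻¹ = v * (n0 * v * n0⁻¹) by group, hn0v, ← mul_assoc, hv2, one_mul]
  rw [hk] at hkν
  have hfull : ∀ n ∈ D.Q, D.act v (D.ν n) = D.ν n → Commute n v := by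
    intro n hn hfix
    have hny : Commute n y := hk ▸ D.range_comm hv hn hfix hn0
    refine mul_inv_eq_iff_eq_mul.mp ((hsw n hn hny).resolve_right fun e => hy0 ?_)
    have e' : v * n * v⁻¹ * n⁻¹ = y := by
      rw [hvi, show v * n * v * n⁻¹ = v * (n * v * n⁻¹) by group, e, ← mul_assoc, hv2, one_mul]
    rw [← e', (D.ν_comm_elem hv hn).2, hfix, D.self_add]
  refine ⟨hfull, ⟨_, hkν⟩, ?_⟩
  -- four translates of the fixed vectors give everything
  obtain ⟨n1, hn1, hn1y⟩ : ∃ n1 ∈ D.Q, ¬ Commute n1 y := by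
    by_contra hno
    push Not at hno
    refine hy0 (AddSubgroup.mem_bot.mp (D.dperp ⊥ (D.ν y) fun m _ => ?_))
    obtain ⟨n, hn, rfl⟩ := D.ν_surj m
    exact (D.comm_b y hy n hn).mp (hno n hn).symm
  obtain ⟨A, hA⟩ : ∃ A : Set M, A = {m | D.act v m = m} := ⟨_, rfl⟩
  have hcov : ∀ m : M, m ∈ A ∪ (· + D.ν n0) '' A ∪ ((· + D.ν n1) '' A ∪ (· + (D.ν n1 + D.ν n0)) '' A) := by
    intro m
    have step : ∀ p ∈ D.Q, Commute p y → D.ν p ∈ A ∪ (· + D.ν n0) '' A := by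
      intro p hp hpy
      rcases hsw p hp hpy with e | e
      · exact Or.inl (hA ▸ D.fixed_of_comm hv hp (mul_inv_eq_iff_eq_mul.mp e).symm)
      · refine Or.inr ⟨D.ν (p * n0⁻¹), hA ▸ D.fixed_of_comm hv (D.Q.mul_mem hp (D.Q.inv_mem hn0)) ?_, ?_⟩
        · refine (mul_inv_eq_iff_eq_mul.mp ?_).symm
          have e0 : n0⁻¹ * v * n0 = v * y := by
            have h1 : n0⁻¹ * (v * y) * n0 = v := by rw [← hn0v]; group
            calc n0⁻¹ * v * n0 = n0⁻¹ * (v * y) * n0 * (n0⁻¹ * y * n0) := by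
                  rw [show n0⁻¹ * (v * y) * n0 * (n0⁻¹ * y * n0) = n0⁻¹ * (v * (y * y)) * n0 by group, hy2, mul_one]
              _ = v * y := by rw [h1, mul_assoc n0⁻¹, ← hn0y.eq, inv_mul_cancel_left]
          rw [show p * n0⁻¹ * v * (p * n0⁻¹)⁻¹ = p * (n0⁻¹ * v * n0) * p⁻¹ by group, e0,
            show p * (v * y) * p⁻¹ = p * v * p⁻¹ * (p * y * p⁻¹) by group, e, hpy.eq, mul_inv_cancel_right,
            mul_assoc, hy2, mul_one]
        · show D.ν (p * n0⁻¹) + D.ν n0 = D.ν p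
          rw [D.ν_mul p hp _ (D.Q.inv_mem hn0), D.ν_inv hn0, add_assoc, D.self_add, add_zero]
    obtain ⟨p, hp, rfl⟩ := D.ν_surj m
    by_cases hpy : Commute p y
    · exact Or.inl (step p hp hpy)
    · have hq : Commute (p * n1) y := by
        rcases D.conj_eq hp hy with a | a
        · exact absurd (mul_inv_eq_iff_eq_mul.mp a) hpy
        rcases D.conj_eq hn1 hy with a' | a'
        · exact absurd (mul_inv_eq_iff_eq_mul.mp a') hn1y
        refine mul_inv_eq_iff_eq_mul.mp ?_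
        rw [show p * n1 * y * (p * n1)⁻¹ = p * (n1 * y * n1⁻¹) * p⁻¹ by group, a',
          show p * (y * z) * p⁻¹ = p * y * p⁻¹ * (p * z * p⁻¹) by group, a, (D.cent p hp).eq, mul_inv_cancel_right,
          mul_assoc, D.z2, mul_one]
      have e : D.ν p = D.ν (p * n1) + D.ν n1 := by
        rw [D.ν_mul p hp n1 hn1, add_assoc, D.self_add, add_zero]
      rcases step _ (D.Q.mul_mem hp hn1) hq with h | ⟨a, ha, h⟩
      · exact Or.inr (Or.inl ⟨_, h, e.symm⟩)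
      · refine Or.inr (Or.inr ⟨a, ha, ?_⟩)
        show a + (D.ν n1 + D.ν n0) = D.ν p
        dsimp only at h
        rw [e, ← h]
        abel
  haveI : Finite M := Nat.finite_of_card_ne_zero (by rw [D.card]; norm_num)
  have h := Set.ncard_le_ncard (s := Set.univ) fun m _ => hcov m
  rw [Set.ncard_univ, D.card] at h
  have h' := h.trans ((Set.ncard_union_le _ _).trans (Nat.add_le_add (Set.ncard_union_le _ _) (Set.ncard_union_le _ _)))
  rw [Set.ncard_image_of_injective _ (add_left_injective _), Set.ncard_image_of_injective _ (add_left_injective _),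
    Set.ncard_image_of_injective _ (add_left_injective _)] at h'
  subst hA
  omega

end Cfsg.Agent.Spor.FiTwo.Data
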