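import Cfsg.Agent.Lib.Spor.FiTwo.ModelA
import Cfsg.Agent.Lib.Spor.FiTwo.ModelB

/-!
The same data at a conjugate pair.
-/

set_option autoImplicit false
set_option linter.unusedSectionVars false

namespace Cfsg.Agent.Spor.FiTwo

open Cfsg.Agent.Spor.CHZ Cfsg.Agent.Spor.SpFour Cfsg.Agent.Small.Unitary

universe w u

variable {G : Type w} [Group G] {z z1 : G}

theorem conj_back (g x : G) : g⁻¹ * (g * x * g⁻¹) * g = x := by group

theorem comm_back {g c x : G} (h : Commute c (g * x * g⁻¹)) : Commute (g⁻¹ * c * g) x := by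
  simpa [mul_assoc] using h.map (MulAut.conj g⁻¹).toMonoidHom

namespace Data

variable {M : Type u} [AddCommGroup M] (D : Data z z1 M)

/-- the data at a conjugate pair -/
def conj (g : G) : Data (g * z * g⁻¹) (g * z1 * g⁻¹) M where
  Q := D.Q.map (MulAut.conj g).toMonoidHom
  ν x := D.ν (g⁻¹ * x * g)
  act c := D.act (g⁻¹ * c * g)
  b := D.b
  zQ := ⟨z, D.zQ, rfl⟩
  z1Q := ⟨z1, D.z1Q, rfl⟩
  z2 := by rw [show g * z * g⁻¹ * (g * z * g⁻¹) = g * (z * z) * g⁻¹ by group, D.z2]; group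
  w2 := by rw [show g * z1 * g⁻¹ * (g * z1 * g⁻¹) = g * (z1 * z1) * g⁻¹ by group, D.w2]; group
  zne e := D.zne (conj_eq_one_iff.mp e)
  wne e := D.wne (conj_eq_one_iff.mp e)
  hne e := D.hne ((MulAut.conj g).injective e)
  cent := by
    rintro _ ⟨x, hx, rfl⟩
    exact (D.cent x hx).map (MulAut.conj g).toMonoidHom
  cent1 := by
    rintro _ ⟨x, hx, rfl⟩
    exact (D.cent1 x hx).map (MulAut.conj g).toMonoidHom
  normal c hc := by
    rintro _ ⟨x, hx, rfl⟩
    refine ⟨g⁻¹ * c * g * x * (g⁻¹ * c * g)⁻¹, D.normal _ (comm_back hc) x hx, ?_⟩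
    simp only [MulEquiv.coe_toMonoidHom, MulAut.conj_apply]; group
  two := D.two.map _
  self_add := D.self_add
  card := D.card
  b_add := D.b_add
  dperp := D.dperp
  ν_mul := by
    rintro _ ⟨x, hx, rfl⟩ _ ⟨y, hy, rfl⟩
    simpa [mul_assoc] using D.ν_mul x hx y hy
  ν_surj m := by
    obtain ⟨x, hx, h⟩ := D.ν_surj m
    exact ⟨g * x * g⁻¹, ⟨x, hx, rfl⟩, by rw [conj_back, h]⟩
  ν_zero := by
    rintro _ ⟨x, hx, rfl⟩
    simp only [MulEquiv.coe_toMonoidHom, MulAut.conj_apply]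
    rw [conj_back, D.ν_zero x hx, show g * z * g⁻¹ * (g * z1 * g⁻¹) = g * (z * z1) * g⁻¹ by group]
    exact or_congr conj_eq_one_iff.symm (or_congr (MulAut.conj g).injective.eq_iff.symm
      (or_congr (MulAut.conj g).injective.eq_iff.symm (MulAut.conj g).injective.eq_iff.symm))
  comm := by
    rintro _ ⟨x, hx, rfl⟩ _ ⟨y, hy, rfl⟩
    rw [← map_inv, ← map_inv, ← map_mul, ← map_mul, ← map_mul]
    rcases D.comm x hx y hy with e | e <;> rw [e]
    exacts [Or.inl (map_one _), Or.inr rfl]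
  sq := by
    rintro _ ⟨x, hx, rfl⟩
    rw [← map_mul]
    rcases D.sq x hx with e | e <;> rw [e]
    exacts [Or.inl (map_one _), Or.inr rfl]
  act_vec c hc hc1 := by
    rintro _ ⟨x, hx, rfl⟩
    simp only [MulEquiv.coe_toMonoidHom, MulAut.conj_apply]
    rw [conj_back, D.act_vec _ (comm_back hc) (comm_back hc1) x hx]
    congr 1
    group
  faithful c hc hc1 h :=
    ⟨g⁻¹ * c * g, D.faithful _ (comm_back hc) (comm_back hc1) h, by
      simp only [MulEquiv.coe_toMonoidHom, MulAut.conj_apply]; group⟩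
  comm_b := by
    rintro _ ⟨x, hx, rfl⟩ _ ⟨y, hy, rfl⟩
    simp only [MulEquiv.coe_toMonoidHom, MulAut.conj_apply]
    rw [conj_back, conj_back, ← D.comm_b x hx y hy]
    exact ⟨fun h => by simpa [mul_assoc] using h.map (MulAut.conj g⁻¹).toMonoidHom,
      fun h => h.map (MulAut.conj g).toMonoidHom⟩

theorem conj_mem {g x : G} : g * x * g⁻¹ ∈ (D.conj g).Q ↔ x ∈ D.Q :=
  ⟨fun ⟨_, hy, e⟩ => (MulAut.conj g).injective e ▸ hy, fun h => ⟨x, h, rfl⟩⟩

theorem conj_In0 {g c : G} (h : (D.conj g).In0 c) : D.In0 (g⁻¹ * c * g) := ⟨comm_back h.1, comm_back h.2⟩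

theorem conj_In0_to {g c : G} (h : D.In0 c) : (D.conj g).In0 (g * c * g⁻¹) :=
  ⟨h.1.map (MulAut.conj g).toMonoidHom, h.2.map (MulAut.conj g).toMonoidHom⟩

end Data

/-- the Hermitian model at a conjugate pair -/
def ModelA.conj {D : Data z z1 V} (A : ModelA D) (g : G) : ModelA (D.conj g) where
  π c := A.π (g⁻¹ * c * g)
  π_act c hc x := A.π_act _ (D.conj_In0 hc) x
  π_semi c hc := A.π_semi _ (D.conj_In0 hc)
  surj e := by
    obtain ⟨c, hc, h⟩ := A.surj e
    exact ⟨g * c * g⁻¹, D.conj_In0_to hc, fun x => by rw [conj_back, h]⟩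
  sq_iff := by
    rintro _ ⟨x, hx, rfl⟩
    show _ ↔ herm (D.ν _) (D.ν _) = 0
    simp only [MulEquiv.coe_toMonoidHom, MulAut.conj_apply]
    rw [conj_back, ← A.sq_iff x hx, show g * x * g⁻¹ * (g * x * g⁻¹) = g * (x * x) * g⁻¹ by group]
    exact conj_eq_one_iff
  B_iff := A.B_iff

/-- the fixed-plane model at a conjugate pair -/
def ModelB.conj {M : Type u} [AddCommGroup M] [Module (ZMod 2) M] {D : Data z z1 M} (B : ModelB D) (g : G) :
    ModelB (D.conj g) where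
  R := B.R
  caseB := B.caseB
  img c := B.img (g⁻¹ * c * g)
  img_mul c d hc hd := by
    rw [show g⁻¹ * (c * d) * g = g⁻¹ * c * g * (g⁻¹ * d * g) by group]
    exact B.img_mul _ _ (D.conj_In0 hc) (D.conj_In0 hd)
  img_iff c hc := by
    rw [B.img_iff _ (D.conj_In0 hc)]
    conv_rhs => rw [show c = g * (g⁻¹ * c * g) * g⁻¹ by group]
    exact D.conj_mem.symm
  act_lin c hc := B.act_lin _ (D.conj_In0 hc)
  surj e := by
    obtain ⟨c, hc, h⟩ := B.surj e
    exact ⟨g * c * g⁻¹, D.conj_In0_to hc, by rw [conj_back, h]⟩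
  q_iff := by
    rintro _ ⟨x, hx, rfl⟩
    show B.R.q (D.ν _) = 0 ↔ _
    simp only [MulEquiv.coe_toMonoidHom, MulAut.conj_apply]
    rw [conj_back, B.q_iff x hx, show g * x * g⁻¹ * (g * x * g⁻¹) = g * (x * x) * g⁻¹ by group]
    exact conj_eq_one_iff.symm
  b_eq := B.b_eq

end Cfsg.Agent.Spor.FiTwo
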