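import Cfsg.Agent.Lib.Spor.FiTwo.Both
import Cfsg.Agent.Lib.Spor.FiTwo.Build
import Cfsg.Agent.Lib.Spor.CHZ.Isolated

/-!
An involution split from both other central involutions is isolated modulo the core.
-/

set_option autoImplicit false
set_option linter.unusedSectionVars false

namespace Cfsg.Agent.Spor.FiTwo

open Cfsg.Agent.Spor.CHZ Cfsg.Agent.Spor.SpFour Cfsg.Agent.Small.Unitary

universe w u

variable {G : Type w} [Group G] [Finite G] {z z1 : G}

/-- in the swapped case the elements centralising both are linear -/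
theorem lin_of_swap (D : CHZ.DCore z z1) {h : G} (hh : Commute h z) (hs : h * z1 * h⁻¹ = z1 * z) {c : G}
    (hc : Commute c z) (hc1 : Commute c z1) : c ∈ D.lin := by
  have hne : ¬ Commute h z1 := fun e => D.ne_one (by
    rw [e.eq, mul_inv_cancel_right] at hs
    exact left_eq_mul.mp hs)
  have hl : h ∉ D.lin := fun e => hne (D.lin_fix e)
  by_contra hcl
  have hm : h * c ∈ D.lin := ⟨hh.mul_left hc, by
    rw [D.img_mul hh hc]
    exact mul_mem_range.mpr (iff_of_false (fun e => hl ⟨hh, e⟩) fun e => hcl ⟨hc, e⟩)⟩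
  refine hne ?_
  have := (D.lin_fix hm).mul_left hc1.inv_left
  rwa [mul_inv_cancel_right] at this

/-- the isolation when both products are split -/
theorem isolated_of_both (D : CHZ.DCore z z1) (s1 : Split z z1) (s2 : Split z (z1 * z)) (n1 : ¬ IsConj z z1)
    (n2 : ¬ IsConj z (z1 * z)) (fuse : IsConj z1 (z1 * z) → ∃ h, Commute h z ∧ h * z1 * h⁻¹ = z1 * z)
    (hcase : (∀ c, Commute c z → Commute c z1) ∨ ∃ h, Commute h z ∧ h * z1 * h⁻¹ = z1 * z)
    {g : G} (hc : Commute z (g * z * g⁻¹)) : g * z * g⁻¹ = z := by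
  haveI : Finite D.core.Sp := inferInstanceAs (Finite (Additive (D.core.Q ⧸ D.core.N)))
  rcases D.models with ⟨-, B, hB⟩ | ⟨D', hQ, ⟨A⟩⟩
  · have P : Both D.data :=
      { s1 := s1, s2 := s2, n1 := n1, n2 := n2, fuse := fuse
        perm := fun n hn => D.conj_one hn
        step := hcase.imp id fun ⟨h, hh, hs⟩ g y v hy hy2 hy0 hv hv2 hvQ hsp hsw => by
          have hl : B.img (g⁻¹ * v * g) ∈ ι.range := by
            rw [hB]
            exact (lin_of_swap D hh hs (D.data.conj_In0 hv).1 (D.data.conj_In0 hv).2).2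
          obtain ⟨i, hi⟩ := hl
          exact (B.conj g).stepY hy hy2 hy0 hv hv2 hvQ (i := i) hi.symm hsp hsw
        faith := fun y hy h => D.faith hy h
        out := fun g hy hv hyQ hvQ hwQ hz' h1' h2' hC => by
          have hw : g * z1 * g⁻¹ * (g * z * g⁻¹) = g * (z1 * z) * g⁻¹ := by group
          exact B.outside hy hv (D.data.conj g).z2 (D.data.conj g).w2
            ((D.data.cent1 z D.zQ).map (MulAut.conj g).toMonoidHom) hyQ hvQ hwQ (s1.conj g) (hw ▸ s2.conj g) hC
            (B.conj g) hz' h1' h2' }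
    exact P.isolated hc
  · have P : Both D' :=
      { s1 := s1, s2 := s2, n1 := n1, n2 := n2, fuse := fuse
        perm := fun n hn => D.conj_one hn
        step := hcase.imp id fun _ g y v hy hy2 hy0 hv hv2 hvQ hsp hsw =>
          (A.conj g).stepY hy hy2 hy0 hv hv2 hvQ hsp hsw
        faith := fun y hy h => hQ ▸ D.faith hy fun m hm => h m (hQ ▸ hm)
        out := fun g hy hv hyQ hvQ hwQ _ _ _ hC => by
          have hw : g * z1 * g⁻¹ * (g * z * g⁻¹) = g * (z1 * z) * g⁻¹ := by group
          exact A.outside hy hv (D'.conj g).z2 (D'.conj g).w2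
            ((D.cent1 z D.zQ).map (MulAut.conj g).toMonoidHom) hyQ hvQ hwQ (hw ▸ s2.conj g) hC }
    exact P.isolated hc

/-- the centraliser covers the group modulo the core -/
theorem top_of_both (D : CHZ.DCore z z1) (hz : orderOf z = 2) (s1 : Split z z1) (s2 : Split z (z1 * z))
    (n1 : ¬ IsConj z z1) (n2 : ¬ IsConj z (z1 * z))
    (fuse : IsConj z1 (z1 * z) → ∃ h, Commute h z ∧ h * z1 * h⁻¹ = z1 * z)
    (hcase : (∀ c, Commute c z → Commute c z1) ∨ ∃ h, Commute h z ∧ h * z1 * h⁻¹ = z1 * z) :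
    Subgroup.centralizer ({z} : Set G) ⊔ Cfsg.oddCore G = ⊤ :=
  CHZ.sup_eq_top_of_isolated hz fun _ hc => isolated_of_both D s1 s2 n1 n2 fuse hcase hc

end Cfsg.Agent.Spor.FiTwo
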