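import Cfsg.Agent.Lib.Spor.CHZ.DCore
import Cfsg.Prelude.Def_TwoFusion
import Cfsg.Prelude.Def_Transfer

/-!
The two-core of an involution centraliser as a direct product of a group of order two and an extraspecial one.
-/

set_option autoImplicit false
set_option linter.unusedSectionVars false

namespace Cfsg.Agent.Spor.FiTwo

open Cfsg.Agent.Spor.CHZ Cfsg.Agent.Spor.SpFour

universe w

/-- the structure from the direct decomposition -/
theorem exists_dcore {G : Type w} [Group G] [Finite G] (z : G) (hz : orderOf z = 2)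
    (A E J : Subgroup ↥(Subgroup.centralizer ({z} : Set G))) [hJn : J.Normal]
    (hAE : Cfsg.IsInternalDirectProduct A E J) (hA : Nat.card ↥A = 2) (hE : Cfsg.IsExtraspecial 2 ↥E)
    (hEc : Nat.card ↥E = 2 ^ 9) (zc : ↥(Subgroup.centralizer ({z} : Set G))) (hzc : (zc : G) = z)
    (hJ' : ⁅J, J⁆ = Subgroup.zpowers zc)
    (hCJ : Subgroup.centralizer (J : Set ↥(Subgroup.centralizer ({z} : Set G))) ≤ J)
    (θ : (↥(Subgroup.centralizer ({z} : Set G)) ⧸ J) ≃* ↥Gam) :
    ∃ (z1 : G) (_ : DCore z z1), ∀ u, u = z1 ∨ u = z1 * z →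
      orderOf u = 2 ∧ u ∉ Subgroup.zpowers z ∧ ∃ h₁ : u ∈ Subgroup.centralizer ({z} : Set G),
        (⟨u, h₁⟩ : ↥(Subgroup.centralizer ({z} : Set G))) ∈ J ∧ ∀ j ∈ J, j * ⟨u, h₁⟩ = ⟨u, h₁⟩ * j := by
  classical
  obtain ⟨hAJ, hEJ, hcomm, hdisj, hsup⟩ := hAE
  have hz2 : z * z = 1 := by rw [← pow_two, ← hz, pow_orderOf_eq_one]
  have hz1 : z ≠ 1 := fun h => by rw [h, orderOf_one] at hz; omega
  have hzc2 : zc * zc = 1 := Subtype.ext (by rw [Subgroup.coe_mul, hzc, hz2]; rfl)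
  have hzcne : zc ≠ 1 := fun h => hz1 (by rw [← hzc, h]; rfl)
  have hzall : ∀ c : ↥(Subgroup.centralizer ({z} : Set G)), c * zc = zc * c := fun c => Subtype.ext (by
    rw [Subgroup.coe_mul, Subgroup.coe_mul, hzc]
    exact Subgroup.mem_centralizer_singleton_iff.mp c.2)
  have hzp : ∀ {x}, x ∈ Subgroup.zpowers zc → x = 1 ∨ x = zc := by
    intro x hx
    obtain ⟨k, rfl⟩ := Subgroup.mem_zpowers_iff.mp hx
    rcases Int.even_or_odd' k with ⟨j, rfl | rfl⟩
    · left; rw [zpow_mul, zpow_two, hzc2, one_zpow]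
    · right; rw [zpow_add, zpow_mul, zpow_two, hzc2, one_zpow, one_mul, zpow_one]
  -- the centre of the extraspecial factor
  obtain ⟨p, q, hpq, huniv⟩ := Nat.card_eq_two_iff.mp hE.2
  have htwo : ∀ x : Subgroup.center ↥E, x = p ∨ x = q := fun x => by
    have := huniv ▸ Set.mem_univ x
    simpa using this
  have hcz : ∀ x ∈ (commutator ↥E).map E.subtype, x = 1 ∨ x = zc := by
    intro x hx
    rw [Subgroup.map_subtype_commutator] at hx
    exact hzp (hJ' ▸ Subgroup.commutator_mono hEJ hEJ hx)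
  rw [hE.1.2.2] at hcz
  have hzE : ∃ h : zc ∈ E, (⟨zc, h⟩ : ↥E) ∈ Subgroup.center ↥E := by
    obtain ⟨r, hr⟩ : ∃ r : Subgroup.center ↥E, r ≠ 1 :=
      if h : p = 1 then ⟨q, fun e => hpq (h.trans e.symm)⟩ else ⟨p, h⟩
    rcases hcz _ ⟨(r : ↥E), r.2, rfl⟩ with e | e
    · exact absurd (Subtype.ext (Subtype.ext e)) hr
    · have he : ((r : ↥E) : ↥(Subgroup.centralizer ({z} : Set G))) = zc := e
      subst he
      exact ⟨(r : ↥E).2, r.2⟩
  have hcE : ∀ x : ↥E, x ∈ Subgroup.center ↥E → (x : ↥(Subgroup.centralizer ({z} : Set G))) = 1 ∨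
      (x : ↥(Subgroup.centralizer ({z} : Set G))) = zc := fun x hx => hcz _ ⟨x, hx, rfl⟩
  have hsqE : ∀ x : ↥E, x * x ∈ Subgroup.center ↥E := fun x => Subgroup.mem_center_iff.mpr fun b => by
    have hk : ∀ k : ↥E, k ∈ Subgroup.center ↥E → k * k = 1 := fun k hk => by
      rcases hcE k hk with e | e <;> refine Subtype.ext ?_
      · rw [Subgroup.coe_mul, e, one_mul]; rfl
      · rw [Subgroup.coe_mul, e, hzc2]; rfl
    obtain ⟨k, hk'⟩ : ∃ k, k = x * b * x⁻¹ * b⁻¹ := ⟨_, rfl⟩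
    have hkc : k ∈ Subgroup.center ↥E := by
      rw [hk', ← hE.1.2.2]
      exact Subgroup.commutator_mem_commutator (Subgroup.mem_top x) (Subgroup.mem_top b)
    have e1 : x * b * x⁻¹ = k * b := by rw [hk']; group
    symm
    calc x * x * b = x * (x * b * x⁻¹) * x⁻¹ * (x * x) := by group
      _ = x * (k * b) * x⁻¹ * (x * x) := by rw [e1]
      _ = x * k * x⁻¹ * (x * b * x⁻¹) * (x * x) := by group
      _ = k * (k * b) * (x * x) := by rw [e1, Subgroup.mem_center_iff.mp hkc x, mul_inv_cancel_right]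
      _ = b * (x * x) := by rw [← mul_assoc k, hk k hkc, one_mul]
  -- the factor of order two
  obtain ⟨a, a', haa, hAuniv⟩ := Nat.card_eq_two_iff.mp hA
  have hAtwo : ∀ x : ↥A, x = a ∨ x = a' := fun x => by
    have := hAuniv ▸ Set.mem_univ x
    simpa using this
  obtain ⟨⟨α, hαA⟩, hα⟩ : ∃ r : ↥A, r ≠ 1 := if h : a = 1 then ⟨a', fun e => haa (h.trans e.symm)⟩ else ⟨a, h⟩
  have hα1 : α ≠ 1 := fun e => hα (Subtype.ext e)
  have hA2 : ∀ x ∈ A, x = 1 ∨ x = α := fun x hx => by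
    rcases hAtwo ⟨x, hx⟩ with h | h <;> rcases hAtwo 1 with h1 | h1 <;> rcases hAtwo ⟨α, hαA⟩ with h2 | h2
    all_goals first
      | exact Or.inl (congrArg Subtype.val (h.trans h1.symm))
      | exact Or.inr (congrArg Subtype.val (h.trans h2.symm))
      | exact absurd (h2.trans h1.symm) hα
  have hα2 : α * α = 1 := (hA2 _ (A.mul_mem hαA hαA)).resolve_right fun e => hα1 (mul_eq_left.mp e)
  have hαzc : α ≠ zc := fun e => by
    obtain ⟨h, -⟩ := hzE
    exact hα1 (Subgroup.mem_bot.mp (hdisj ▸ ⟨hαA, (e ▸ h : α ∈ E)⟩))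
  have hdec : ∀ x ∈ J, ∃ r ∈ A, ∃ s ∈ E, x = r * s := by
    let S : Subgroup ↥(Subgroup.centralizer ({z} : Set G)) :=
      { carrier := {x | ∃ r ∈ A, ∃ s ∈ E, x = r * s}
        one_mem' := ⟨1, A.one_mem, 1, E.one_mem, (one_mul 1).symm⟩
        mul_mem' := by
          rintro _ _ ⟨r, hr, s, hs, rfl⟩ ⟨r', hr', s', hs', rfl⟩
          exact ⟨r * r', A.mul_mem hr hr', s * s', E.mul_mem hs hs', by
            rw [mul_assoc r, ← mul_assoc s, ← hcomm r' hr' s hs]; group⟩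
        inv_mem' := by
          rintro _ ⟨r, hr, s, hs, rfl⟩
          exact ⟨r⁻¹, A.inv_mem hr, s⁻¹, E.inv_mem hs, by
            rw [mul_inv_rev, hcomm r⁻¹ (A.inv_mem hr) s⁻¹ (E.inv_mem hs)]⟩ }
    intro x hx
    have hle : A ⊔ E ≤ S := sup_le (fun r hr => ⟨r, hr, 1, E.one_mem, (mul_one r).symm⟩)
      fun s hs => ⟨1, A.one_mem, s, hs, (one_mul s).symm⟩
    exact hle (hsup.symm ▸ hx)
  have hαcent : ∀ j ∈ J, j * α = α * j := by
    intro j hj
    obtain ⟨r, hr, s, hs, rfl⟩ := hdec j hj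
    rw [mul_assoc, ← hcomm α hαA s hs, ← mul_assoc]
    rcases hA2 r hr with e | e <;> rw [e]
    · rw [one_mul, one_mul]
    · rw [mul_assoc]
  have hzJ : zc ∈ J := hEJ hzE.1
  have hcardJ : Nat.card ↥J = 1024 := by
    have hbij : Function.Bijective (fun v : ↥A × ↥E =>
        (⟨(v.1 : ↥(Subgroup.centralizer ({z} : Set G))) * v.2, J.mul_mem (hAJ v.1.2) (hEJ v.2.2)⟩ : ↥J)) := by
      refine ⟨fun v v' e => ?_, fun j => ?_⟩
      · have e' : (v.1 : ↥(Subgroup.centralizer ({z} : Set G))) * v.2 = v'.1 * v'.2 := congrArg Subtype.val e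
        have h1 : ((v'.1⁻¹ * v.1 : ↥A) : ↥(Subgroup.centralizer ({z} : Set G))) = (v'.2 : ↥(Subgroup.centralizer ({z} : Set G))) * (v.2 : ↥(Subgroup.centralizer ({z} : Set G)))⁻¹ := by
          rw [Subgroup.coe_mul, Subgroup.coe_inv, inv_mul_eq_iff_eq_mul, ← mul_assoc, ← e', mul_inv_cancel_right]
        have h2 : ((v'.1⁻¹ * v.1 : ↥A) : ↥(Subgroup.centralizer ({z} : Set G))) = 1 :=
          Subgroup.mem_bot.mp (hdisj ▸ ⟨(v'.1⁻¹ * v.1).2, h1 ▸ E.mul_mem v'.2.2 (E.inv_mem v.2.2)⟩)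
        have h3 : v.1 = v'.1 := (inv_mul_eq_one.mp (Subtype.ext h2)).symm
        exact Prod.ext h3 (Subtype.ext (mul_left_cancel (h3 ▸ e')))
      · obtain ⟨r, hr, s, hs, e⟩ := hdec j j.2
        exact ⟨(⟨r, hr⟩, ⟨s, hs⟩), Subtype.ext e.symm⟩
    rw [← Nat.card_congr (Equiv.ofBijective _ hbij), Nat.card_prod, hA, hEc]
    norm_num
  have hcent : ∀ x ∈ J, (∀ y ∈ J, x * y = y * x) → x = 1 ∨ x = zc ∨ x = α ∨ x = α * zc := by
    intro x hx hcx
    obtain ⟨r, hr, s, hs, rfl⟩ := hdec x hx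
    have hsc : (⟨s, hs⟩ : ↥E) ∈ Subgroup.center ↥E := Subgroup.mem_center_iff.mpr fun b => Subtype.ext (by
      have h := hcx b (hEJ b.2)
      rw [← mul_assoc, ← hcomm r hr _ b.2, mul_assoc, mul_assoc] at h
      exact (mul_left_cancel h).symm)
    rcases hA2 r hr with e | e <;> rcases hcE _ hsc with e' | e' <;> rw [e, show s = _ from e']
    · exact Or.inl (one_mul 1)
    · exact Or.inr (Or.inl (one_mul zc))
    · exact Or.inr (Or.inr (Or.inl (mul_one α)))
    · exact Or.inr (Or.inr (Or.inr rfl))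
  have hsqJ : ∀ x ∈ J, x * x = 1 ∨ x * x = zc := by
    intro x hx
    obtain ⟨r, hr, s, hs, rfl⟩ := hdec x hx
    have hr2 : r * r = 1 := by
      rcases hA2 r hr with e | e <;> rw [e]
      · exact one_mul 1
      · exact hα2
    rw [show r * s * (r * s) = r * (s * r) * s by group, ← hcomm r hr s hs, ← mul_assoc r r, hr2, one_mul]
    exact hcE ⟨s * s, E.mul_mem hs hs⟩ (hsqE ⟨s, hs⟩)
  obtain ⟨Q, hQ⟩ : ∃ Q : Subgroup G, Q = J.map (Subgroup.centralizer ({z} : Set G)).subtype := ⟨_, rfl⟩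
  have hmemQ : ∀ {x}, x ∈ Q → ∃ a ∈ J, ((a : ↥(Subgroup.centralizer ({z} : Set G))) : G) = x := fun hx => by
    obtain ⟨a, ha, rfl⟩ := hQ ▸ hx
    exact ⟨a, ha, rfl⟩
  have hQmem : ∀ {a : ↥(Subgroup.centralizer ({z} : Set G))}, a ∈ J → (a : G) ∈ Q := fun {a} ha => hQ ▸ ⟨a, ha, rfl⟩
  have hzcent : ∀ c : ↥(Subgroup.centralizer ({z} : Set G)), Commute (c : G) z := fun c =>
    Subgroup.mem_centralizer_singleton_iff.mp c.2
  have hdist : ∀ {u : ↥(Subgroup.centralizer ({z} : Set G))}, u = α ∨ u = α * zc → u ≠ 1 ∧ u ≠ zc ∧ u * u = 1 := by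
    rintro u (rfl | rfl)
    · exact ⟨hα1, hαzc, hα2⟩
    · refine ⟨fun e => hαzc ((mul_eq_one_iff_eq_inv.mp e).trans (inv_eq_of_mul_eq_one_right hzc2)),
        fun e => hα1 (mul_eq_right.mp e), ?_⟩
      rw [show α * zc * (α * zc) = α * (zc * α) * zc by group, ← hzall α, ← mul_assoc α α, hα2, one_mul, hzc2]
  refine ⟨(α : G),
    { Q := Q
      ψ := θ.toMonoidHom.comp (QuotientGroup.mk' J)
      ψ_surj := θ.surjective.comp (QuotientGroup.mk'_surjective J)
      ψ_ker := fun c => by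
        rw [MonoidHom.comp_apply]
        show θ _ = 1 ↔ _
        rw [MulEquiv.map_eq_one_iff, QuotientGroup.mk'_apply, QuotientGroup.eq_one_iff, hQ]
        exact ⟨fun h => ⟨c, h, rfl⟩, fun ⟨a, ha, h⟩ => Subtype.ext h ▸ ha⟩
      ne_one := hz1
      sqz := hz2
      one_ne := fun e => hα1 (Subtype.ext e)
      sq1 := congrArg Subtype.val hα2
      ne_z := fun e => hαzc (Subtype.ext (e.trans hzc.symm))
      cent := fun x hx => by obtain ⟨a, -, rfl⟩ := hmemQ hx; exact hzcent a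
      cent1 := fun x hx => by
        obtain ⟨a, ha, rfl⟩ := hmemQ hx
        exact congrArg Subtype.val (hαcent a ha)
      normal := fun c hc x hx => by
        obtain ⟨a, ha, rfl⟩ := hmemQ hx
        exact hQmem (hJn.conj_mem a ha
          (⟨c, Subgroup.mem_centralizer_singleton_iff.mpr hc.eq⟩ : ↥(Subgroup.centralizer ({z} : Set G))))
      zQ := hzc ▸ hQmem hzJ
      oneQ := hQmem (hAJ hαA)
      card := by rw [hQ, Subgroup.card_map_of_injective Subtype.val_injective, hcardJ]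
      comm := fun x hx y hy => by
        obtain ⟨a, ha, rfl⟩ := hmemQ hx
        obtain ⟨b, hb, rfl⟩ := hmemQ hy
        have h : a * b * a⁻¹ * b⁻¹ ∈ Subgroup.zpowers zc := hJ' ▸ Subgroup.commutator_mem_commutator ha hb
        rcases hzp h with h | h
        · exact Or.inl (congrArg Subtype.val h)
        · exact Or.inr ((congrArg Subtype.val h).trans hzc)
      sq := fun x hx => by
        obtain ⟨a, ha, rfl⟩ := hmemQ hx
        rcases hsqJ a ha with h | h
        · exact Or.inl (congrArg Subtype.val h)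
        · exact Or.inr ((congrArg Subtype.val h).trans hzc)
      center := fun x hx h => by
        obtain ⟨a, ha, rfl⟩ := hmemQ hx
        rcases hcent a ha (fun b hb => Subtype.ext (h _ (hQmem hb)).eq) with h' | h' | h' | h' <;> rw [h']
        · exact Or.inl rfl
        · exact Or.inr (Or.inl hzc)
        · exact Or.inr (Or.inr (Or.inl rfl))
        · exact Or.inr (Or.inr (Or.inr (by rw [Subgroup.coe_mul, hzc])))
      self := fun c hc h => by
        exact hQmem (a := ⟨c, Subgroup.mem_centralizer_singleton_iff.mpr hc.eq⟩) (hCJ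
          (Subgroup.mem_centralizer_iff.mpr fun a ha => Subtype.ext (h _ (hQmem ha)).symm.eq)) }, ?_⟩
  intro u hu
  obtain ⟨v, hv, rfl⟩ : ∃ v : ↥(Subgroup.centralizer ({z} : Set G)), (v = α ∨ v = α * zc) ∧ (v : G) = u := by
    rcases hu with rfl | rfl
    · exact ⟨α, Or.inl rfl, rfl⟩
    · exact ⟨α * zc, Or.inr rfl, by rw [Subgroup.coe_mul, hzc]⟩
  obtain ⟨hv1, hvz, hv2⟩ := hdist hv
  refine ⟨?_, fun hm => ?_, v.2, ?_, ?_⟩
  · refine orderOf_eq_prime ?_ fun e => hv1 (Subtype.ext e)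
    rw [pow_two]
    exact congrArg Subtype.val hv2
  · have hm' : v ∈ Subgroup.zpowers zc := by
      obtain ⟨k, hk⟩ := Subgroup.mem_zpowers_iff.mp hm
      exact Subgroup.mem_zpowers_iff.mpr ⟨k, Subtype.ext (by rw [Subgroup.coe_zpow, hzc]; exact hk)⟩
    rcases hzp hm' with e | e
    exacts [hv1 e, hvz e]
  · rcases hv with e | e <;> rw [show (⟨(v : G), v.2⟩ : ↥(Subgroup.centralizer ({z} : Set G))) = v from rfl, e]
    exacts [hAJ hαA, J.mul_mem (hAJ hαA) hzJ]
  · intro j hj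
    show j * v = v * j
    rcases hv with e | e <;> rw [e]
    · exact hαcent j hj
    · rw [← mul_assoc, hαcent j hj, mul_assoc, hzall j, ← mul_assoc]

end Cfsg.Agent.Spor.FiTwo
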